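import Cfsg.Agent.H41.LFi.Perfect
import Cfsg.Agent.H41.LFi.Core
import Cfsg.Agent.H41.LFi.Orbits

/-!
The semilinear maps preserving the classes of vectors: the model has index at most four, with a
transvection and the coordinatewise field automorphism outside, and squares inside.
-/

set_option autoImplicit false
set_option Elab.async false
set_option maxRecDepth 100000
set_option maxHeartbeats 1000000

namespace Cfsg.Agent.H92.Fi24Std

open Cfsg Cfsg.Agent.Compute Cfsg.Agent.Unitary Cfsg.Agent.H41.SUSix Cfsg.Agent.H41.LFi Matrix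

attribute [local irreducible] clsC scalC mapsC sift invPerm H95.UFourThree.u43Chain

theorem inv_apply {a : Equiv.Perm Vec} (u : Vec) : a (a⁻¹ u) = u := a.apply_symm_apply u

/-- The semilinear maps preserving the classes. -/
def NS : Subgroup (Equiv.Perm Vec) where
  carrier := {a | (∃ θ, Semi θ a) ∧ ∀ u, cls (a u) = cls u}
  one_mem' := ⟨⟨false, semi_id⟩, fun _ => rfl⟩
  mul_mem' := by
    rintro a b ⟨⟨θ, ha⟩, ca⟩ ⟨⟨θ', hb⟩, cb⟩
    exact ⟨⟨_, ha.comp hb⟩, fun u => (ca _).trans (cb u)⟩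
  inv_mem' := by
    rintro a ⟨⟨θ, ha⟩, ca⟩
    refine ⟨⟨θ, fun u v => a.injective ?_, fun c u => a.injective ?_⟩, fun u => ?_⟩
    · rw [ha.add, inv_apply, inv_apply, inv_apply]
    · rw [ha.smul, inv_apply, inv_apply, tw_tw, Bool.xor_self]
      rfl
    · conv_rhs => rw [← a.apply_symm_apply u]
      exact (ca _).symm

theorem mem_NS {a : Equiv.Perm Vec} :
    a ∈ NS ↔ (∃ θ, Semi θ a) ∧ ∀ u, cls (a u) = cls u := Iff.rfl

theorem Kl_le_NS : Kl ≤ NS := fun _ hk => ⟨⟨false, semi_of_mem_Kl hk⟩, cls_Kl hk⟩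

theorem wt_NS {a : Equiv.Perm Vec} (ha : a ∈ NS) (u : Vec) : wt (a u) = wt u := by
  have h : wt (a u) = 1 ↔ wt u = 1 := by rw [← cls_one_iff, ← cls_one_iff, ha.2 u]
  have key : ∀ x y : ZMod 2, (x = 1 ↔ y = 1) → x = y := by decide
  exact key _ _ h

/-- The linear ones. -/
def LN : Subgroup (Equiv.Perm Vec) where
  carrier := {a | a ∈ NS ∧ Semi false a}
  one_mem' := ⟨one_mem _, semi_id⟩
  mul_mem' := fun ha hb => ⟨mul_mem ha.1 hb.1, ha.2.comp hb.2⟩
  inv_mem' := by
    rintro a ⟨hn, ha⟩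
    refine ⟨inv_mem hn, fun u v => a.injective ?_, fun c u => a.injective ?_⟩
    · rw [ha.add, inv_apply, inv_apply, inv_apply]
    · rw [ha.smul, inv_apply, inv_apply]
      rfl

theorem LN_le_NS : LN ≤ NS := fun _ h => h.1

theorem Kl_le_LN : Kl ≤ LN := fun _ hk => ⟨Kl_le_NS hk, semi_of_mem_Kl hk⟩

theorem herm_LN {a : Equiv.Perm Vec} (ha : a ∈ LN) (u v : Vec) :
    hermForm 6 K4 2 (a u) (a v) = hermForm 6 K4 2 u v :=
  herm_of_wt ha.2 (wt_NS ha.1) u v

/-! ### The two outer elements -/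

/-- The transvection at the root of the first class: the exchange of the first two coordinates. -/
noncomputable def tauP : Equiv.Perm Vec := lin (pmG (Equiv.swap 0 1))

theorem tau_apply (u : Vec) : tauP u = fun i => u (Equiv.swap 0 1 i) := by
  funext i
  rw [tauP, lin_apply, ap_def, mat_pmG]
  obtain ⟨j, rfl⟩ := (Equiv.swap (0 : Fin 6) 1).surjective i
  rw [mono_mulVec, one_mul, Equiv.swap_apply_self]

/-- The field automorphism in the coordinates. -/
def frP : Equiv.Perm Vec where
  toFun u := fun i => u i * u i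
  invFun u := fun i => u i * u i
  left_inv u := funext fun i => by
    have key : ∀ x : K4, x * x * (x * x) = x := by decide +kernel
    exact key _
  right_inv u := funext fun i => by
    have key : ∀ x : K4, x * x * (x * x) = x := by decide +kernel
    exact key _

theorem fr_code : ∀ v : Fin 4096, clsC (eV (fun i => dV v i * dV v i)) = clsC v := by
  decide +kernel

theorem tau_code : ∀ v : Fin 4096, clsC (eV (fun i => dV v (Equiv.swap 0 1 i))) = clsC v := by
  decide +kernel

theorem semi_frP : Semi true frP := by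
  have key : ∀ c x : K4, c * x * (c * x) = tw true c * (x * x) := by decide +kernel
  have kadd : ∀ x y : K4, (x + y) * (x + y) = x * x + y * y := by decide +kernel
  exact ⟨fun u v => funext fun i => kadd _ _, fun c u => funext fun i => key _ _⟩

theorem frP_mem : frP ∈ NS := by
  refine ⟨⟨true, semi_frP⟩, fun u => ?_⟩
  have h := fr_code ⟨eV u, eV_lt u⟩
  simp only [dV_eV] at h
  exact h

theorem tauP_mem : tauP ∈ LN := by
  refine ⟨⟨⟨false, semi_lin _⟩, fun u => ?_⟩, semi_lin _⟩
  have h := tau_code ⟨eV u, eV_lt u⟩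
  simp only [dV_eV] at h
  show clsC (eV (tauP u)) = _
  rw [tau_apply]
  exact h

theorem tauP_notMem : tauP ∉ Kl := by
  rintro ⟨g, hg, e⟩
  exact pm_swap_notMem (lin_injective e ▸ hg)

theorem tauP_sq : tauP * tauP = 1 := Equiv.ext fun u => by
  rw [Equiv.Perm.mul_apply, tau_apply, tau_apply]
  funext i
  exact congrArg u (Equiv.swap_apply_self _ _ i)

theorem frP_sq : frP * frP = 1 := Equiv.ext fun u => frP.left_inv u

theorem tauP_frP : tauP * frP = frP * tauP := Equiv.ext fun u => by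
  rw [Equiv.Perm.mul_apply, Equiv.Perm.mul_apply, tau_apply, tau_apply]
  rfl

/-! ### The linear part -/

theorem mem_or {a : Equiv.Perm Vec} (ha : a ∈ LN) : a ∈ Kl ∨ a * tauP ∈ Kl := by
  have he0 : cls (a (eb 0)) = 1 := by
    rw [ha.1.2]
    exact (facts _).1.2 (by rw [eb, herm_single_single hK, if_pos rfl])
  obtain ⟨k, hk, ek⟩ := reach (root := 1) (by norm_num) (Or.inl ⟨rfl, rfl⟩) _ (eV_lt _) he0
  rw [← root_code.1, dV_eV, dV_eV] at ek
  set b := (lin k)⁻¹ * a with hb
  have hkL : lin k ∈ Kl := Subgroup.mem_map_of_mem _ hk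
  have hbL : b ∈ LN := mul_mem (inv_mem (Kl_le_LN hkL)) ha
  have hb0 : b (eb 0) = eb 0 := by
    rw [hb, Equiv.Perm.mul_apply, ← ek]
    exact (lin k).symm_apply_apply _
  -- every basis vector goes to a vector with one non-zero coordinate
  have hone : ∀ j, ∃ r, ∀ i, i ≠ r → b (eb j) i = 0 := by
    intro j
    by_cases hj : j = 0
    · subst hj
      exact ⟨0, fun i hi => by rw [hb0, eb, Pi.single_eq_of_ne hi]⟩
    obtain ⟨-, -, -, -, h5⟩ := cls_facts ⟨eV (b (eb j)), eV_lt _⟩
    simp only [dV_eV] at h5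
    refine h5 ?_
    have h1 : cls (b (eb j)) = 1 := by
      rw [hbL.1.2]
      exact (facts _).1.2 (by rw [eb, herm_single_single hK, if_pos rfl])
    have hz : b (eb j) 0 = 0 := by
      have h := herm_LN hbL (eb j) (eb 0)
      rw [hb0, eb, eb, herm_single_single hK, if_neg hj, hermForm,
        Finset.sum_eq_single 0] at h
      · rwa [Pi.single_eq_same, one_pow, mul_one] at h
      · intro i _ hi
        rw [Pi.single_eq_of_ne hi]
        have : (0 : K4) ^ 2 = 0 := by decide +kernel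
        rw [this, mul_zero]
      · exact fun h => absurd (Finset.mem_univ _) h
    have hcls : ∀ c (hc : c < 3), cls (Pi.single 0 1 + fe (c + 1) • b (eb j)) = 2 := by
      intro c hc
      rw [show (Pi.single 0 1 : Vec) = eb 0 from rfl, ← hb0,
        show fe (c + 1) • b (eb j) = tw false (fe (c + 1)) • b (eb j) from rfl, ← hbL.2.smul,
        ← hbL.2.add, hbL.1.2]
      show clsC (eV (eb 0 + fe (c + 1) • eb j)) = 2
      rw [show eV (eb 0 + fe (c + 1) • eb j) = 1 + (c + 1) * 4 ^ j.1 from pair_code j hj ⟨c, hc⟩]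
      exact pair_cls j hj ⟨c, hc⟩
    generalize b (eb j) = v at hcls h1 hz ⊢
    have hg : getP 2 (eV v) 0 = 0 := by
      rw [show getP 2 (eV v) 0 = fc (v 0) from getP_eV v 0, hz]
      rfl
    have h1' : clsC (eV v) = 1 := h1
    have h := (allN_iff _ _).1 support_ok (eV v) (eV_lt v)
    have hcond : (Nat.beq (getP 2 (eV v) 0) 0 && Nat.beq (clsC (eV v)) 1 &&
        allN 3 (fun c => Nat.beq (clsC (Nat.add 1 (scalC (Nat.add c 1) (eV v)))) 2)) = true := by
      rw [hg, h1', Bool.and_eq_true, Bool.and_eq_true, allN_iff]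
      refine ⟨⟨rfl, rfl⟩, fun i hi => ?_⟩
      rw [Nat.beq_eq]
      have hs := shift_code ⟨eV v, eV_lt v⟩ hg ⟨i, hi⟩
      simp only [dV_eV] at hs
      show clsC (1 + scalC (i + 1) (eV v)) = 2
      rw [← hs]
      exact hcls i hi
    rw [hcond] at h
    exact Nat.eq_of_beq_eq_true h
  choose f hf using hone
  have hf' : ∀ j, b (eb j) = Pi.single (f j) (b (eb j) (f j)) := fun j => funext fun i => by
    by_cases h : i = f j
    · rw [h, Pi.single_eq_same]
    · rw [Pi.single_eq_of_ne h, hf j i h]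
  have hd : ∀ j, b (eb j) (f j) ≠ 0 := fun j e => by
    have h := hf' j
    rw [e, Pi.single_zero] at h
    have := congrFun (b.injective (h.trans hbL.2.map_zero.symm)) j
    rw [eb, Pi.single_eq_same] at this
    exact one_ne_zero this
  have hinj : Function.Injective f := by
    intro i j hij
    by_contra hne
    have h : b (b (eb j) (f j) • eb i) = b (b (eb i) (f i) • eb j) := by
      rw [hbL.2.smul, hbL.2.smul]
      show b (eb j) (f j) • b (eb i) = b (eb i) (f i) • b (eb j)
      conv_lhs => rw [hf' i]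
      conv_rhs => rw [hf' j]
      rw [← Pi.single_smul, ← Pi.single_smul, hij, smul_eq_mul, smul_eq_mul, mul_comm]
    have := congrFun (b.injective h) i
    rw [Pi.smul_apply, Pi.smul_apply, eb, eb, Pi.single_eq_same, Pi.single_eq_of_ne hne,
      smul_eq_mul, smul_eq_mul, mul_one, mul_zero] at this
    exact hd j this
  let π : Equiv.Perm (Fin 6) := Equiv.ofBijective f (Finite.injective_iff_bijective.1 hinj)
  set d : Vec := fun j => b (eb j) (f j) with hdd
  have hmb : ∀ u, mono d π *ᵥ u = b u := by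
    intro u
    refine congrFun (semi_ext (semi_mulVec _) hbL.2 fun j => ?_) u
    show mono d π *ᵥ eb j = b (eb j)
    rw [eb, mono_mulVec_single, mul_one]
    exact (hf' j).symm
  have hprod : ∏ c, d c = 1 := by
    have h1 : cls (fun _ => (1 : K4)) = 2 := by
      show clsC (eV _) = 2
      rw [root_code.2]
      exact all_one_cls
    have hv : cls (b fun _ => 1) = 2 := by rw [hbL.1.2]; exact h1
    obtain ⟨-, -, -, h4, -⟩ := cls_facts ⟨eV (b fun _ => 1), eV_lt _⟩
    simp only [dV_eV] at h4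
    have hval : ∀ c, (b fun _ => (1 : K4)) (π c) = d c := fun c => by
      rw [← hmb, mono_mulVec, mul_one]
    have := h4 hv fun i => by
      obtain ⟨c, rfl⟩ := π.surjective i
      rw [hval]
      exact hd c
    rw [← Equiv.prod_comp π] at this
    simpa only [hval] using this
  set g : ↥SG := monoG d π hprod with hgd
  have hgb : lin g = b := Equiv.ext fun u => by
    rw [lin_apply, ap_def, hgd, mat_monoG, hmb]
  have hab : a = lin k * lin g := by rw [hgb, hb, mul_inv_cancel_left]
  rcases Int.units_eq_one_or (Equiv.Perm.sign π) with e | e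
  · left
    rw [hab, ← map_mul]
    exact Subgroup.mem_map_of_mem _ (mul_mem hk (M_le_K ⟨d, π, mat_monoG _ _ _, e⟩))
  · right
    rw [hab, tauP, ← map_mul, ← map_mul]
    refine Subgroup.mem_map_of_mem _ ?_
    rw [mul_assoc]
    refine mul_mem hk (M_le_K ⟨fun c => d (Equiv.swap 0 1 c) * 1, π * Equiv.swap 0 1, ?_, ?_⟩)
    · rw [mat_mul, hgd, mat_monoG, mat_pmG, mono_mul]
    · rw [map_mul, e, Equiv.Perm.sign_swap (by decide)]
      rfl

theorem card_LN : Nat.card LN ≤ 2 * Nat.card Kl := by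
  classical
  have h := Nat.card_le_card_of_injective
    (fun a : ↥LN => if h : (a : Equiv.Perm Vec) ∈ Kl then ((true, ⟨a.1, h⟩) : Bool × ↥Kl)
      else (false, ⟨a.1 * tauP, (mem_or a.2).resolve_left h⟩))
    (fun a b e => by
      dsimp only at e
      split_ifs at e with h1 h2 h2 <;> simp at e <;> exact Subtype.ext (by simpa using e))
  rwa [Nat.card_prod, Nat.card_eq_fintype_card (α := Bool), Fintype.card_bool] at h

theorem index_LN : (Kl.subgroupOf LN).index = 2 := by
  have h := Subgroup.card_mul_index (Kl.subgroupOf LN)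
  rw [Nat.card_congr (Subgroup.subgroupOfEquivOfLe Kl_le_LN).toEquiv] at h
  have h2 := card_LN
  rw [← h, mul_comm (2 : ℕ)] at h2
  have hle : (Kl.subgroupOf LN).index ≤ 2 := Nat.le_of_mul_le_mul_left h2 Nat.card_pos
  have h0 : (Kl.subgroupOf LN).index ≠ 0 := Subgroup.index_ne_zero_of_finite
  have h1 : (Kl.subgroupOf LN).index ≠ 1 := fun e => tauP_notMem (by
    have : (⟨tauP, tauP_mem⟩ : ↥LN) ∈ Kl.subgroupOf LN := by
      rw [Subgroup.index_eq_one.1 e]; trivial
    exact this)
  omega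

theorem mul_iff {a b : Equiv.Perm Vec} (ha : a ∈ LN) (hb : b ∈ LN) :
    a * b ∈ Kl ↔ (a ∈ Kl ↔ b ∈ Kl) :=
  Subgroup.mul_mem_iff_of_index_two index_LN (a := (⟨a, ha⟩ : ↥LN)) (b := ⟨b, hb⟩)

theorem commutator_LN : ⁅LN, LN⁆ ≤ Kl := by
  rw [Subgroup.commutator_le]
  intro a ha b hb
  have h1 : ∀ {x}, x ∈ LN → (x⁻¹ ∈ Kl ↔ x ∈ Kl) := fun _ => inv_mem_iff
  rw [commutatorElement_def, mul_iff (mul_mem (mul_mem ha hb) (inv_mem ha)) (inv_mem hb),
    mul_iff (mul_mem ha hb) (inv_mem ha), mul_iff ha hb, h1 ha, h1 hb]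
  tauto

theorem LN_conj {a x : Equiv.Perm Vec} (ha : a ∈ NS) (hx : x ∈ LN) : a * x * a⁻¹ ∈ LN := by
  obtain ⟨θ, hθ⟩ := ha.1
  obtain ⟨θ', hθ'⟩ := (inv_mem ha : a⁻¹ ∈ NS).1
  refine ⟨mul_mem (mul_mem ha hx.1) (inv_mem ha), ?_⟩
  have h := (hθ.comp hx.2).comp hθ'
  have hid : Semi (xor θ θ') (id : Vec → Vec) := by
    have h0 := hθ.comp hθ'
    rwa [show (⇑a ∘ ⇑a⁻¹ : Vec → Vec) = id from funext fun u => a.apply_symm_apply u] at h0
  have e : θ = θ' := by
    have h1 := congrFun (hid.smul ω₄ (eb 0)) 0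
    revert h1
    cases θ <;> cases θ' <;> decide +kernel
  subst e
  rw [Bool.xor_false, Bool.xor_self] at h
  exact h

/-- The model is normal. -/
theorem Kl_conj {a k : Equiv.Perm Vec} (ha : a ∈ NS) (hk : k ∈ Kl) : a * k * a⁻¹ ∈ Kl := by
  have hc : Kl = ⁅Kl, Kl⁆ := by
    have h := congrArg (Subgroup.map Kl.subtype) commutator_Kl
    rw [_root_.commutator_def, Subgroup.map_commutator, ← MonoidHom.range_eq_map,
      Subgroup.range_subtype] at h
    exact h.symm
  have hmap : Kl.map (MulAut.conj a).toMonoidHom ≤ Kl := by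
    conv_lhs => rw [hc]
    rw [Subgroup.map_commutator]
    refine le_trans ?_ commutator_LN
    have hle : Kl.map (MulAut.conj a).toMonoidHom ≤ LN := by
      rintro _ ⟨x, hx, rfl⟩
      exact LN_conj ha (Kl_le_LN hx)
    exact Subgroup.commutator_mono hle hle
  exact hmap (Subgroup.mem_map_of_mem _ hk)

/-! ### The four cosets -/

theorem coset {a : Equiv.Perm Vec} (ha : a ∈ NS) :
    a ∈ Kl ∨ a * tauP ∈ Kl ∨ a * frP ∈ Kl ∨ a * (frP * tauP) ∈ Kl := by
  obtain ⟨θ, hθ⟩ := ha.1
  cases θ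
  · rcases mem_or ⟨ha, hθ⟩ with h | h
    · exact Or.inl h
    · exact Or.inr (Or.inl h)
  · rcases mem_or (a := a * frP) ⟨mul_mem ha frP_mem, hθ.comp semi_frP⟩ with h | h
    · exact Or.inr (Or.inr (Or.inl h))
    · exact Or.inr (Or.inr (Or.inr (by rwa [← mul_assoc])))

theorem sq_mem {a : Equiv.Perm Vec} (ha : a ∈ NS) : a * a ∈ Kl := by
  have main : ∀ x ∈ NS, x * x = 1 → a * x ∈ Kl → a * a ∈ Kl := by
    intro x hx hx2 h
    have hxi : x⁻¹ = x := inv_eq_of_mul_eq_one_right hx2
    have e : a * a = (a * x) * (x * (a * x) * x⁻¹) := by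
      rw [hxi]
      calc a * a = a * (x * x) * (a * (x * x)) := by rw [hx2, mul_one]
        _ = _ := by group
    rw [e]
    exact mul_mem h (Kl_conj hx h)
  rcases coset ha with h | h | h | h
  · exact mul_mem h h
  · exact main _ tauP_mem.1 tauP_sq h
  · exact main _ frP_mem frP_sq h
  · refine main _ (mul_mem frP_mem tauP_mem.1) ?_ h
    calc frP * tauP * (frP * tauP) = frP * (tauP * frP) * tauP := by group
      _ = frP * (frP * tauP) * tauP := by rw [tauP_frP]
      _ = (frP * frP) * (tauP * tauP) := by group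
      _ = 1 := by rw [frP_sq, tauP_sq, mul_one]

end Cfsg.Agent.H92.Fi24Std
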