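import Cfsg.Agent.H92.Fi24Std.Transfer
import Cfsg.Agent.Components.PLocal
import Cfsg.Prelude.Def_MonsterType

/-!
When the centraliser induces four cosets of the model, a subgroup of index two is of large Fischer
type at the involution.
-/

set_option autoImplicit false
set_option linter.unusedSectionVars false
set_option linter.style.haveILetI false
set_option maxRecDepth 20000

namespace Cfsg.Agent.H92.Fi24Std

open Cfsg Cfsg.Agent.Compute Cfsg.Agent.Unitary Cfsg.Agent.H41.SUSix Cfsg.Agent.H41.LFi Matrix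

attribute [local irreducible] clsC mapsC sift invPerm H95.UFourThree.u43Chain

theorem pCore_self {H : Type*} [Group H] [Finite H] :
    IsPGroup 2 ↥(Cfsg.pCore 2 H) :=
  haveI : Fact (Nat.Prime 2) := ⟨Nat.prime_two⟩
  Agent.Cores.pCore_isPGroup

section Four

variable {G : Type*} [Group G] [Finite G] {z : G}

local notation "C[" z "]" => Subgroup.centralizer ({z} : Set _)

variable {J M K : Subgroup ↥(Subgroup.centralizer ({z} : Set G))}
  (S : Std z (J.map (Subgroup.centralizer ({z} : Set G)).subtype))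
  (hSK : ∀ c : ↥(Subgroup.centralizer ({z} : Set G)), S.ρ c ∈ Kl ↔ c ∈ K)

include S

theorem mem_range_iff {a : Equiv.Perm Vec} :
    a ∈ S.rhoHom.range ↔ ∃ c, c * z = z * c ∧ S.ρ c = a := by
  constructor
  · rintro ⟨c, rfl⟩
    exact ⟨c, Subgroup.mem_centralizer_singleton_iff.1 c.2, rfl⟩
  · rintro ⟨c, hc, rfl⟩
    exact ⟨⟨c, Subgroup.mem_centralizer_singleton_iff.2 hc⟩, rfl⟩

theorem range_le_NS : S.rhoHom.range ≤ NS := by
  rintro _ ⟨c, rfl⟩
  exact S.ρ_NS c (Subgroup.mem_centralizer_singleton_iff.1 c.2)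

theorem Kl_le_range : Kl ≤ S.rhoHom.range := fun k hk => (mem_range_iff S).2 (S.ρ_surj k hk)

include hSK

theorem index_facts : K.index = 1 ∨ K.index = 2 ∨ K.index = 4 := by
  have hKc : K = Kl.comap S.rhoHom := by
    ext c
    exact (hSK c).symm
  haveI : K.Normal := ⟨fun c hc d => by
    rw [← hSK] at hc ⊢
    have hd := Subgroup.mem_centralizer_singleton_iff.1 d.2
    have hc' := Subgroup.mem_centralizer_singleton_iff.1 c.2
    rw [Subgroup.coe_mul, Subgroup.coe_mul, Subgroup.coe_inv,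
      S.ρ_mul _ _ (S.z_comm_mul hd hc') (S.z_comm_inv hd), S.ρ_mul _ _ hd hc', S.ρ_inv hd]
    exact Kl_conj (S.ρ_NS _ hd) hc⟩
  have hle : K.index ≤ 4 := by
    have h4 := Std.four_cosets (range_le_NS S)
    rw [inf_eq_right.2 (Kl_le_range S), ← Subgroup.card_mul_index (Kl.subgroupOf S.rhoHom.range),
      Nat.card_congr (Subgroup.subgroupOfEquivOfLe (Kl_le_range S)).toEquiv, mul_comm] at h4
    rw [hKc, Subgroup.index_comap]
    exact Nat.le_of_mul_le_mul_right h4 Nat.card_pos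
  haveI : Fact (Nat.Prime 2) := ⟨Nat.prime_two⟩
  have hp : IsPGroup 2 (↥(Subgroup.centralizer ({z} : Set G)) ⧸ K) := fun x => ⟨1, by
    induction x using QuotientGroup.induction_on with
    | H c =>
      rw [pow_one, ← QuotientGroup.mk_pow, QuotientGroup.eq_one_iff, pow_two, ← hSK]
      have hc := Subgroup.mem_centralizer_singleton_iff.1 c.2
      rw [Subgroup.coe_mul, S.ρ_mul _ _ hc hc]
      exact sq_mem (S.ρ_NS _ hc)⟩
  obtain ⟨n, hn⟩ := hp.exists_card_eq
  rw [← Subgroup.index_eq_card] at hn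
  rw [hn] at hle ⊢
  have : n ≤ 2 := by
    by_contra h
    have := Nat.pow_le_pow_right (show 2 > 0 by norm_num) (show 3 ≤ n by omega)
    omega
  interval_cases n <;> omega

theorem exponent_two [K.Normal] :
    ∀ x : ↥(Subgroup.centralizer ({z} : Set G)) ⧸ K, x ^ 2 = 1 := by
  intro x
  induction x using QuotientGroup.induction_on with
  | H c =>
    rw [← QuotientGroup.mk_pow, QuotientGroup.eq_one_iff, pow_two, ← hSK]
    have hc := Subgroup.mem_centralizer_singleton_iff.1 c.2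
    rw [Subgroup.coe_mul, S.ρ_mul _ _ hc hc]
    exact sq_mem (S.ρ_NS _ hc)

theorem full_of_four (h4 : K.index = 4) : ∀ a ∈ NS, ∃ c, c * z = z * c ∧ S.ρ c = a := by
  have hKc : K = Kl.comap S.rhoHom := by
    ext c
    exact (hSK c).symm
  rw [hKc, Subgroup.index_comap] at h4
  have hc := Subgroup.card_mul_index (Kl.subgroupOf S.rhoHom.range)
  rw [Nat.card_congr (Subgroup.subgroupOfEquivOfLe (Kl_le_range S)).toEquiv] at hc
  change Nat.card Kl * Kl.relIndex S.rhoHom.range = _ at hc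
  rw [h4] at hc
  have hns := Std.four_cosets (A := NS) le_rfl
  rw [inf_eq_right.2 Kl_le_NS] at hns
  have he := Subgroup.eq_of_le_of_card_ge (range_le_NS S) (by rw [← hc, mul_comm]; exact hns)
  exact fun a ha => (mem_range_iff S).1 (he.symm ▸ ha)

/-- A subgroup of index two not containing the centraliser contains the index four subgroup. -/
theorem K_le_index_two {G₀ : Subgroup G} (h2 : G₀.index = 2) :
    K ≤ G₀.subgroupOf (Subgroup.centralizer ({z} : Set G)) := by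
  haveI : G₀.Normal := Subgroup.normal_of_index_eq_two h2
  have hiff : ∀ a b : G, a * b ∈ G₀ ↔ (a ∈ G₀ ↔ b ∈ G₀) := fun a b =>
    Subgroup.mul_mem_iff_of_index_two h2
  have hconj : ∀ a b : G, a * b * a⁻¹ ∈ G₀ ↔ b ∈ G₀ := fun a b => by
    rw [hiff, hiff, inv_mem_iff]
    tauto
  have hzG : z ∈ G₀ := by
    obtain ⟨f, f', -, -, hff⟩ := half_line (S := S)
    obtain ⟨p, hp, rfl⟩ := S.π_surj f
    obtain ⟨q, hq, rfl⟩ := S.π_surj f'
    have e := S.comm p hp q hq
    rw [hff] at e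
    simp only [Cfsg.Agent.H92.ExtraForm.zp, one_ne_zero, if_false] at e
    have h1 : z = (p * q)⁻¹ * (q * p) := by rw [e]; group
    rw [h1, hiff, inv_mem_iff, hiff, hiff]
    tauto
  -- the core
  have hJG : ∀ q ∈ J.map (Subgroup.centralizer ({z} : Set G)).subtype, q ∈ G₀ := by
    intro q hq
    obtain ⟨k, hk, hks⟩ := exists_smul_mem
    obtain ⟨c, hc, hck⟩ := S.ρ_surj k hk
    have h1 := S.norm c hc q hq
    have h2' := S.norm c hc _ h1
    have hπ : S.π (q * (c * q * c⁻¹) * (c * (c * q * c⁻¹) * c⁻¹)) = 0 := by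
      rw [S.π_mul _ (mul_mem hq h1) _ h2', S.π_mul _ hq _ h1, S.ρ_π c hc _ h1, S.ρ_π c hc _ hq, hck,
        hks, hks]
      funext i
      have key : ∀ x : K4, x + ω₄ * x + ω₄ * (ω₄ * x) = 0 := by decide +kernel
      exact key _
    have hm : q * (c * q * c⁻¹) * (c * (c * q * c⁻¹) * c⁻¹) ∈ G₀ := by
      rcases (S.π_zero _ (mul_mem (mul_mem hq h1) h2')).1 hπ with e | e <;> rw [e]
      · exact G₀.one_mem
      · exact hzG
    rw [hiff, hiff, hconj, hconj, hconj] at hm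
    tauto
  -- the model is perfect
  have hR : Kl ≤ ((G₀.subgroupOf (Subgroup.centralizer ({z} : Set G))) ⊓ K).map S.rhoHom := by
    have hc : Kl = ⁅Kl, Kl⁆ := by
      have h := congrArg (Subgroup.map Kl.subtype) commutator_Kl
      rw [_root_.commutator_def, Subgroup.map_commutator, ← MonoidHom.range_eq_map,
        Subgroup.range_subtype] at h
      exact h.symm
    rw (config := {occs := .pos [1]}) [hc]
    rw [Subgroup.commutator_le]
    intro a ha b hb
    obtain ⟨c, hcz, rfl⟩ := S.ρ_surj a ha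
    obtain ⟨d, hdz, rfl⟩ := S.ρ_surj b hb
    set c' : ↥(Subgroup.centralizer ({z} : Set G)) := ⟨c, Subgroup.mem_centralizer_singleton_iff.2 hcz⟩
    set d' : ↥(Subgroup.centralizer ({z} : Set G)) := ⟨d, Subgroup.mem_centralizer_singleton_iff.2 hdz⟩
    refine ⟨c' * d' * c'⁻¹ * d'⁻¹, ⟨?_, ?_⟩, ?_⟩
    · show c * d * c⁻¹ * d⁻¹ ∈ G₀
      rw [hiff, hconj, inv_mem_iff]
    · have hc' : c' ∈ K := (hSK c').1 ha
      have hd' : d' ∈ K := (hSK d').1 hb
      exact K.mul_mem (K.mul_mem (K.mul_mem hc' hd') (K.inv_mem hc')) (K.inv_mem hd')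
    · rw [map_mul, map_mul, map_mul, map_inv, map_inv, commutatorElement_def]
      rfl
  intro c hc
  obtain ⟨d, ⟨hd, -⟩, hde⟩ := hR ((hSK c).2 hc)
  have hker : d⁻¹ * c ∈ S.rhoHom.ker := by
    rw [MonoidHom.mem_ker, map_mul, map_inv, hde]
    exact inv_mul_cancel _
  have hq : ((d⁻¹ * c : ↥(Subgroup.centralizer ({z} : Set G))) : G) ∈
      J.map (Subgroup.centralizer ({z} : Set G)).subtype := by
    rw [S.rhoHom_ker] at hker
    exact hker
  have := mul_mem (show d ∈ G₀.subgroupOf (Subgroup.centralizer ({z} : Set G)) from hd)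
    (show d⁻¹ * c ∈ G₀.subgroupOf (Subgroup.centralizer ({z} : Set G)) from hJG _ hq)
  rwa [mul_inv_cancel_left] at this

/-- A subgroup of index two which is of large Fischer type at the involution. -/
theorem exists_large_fischer [J.Normal] [M.Normal] [K.Normal]
    (hJ : J = Cfsg.pCore 2 ↥(Subgroup.centralizer ({z} : Set G)))
    (hEx : Cfsg.IsExtraspecial 2 J) (hJc : Nat.card J = 2 ^ 13)
    (hF : Cfsg.generalizedFittingSubgroup ↥(Subgroup.centralizer ({z} : Set G)) = J)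
    (hJM : J ≤ M) (hMK : M ≤ K) (hM3 : Nat.card M = 3 * Nat.card J)
    (F : Type) [Field F] [Fintype F] (hF9 : Fintype.card F = 9)
    (e : ↥K ⧸ M.subgroupOf K ≃* Cfsg.PSU 4 F 3) (h4 : K.index = 4)
    (hnwc : ∃ g : G, g * z * g⁻¹ ∈ J.map (Subgroup.centralizer ({z} : Set G)).subtype ∧ g * z * g⁻¹ ≠ z) :
    ∃ (G₀ : Subgroup G) (z₀ : ↥G₀) (Q₀ : Subgroup (Subgroup.centralizer ({z₀} : Set ↥G₀))) (_ : Q₀.Normal),
      G₀.index = 2 ∧ Cfsg.IsOfLargeFischerTypeAt z₀ Q₀ ∧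
      (∃ P : Sylow 2 ↥G₀, z₀ ∈ (P : Subgroup ↥G₀) ∧ ∀ x ∈ (P : Subgroup ↥G₀), Commute x z₀) ∧
      (Cfsg.generalizedFittingSubgroup ↥(Subgroup.centralizer ({(z₀ : G)} : Set G))).map
        (Subgroup.subtype _) = ((Q₀.map (Subgroup.subtype _)).map G₀.subtype) := by
  classical
  haveI : Fact (Nat.Prime 2) := ⟨Nat.prime_two⟩
  obtain ⟨G₀, h2, hnle⟩ := exists_index_two S (full_of_four S hSK h4)
    fun g hs hne => S.cls_conj (S.pair_setting hs hne)
  haveI : G₀.Normal := Subgroup.normal_of_index_eq_two h2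
  have hKG := K_le_index_two S hSK h2
  have hzJ : (⟨z, Subgroup.mem_centralizer_singleton_iff.2 rfl⟩ : ↥(Subgroup.centralizer ({z} : Set G))) ∈ J := by
    obtain ⟨q, hq, hqe⟩ := S.hzQ
    have hq' : (⟨z, Subgroup.mem_centralizer_singleton_iff.2 rfl⟩ : ↥(Subgroup.centralizer ({z} : Set G))) = q :=
      Subtype.ext hqe.symm
    exact hq' ▸ hq
  have hzG : z ∈ G₀ := hKG (hMK (hJM hzJ))
  let z₀ : ↥G₀ := ⟨z, hzG⟩
  have hCz : ∀ x : ↥G₀, x ∈ Subgroup.centralizer ({z₀} : Set ↥G₀) →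
      (x : G) ∈ Subgroup.centralizer ({z} : Set G) := fun x hx =>
    Subgroup.mem_centralizer_singleton_iff.2 (congrArg Subtype.val (Subgroup.mem_centralizer_singleton_iff.1 hx))
  let j : ↥(Subgroup.centralizer ({z₀} : Set ↥G₀)) →* ↥(Subgroup.centralizer ({z} : Set G)) :=
    { toFun := fun x => ⟨((x : ↥G₀) : G), hCz x x.2⟩
      map_one' := rfl
      map_mul' := fun _ _ => rfl }
  have hj : Function.Injective j := fun a b h =>
    Subtype.ext (Subtype.ext (congrArg (fun x : ↥(Subgroup.centralizer ({z} : Set G)) => (x : G)) h))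
  set Hs := G₀.subgroupOf (Subgroup.centralizer ({z} : Set G)) with hHs
  have hjr : j.range = Hs := by
    ext c
    constructor
    · rintro ⟨x, rfl⟩
      exact x.1.2
    · intro hc
      refine ⟨⟨⟨c, hc⟩, Subgroup.mem_centralizer_singleton_iff.2 (Subtype.ext ?_)⟩, rfl⟩
      exact Subgroup.mem_centralizer_singleton_iff.1 c.2
  have hmap : ∀ A : Subgroup ↥(Subgroup.centralizer ({z} : Set G)), A ≤ K → (A.comap j).map j = A :=
    fun A hA => Subgroup.map_comap_eq_self (hjr ▸ hA.trans hKG)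
  have hcard : ∀ A : Subgroup ↥(Subgroup.centralizer ({z} : Set G)), A ≤ K →
      Nat.card (A.comap j) = Nat.card A := fun A hA => by
    rw [Nat.card_congr ((A.comap j).equivMapOfInjective j hj).toEquiv, hmap A hA]
  set Q₀ := J.comap j with hQ₀
  set N₀ := M.comap j with hN₀
  set M₀ := K.comap j with hM₀
  haveI : Q₀.Normal := ‹J.Normal›.comap j
  haveI : N₀.Normal := ‹M.Normal›.comap j
  haveI : M₀.Normal := ‹K.Normal›.comap j
  have hEx0 : Cfsg.IsExtraspecial 2 Q₀ := by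
    have he := Q₀.equivMapOfInjective j hj
    rw [hmap J (hJM.trans hMK)] at he
    exact isExtraspecial_map he.symm hEx
  -- the largest normal 2-subgroup
  have hCQ : Subgroup.centralizer (Q₀ : Set ↥(Subgroup.centralizer ({z₀} : Set ↥G₀))) ≤ Q₀ := by
    intro x hx
    have h1 : Subgroup.centralizer (J : Set ↥(Subgroup.centralizer ({z} : Set G))) ≤ J := by
      rw [hJ] at hF ⊢
      exact Agent.Components.genFitting_eq_pCore_iff.1 hF
    refine h1 (Subgroup.mem_centralizer_iff.2 fun q hq => ?_)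
    rw [← hmap J (hJM.trans hMK)] at hq
    obtain ⟨q₀, hq₀, rfl⟩ := hq
    rw [← map_mul, ← map_mul]
    exact congrArg j (Subgroup.mem_centralizer_iff.1 hx q₀ hq₀)
  have hJ2 : IsPGroup 2 ↥J := hJ ▸ pCore_self
  have hQp : IsPGroup 2 ↥Q₀ := hJ2.comap_of_injective j hj
  have hQ₀eq : Cfsg.pCore 2 ↥(Subgroup.centralizer ({z₀} : Set ↥G₀)) = Q₀ := by
    refine le_antisymm ?_ (Agent.Cores.le_pCore hQp)
    set R := Cfsg.pCore 2 ↥(Subgroup.centralizer ({z₀} : Set ↥G₀)) with hR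
    haveI hRn : R.Normal := by rw [hR]; infer_instance
    have hsub : ∀ c : ↥(Subgroup.centralizer ({z} : Set G)), ∀ r ∈ R.map j,
        c * r * c⁻¹ ∈ R.map j := by
      intro c r hr
      set A := ((R.map j).map (MulAut.conj c).toMonoidHom).comap j with hA
      haveI hjn : (j.range).Normal := hjr ▸ (‹G₀.Normal›.subgroupOf _)
      haveI : A.Normal := ⟨fun a ha d => by
        rw [hA, Subgroup.mem_comap, Subgroup.mem_map_equiv] at ha ⊢
        obtain ⟨r, hr, hre⟩ := ha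
        obtain ⟨d', hd'⟩ := hjn.conj_mem (j d) ⟨d, rfl⟩ c⁻¹
        refine ⟨d' * r * d'⁻¹, hRn.conj_mem r hr d', ?_⟩
        rw [map_mul, map_mul, map_inv, hd', hre]
        simp only [map_mul, map_inv, MulAut.conj_symm_apply]
        group⟩
      have hAle : A ≤ R := Agent.Cores.le_pCore ((((pCore_self).map j).map _).comap_of_injective j hj)
      have hmem : c * r * c⁻¹ ∈ j.range := by
        obtain ⟨r', -, rfl⟩ := hr
        exact hjn.conj_mem _ ⟨r', rfl⟩ c
      obtain ⟨a, ha⟩ := hmem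
      refine ⟨a, hAle ?_, ha⟩
      rw [hA, Subgroup.mem_comap, ha]
      exact ⟨r, hr, rfl⟩
    haveI : (R.map j).Normal := ⟨fun r hr c => hsub c r hr⟩
    have hle : R.map j ≤ J := hJ ▸ Agent.Cores.le_pCore ((pCore_self).map j)
    intro x hx
    exact hle (Subgroup.mem_map_of_mem _ hx)
  have hgf : Cfsg.generalizedFittingSubgroup ↥(Subgroup.centralizer ({z₀} : Set ↥G₀)) = Q₀ := by
    rw [(Agent.Components.genFitting_eq_pCore_iff (p := 2)).2 (by rw [hQ₀eq]; exact hCQ), hQ₀eq]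
  have hM2 : M₀.index = 2 := by
    rw [hM₀, Subgroup.index_comap, hjr]
    have h := Subgroup.relIndex_mul_index hKG
    have hH : Hs.index = 2 := by
      rw [hHs]
      obtain ⟨c, hc, hcn⟩ := SetLike.not_le_iff_exists.1 hnle
      refine Subgroup.index_eq_two_iff.2 ⟨⟨c, hc⟩, fun b => ?_⟩
      simp only [Subgroup.mem_subgroupOf, Subgroup.coe_mul, Subgroup.mul_mem_iff_of_index_two h2]
      by_cases hb : (b : G) ∈ G₀
      · exact Or.inr ⟨hb, fun h => hcn (h.1 hb)⟩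
      · exact Or.inl ⟨⟨fun h => absurd h hb, fun h => absurd h hcn⟩, hb⟩
    rw [hH, h4] at h
    omega
  obtain ⟨g, hgJ, hgne⟩ := hnwc
  obtain ⟨g₁, hg₁, hg₁e⟩ : ∃ g₁ ∈ G₀, g₁ * z * g₁⁻¹ = g * z * g⁻¹ := by
    by_cases hg : g ∈ G₀
    · exact ⟨g, hg, rfl⟩
    obtain ⟨c, hc, hcn⟩ := SetLike.not_le_iff_exists.1 hnle
    refine ⟨g * c, (Subgroup.mul_mem_iff_of_index_two h2).2 ⟨fun h => absurd h hg, fun h => absurd h hcn⟩, ?_⟩
    calc g * c * z * (g * c)⁻¹ = g * (c * z) * c⁻¹ * g⁻¹ := by group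
      _ = _ := by rw [Subgroup.mem_centralizer_singleton_iff.1 hc]; group
  have hnwc0 : ∃ g' : ↥G₀, (∃ hq : g' * z₀ * g'⁻¹ ∈ Subgroup.centralizer ({z₀} : Set ↥G₀),
      (⟨g' * z₀ * g'⁻¹, hq⟩ : Subgroup.centralizer ({z₀} : Set ↥G₀)) ∈ Q₀) ∧ g' * z₀ * g'⁻¹ ≠ z₀ := by
    obtain ⟨q, hq, hqe⟩ := hgJ
    have hqz := Subgroup.mem_centralizer_singleton_iff.1 q.2
    refine ⟨⟨g₁, hg₁⟩, ⟨Subgroup.mem_centralizer_singleton_iff.2 (Subtype.ext ?_), ?_⟩,
      fun h => hgne (hg₁e ▸ congrArg Subtype.val h)⟩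
    · show g₁ * z * g₁⁻¹ * z = z * (g₁ * z * g₁⁻¹)
      rw [hg₁e, ← hqe]
      exact hqz
    · have key : ∀ c : ↥(Subgroup.centralizer ({z} : Set G)), (c : G) = g * z * g⁻¹ → c ∈ J := fun c hc =>
        (Subtype.ext (hc.trans hqe.symm) : c = q).symm ▸ hq
      exact key _ hg₁e
  have e0 : Nonempty (↥M₀ ⧸ N₀.subgroupOf M₀ ≃* Cfsg.PSU 4 F 3) := by
    let φ : ↥M₀ ≃* ↥K := (M₀.equivMapOfInjective j hj).trans (MulEquiv.subgroupCongr (hmap K le_rfl))
    refine ⟨(QuotientGroup.congr (N₀.subgroupOf M₀) (M.subgroupOf K) φ ?_).trans e⟩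
    ext x
    constructor
    · rintro ⟨y, hy, rfl⟩
      exact hy
    · intro h
      refine ⟨φ.symm x, ?_, φ.apply_symm_apply x⟩
      have hx : j (φ.symm x : ↥M₀) = (x : ↥(Subgroup.centralizer ({z} : Set G))) :=
        congrArg Subtype.val (φ.apply_symm_apply x)
      show j (φ.symm x : ↥M₀) ∈ M
      exact hx ▸ h
  obtain ⟨e0⟩ := e0
  refine ⟨G₀, z₀, Q₀, inferInstance, h2, ⟨⟨?_, hgf, hEx0, ?_, hnwc0⟩, N₀, M₀, inferInstance,
    inferInstance, Subgroup.comap_mono hJM, Subgroup.comap_mono hMK, ?_,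
    ⟨F, inferInstance, inferInstance, hF9, ⟨e0⟩⟩, hM2⟩, ?_, ?_⟩
  · rw [← Subgroup.orderOf_coe]
    exact S.hzo
  · rw [hQ₀, hcard J (hJM.trans hMK), hJc]
  · rw [hN₀, hQ₀, hcard M hMK, hcard J (hJM.trans hMK), hM3]
  · -- the centre of a Sylow subgroup over the core
    obtain ⟨P, hP⟩ := (hQp.map (Subgroup.centralizer ({z₀} : Set ↥G₀)).subtype).exists_le_sylow
    have hz0C : z₀ ∈ Subgroup.centralizer ({z₀} : Set ↥G₀) := Subgroup.mem_centralizer_singleton_iff.2 rfl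
    have hz0P : z₀ ∈ (P : Subgroup ↥G₀) := hP ⟨⟨z₀, hz0C⟩, hzJ, rfl⟩
    haveI : Nontrivial ↥(P : Subgroup ↥G₀) := ⟨⟨⟨z₀, hz0P⟩, 1, fun h => S.z_ne
      (congrArg (fun x : ↥(P : Subgroup ↥G₀) => ((x : ↥G₀) : G)) h)⟩⟩
    haveI := P.isPGroup'.center_nontrivial
    obtain ⟨⟨a, ha⟩, ha1⟩ := exists_ne (1 : Subgroup.center ↥(P : Subgroup ↥G₀))
    have hac : ∀ x ∈ (P : Subgroup ↥G₀), x * (a : ↥G₀) = (a : ↥G₀) * x := fun x hx =>
      congrArg Subtype.val (Subgroup.mem_center_iff.1 ha ⟨x, hx⟩)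
    have haz : (a : G₀).1 * z = z * (a : G₀).1 := congrArg Subtype.val (hac z₀ hz0P).symm
    let a₀ : ↥(Subgroup.centralizer ({z₀} : Set ↥G₀)) :=
      ⟨a, Subgroup.mem_centralizer_singleton_iff.2 (Subtype.ext haz)⟩
    have haQ : a₀ ∈ Q₀ := hCQ (Subgroup.mem_centralizer_iff.2 fun q hq =>
      Subtype.ext (hac q (hP ⟨q, hq, rfl⟩)))
    have haJ : ((a : ↥G₀) : G) ∈ J.map (Subgroup.centralizer ({z} : Set G)).subtype := ⟨j a₀, haQ, rfl⟩
    have hπ : S.π ((a : ↥G₀) : G) = 0 := by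
      by_contra hne
      obtain ⟨v, hv⟩ := pol_nondeg hne
      obtain ⟨r, hr, rfl⟩ := S.π_surj v
      obtain ⟨r', hr', rfl⟩ := hr
      have hrG : (r' : G) ∈ G₀ := hKG (hMK (hJM hr'))
      have hrC : (⟨r', hrG⟩ : ↥G₀) ∈ Subgroup.centralizer ({z₀} : Set ↥G₀) :=
        Subgroup.mem_centralizer_singleton_iff.2 (Subtype.ext (Subgroup.mem_centralizer_singleton_iff.1 r'.2))
      have hcm : (r' : G) * ((a : ↥G₀) : G) = ((a : ↥G₀) : G) * r' :=
        congrArg Subtype.val (hac ⟨r', hrG⟩ (hP ⟨⟨_, hrC⟩, hr', rfl⟩))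
      have := (S.comm_iff haJ ⟨r', hr', rfl⟩).1 hcm.symm
      rw [hv] at this
      exact one_ne_zero this
    rcases (S.π_zero _ haJ).1 hπ with e1 | e1
    · exact absurd (Subtype.ext (Subtype.ext (Subtype.ext e1))) ha1
    · have : (a : ↥G₀) = z₀ := Subtype.ext e1
      exact ⟨P, hz0P, fun x hx => this ▸ hac x hx⟩
  · show (Cfsg.generalizedFittingSubgroup ↥(Subgroup.centralizer ({z} : Set G))).map _ = _
    rw [hF]
    ext x
    constructor
    · rintro ⟨q, hq, rfl⟩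
      have hqG : (q : G) ∈ G₀ := hKG (hMK (hJM hq))
      exact ⟨⟨q, hqG⟩, ⟨⟨⟨q, hqG⟩, Subgroup.mem_centralizer_singleton_iff.2 (Subtype.ext
        (Subgroup.mem_centralizer_singleton_iff.1 q.2))⟩, hq, rfl⟩, rfl⟩
    · rintro ⟨_, ⟨q, hq, rfl⟩, rfl⟩
      exact ⟨j q, hq, rfl⟩

end Four

end Cfsg.Agent.H92.Fi24Std
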