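import Cfsg.Agent.H92.Fi24Std.Twin

/-!
If the central involution is weakly closed in the core then it commutes with no other conjugate.
-/

set_option autoImplicit false
set_option linter.unusedSectionVars false
set_option maxRecDepth 20000

namespace Cfsg.Agent.H92.Fi24Std

open Cfsg Cfsg.Agent.Compute Cfsg.Agent.Unitary Cfsg.Agent.H41.SUSix Cfsg.Agent.H41.LFi Matrix

open Cfsg.Agent.H92.ExtraForm (zp zp_inj zp_add)

local notation "hf" => hermForm 6 K4 2

attribute [local irreducible] clsC mapsC sift invPerm H95.UFourThree.u43Chain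

/-- Two elements with the same bit. -/
theorem card_le_two {α : Type*} (f : α → ZMod 2) (hf' : Function.Injective f) : Nat.card α ≤ 2 :=
  (Nat.card_le_card_of_injective f hf').trans (by rw [Nat.card_zmod])

/-- A subgroup with two fixed non-trivial elements and room for a third. -/
theorem exists_third {G : Type*} [Group G] [Finite G] {I : Subgroup G} {k : ℕ} (h : k < Nat.card I)
    (s : Finset G) (hs : s.card ≤ k) : ∃ c ∈ I, c ∉ s := by
  classical
  by_contra hcon
  push Not at hcon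
  have := Nat.card_le_card_of_injective (fun c : ↥I => (⟨c.1, hcon c c.2⟩ : {x // x ∈ s}))
    fun a b e => Subtype.ext (congrArg (fun x : {x // x ∈ s} => (x : G)) e)
  rw [Nat.card_eq_fintype_card (α := {x // x ∈ s}), Fintype.card_coe] at this
  omega

theorem pol_zero_right (u : Vec) : pol u 0 = 0 := by
  simp [pol, H41.LFi.wt_zero]
  exact (show ∀ t : ZMod 2, t + t = 0 by decide) _

theorem zmod_add_self : ∀ t : ZMod 2, t + t = 0 := by decide

variable {G : Type*} [Group G] [Finite G] {z : G} {Q : Subgroup G}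

/-- Weak closure of `z` in `Q`. -/
def WC (Q : Subgroup G) (z : G) : Prop := ∀ h : G, h * z * h⁻¹ ∈ Q → h * z * h⁻¹ = z

theorem twin_of_wc (hwc : WC Q z) {g : G} (hc : g * z * g⁻¹ * z = z * (g * z * g⁻¹))
    (hne : g * z * g⁻¹ ≠ z) : Twin Q z g := by
  refine ⟨hc, fun h => hne (hwc g h), fun h => hne ?_⟩
  have e := hwc g⁻¹ (by simpa using h)
  rw [inv_inv] at e
  calc g * z * g⁻¹ = g * (g⁻¹ * z * g) * g⁻¹ := by rw [e]
    _ = z := by group

namespace Twin

variable (S : Std z Q) (hwc : WC Q z) {g : G}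
include S hwc

/-- The only conjugate in the conjugate core. -/
theorem onlyx (t : Twin Q z g) {h : G} (hh : g⁻¹ * (h * z * h⁻¹) * g ∈ Q) :
    h * z * h⁻¹ = g * z * g⁻¹ := by
  have e := hwc (g⁻¹ * h) (by simpa [mul_assoc] using hh)
  calc h * z * h⁻¹ = g * (g⁻¹ * h * z * (g⁻¹ * h)⁻¹) * g⁻¹ := by group
    _ = _ := by rw [e]

theorem only_mul (t : Twin Q z g) {r a : G} (ha : a ∈ Is Q g)
    (h : r * (g * z * g⁻¹) * r⁻¹ = g * z * g⁻¹ * a) : a = 1 := by
  have e0 : r * g * z * (r * g)⁻¹ = g * z * g⁻¹ * a := by rw [← h]; group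
  have hm : g⁻¹ * (r * g * z * (r * g)⁻¹) * g ∈ Q := by
    rw [e0, show g⁻¹ * (g * z * g⁻¹ * a) * g = z * (g⁻¹ * a * g) by group]
    exact mul_mem S.hzQ (mem_Is.1 ha).2
  have e := t.onlyx S hwc hm
  rw [e0] at e
  exact mul_eq_left.1 e

/-- Moving the conjugate onto a product with an element of the intersection. -/
theorem move (t : Twin Q z g) {r a : G} (hr : r ∈ Q) (ha : a ∈ Is Q g)
    (h : disp (xb S g) (S.π r) = S.π a) :
    a = 1 ∨ r * (g * z * g⁻¹) * r⁻¹ = g * z * g⁻¹ * (z * a) := by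
  obtain ⟨hm, hπ⟩ := t.disp_commutator S hr
  rw [h] at hπ
  have e : r * (g * z * g⁻¹) * r⁻¹ =
      g * z * g⁻¹ * ((g * z * g⁻¹)⁻¹ * (r * (g * z * g⁻¹) * r⁻¹)) := (mul_inv_cancel_left _ _).symm
  rcases S.π_eq (mem_Is.1 ha).1 hm hπ.symm with e' | e' <;> rw [e'] at e
  · exact Or.inl (t.only_mul S hwc ha e)
  · exact Or.inr e

theorem move' (t : Twin Q z g) {v : Vec} (hv : v ∈ I0 S g) (hv0 : v ≠ 0) {w : Vec}
    (h : disp (xb S g) w = v) :
    ∃ r ∈ Q, ∃ a ∈ Is Q g, S.π r = w ∧ S.π a = v ∧ a ≠ 1 ∧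
      r * (g * z * g⁻¹) * r⁻¹ = g * z * g⁻¹ * (z * a) := by
  obtain ⟨a, ha, rfl⟩ := hv
  obtain ⟨r, hr, rfl⟩ := S.π_surj w
  have ha1 : a ≠ 1 := fun e => hv0 (by rw [e, S.π_one])
  exact ⟨r, hr, a, ha, rfl, rfl, ha1, (t.move S hwc hr ha h).resolve_left ha1⟩

theorem not_flat_disjoint (t : Twin Q z g) (hn : ¬ Flat S g) {v : Vec} (hv : v ∈ I0 S g)
    (hr : v ∈ Set.range (disp (xb S g))) : v = 0 := by
  by_contra hv0
  obtain ⟨w, hw⟩ := hr
  obtain ⟨r, hr, a, ha, -, -, ha1, e⟩ := t.move' S hwc hv hv0 hw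
  obtain ⟨s, hs, -, hsx⟩ := t.exists_shift S hn
  refine ha1 (t.only_mul S hwc (r := r * s) ha ?_)
  calc r * s * (g * z * g⁻¹) * (r * s)⁻¹ = r * (s * (g * z * g⁻¹) * s⁻¹) * r⁻¹ := by group
    _ = r * (g * z * g⁻¹) * (z * r⁻¹) := by rw [hsx]; group
    _ = r * (g * z * g⁻¹) * r⁻¹ * z := by
      rw [show z * r⁻¹ = r⁻¹ * z from ((show Commute r z from S.le r hr).inv_left).eq.symm]; group
    _ = _ := by
      rw [e, mul_assoc _ (z * a) z, mul_assoc z a z, S.le a (mem_Is.1 ha).1, ← mul_assoc z z a,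
        S.z_sq, one_mul]

theorem not_flat_two (t : Twin Q z g) (hn : ¬ Flat S g) : Nat.card (Is Q g) ≤ 2 := by
  obtain ⟨s, hs, hsf, hsx⟩ := t.exists_shift S hn
  rw [← t.card_I0 S]
  refine card_le_two (fun v : ↥(I0 S g) => pol (v : Vec) (S.π s)) fun u v e => Subtype.ext ?_
  have hm : (u : Vec) + v ∈ I0 S g := add_mem u.2 v.2
  have e0 : pol ((u : Vec) + v) (S.π s) = 0 := by
    rw [pol_add_left]
    show pol (u : Vec) _ + pol (v : Vec) _ = 0
    rw [show pol (u : Vec) (S.π s) = pol (v : Vec) (S.π s) from e]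
    exact zmod_add_self _
  have hr : (u : Vec) + v ∈ Set.range (disp (xb S g)) := by
    refine range_of_pol (t.xb_NS S) (t.xb_sq S) fun f hf' => ?_
    obtain ⟨q, hq, rfl⟩ := S.π_surj f
    by_cases hqX : q ∈ Xs Q z g
    · exact t.Is_perp S hm hqX
    · have h' := t.Is_perp S hm (t.shift_mul S hs hsx ⟨hq, hf'⟩ hqX)
      rw [S.π_mul s hs q hq, pol_add_right, e0, zero_add] at h'
      exact h'
  have h0 := t.not_flat_disjoint S hwc hn hm hr
  calc (u : Vec) = (u + v) + v := by rw [add_assoc, vv, add_zero]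
    _ = v := by rw [h0, zero_add]

theorem f_one (t : Twin Q z g) {v v' w : Vec} (hv : v ∈ I0 S g) (hv' : v' ∈ I0 S g)
    (hr' : v' ∈ Set.range (disp (xb S g))) (hv0 : v ≠ 0) (hv0' : v' ≠ 0) (hne : v ≠ v')
    (h : disp (xb S g) w = v) : pol w v' = 1 := by
  obtain ⟨w', hw'⟩ := hr'
  obtain ⟨r, hr, a, ha, rfl, rfl, -, e⟩ := t.move' S hwc hv hv0 h
  obtain ⟨r', hr', b, hb, rfl, rfl, -, e'⟩ := t.move' S hwc hv' hv0' hw'
  have ha' := (mem_Is.1 ha).1
  have hb' := (mem_Is.1 hb).1
  rcases zmod_two_cases (pol (S.π r) (S.π b)) with e0 | e0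
  swap
  · exact e0
  exfalso
  have hrb : r * b * r⁻¹ = b := by
    rw [(S.comm_iff hr hb').2 e0, mul_inv_cancel_right]
  have hrz : r * z * r⁻¹ = z := by rw [S.le r hr, mul_inv_cancel_right]
  have e3 : r * r' * (g * z * g⁻¹) * (r * r')⁻¹ = g * z * g⁻¹ * (a * b) :=
    calc r * r' * (g * z * g⁻¹) * (r * r')⁻¹ = r * (r' * (g * z * g⁻¹) * r'⁻¹) * r⁻¹ := by group
      _ = r * (g * z * g⁻¹) * r⁻¹ * (r * z * r⁻¹) * (r * b * r⁻¹) := by rw [e']; group
      _ = g * z * g⁻¹ * (z * a) * z * b := by rw [e, hrz, hrb]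
      _ = g * z * g⁻¹ * (z * (a * z)) * b := by group
      _ = _ := by rw [S.le a ha', ← mul_assoc z z a, S.z_sq, one_mul, mul_assoc]
  have hab := t.only_mul S hwc (mul_mem ha hb) e3
  refine hne ?_
  rw [show b = a from mul_left_cancel (hab.trans (t.Is_sq S ha).symm)]

theorem flat_four (t : Twin Q z g) (hfl : Flat S g) : Nat.card (Is Q g) ≤ 4 := by
  classical
  by_contra hcon
  push Not at hcon
  obtain ⟨a, ha, ha'⟩ := exists_third hcon {1} (by simp)
  obtain ⟨b, hb, hb'⟩ := exists_third hcon ({1, a} : Finset G) (le_trans Finset.card_le_two (by norm_num))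
  obtain ⟨c, hc, hc'⟩ := exists_third hcon ({1, a, b, b * a} : Finset G) (le_trans Finset.card_le_four le_rfl)
  simp only [Finset.mem_insert, Finset.mem_singleton, not_or] at ha' hb' hc'
  have m : ∀ {u}, u ∈ Is Q g → S.π u ∈ I0 S g := fun hu => ⟨_, hu, rfl⟩
  have ne0 : ∀ {u}, u ∈ Is Q g → u ≠ 1 → S.π u ≠ 0 := fun hu h1 e =>
    h1 (t.Is_inj S (one_mem _) hu (by rw [e, S.π_one]))
  have ne : ∀ {u v}, u ∈ Is Q g → v ∈ Is Q g → u ≠ v → S.π u ≠ S.π v := fun hu hv h e =>
    h (t.Is_inj S hv hu e.symm)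
  have inr : ∀ {u}, u ∈ Is Q g → S.π u ∈ Set.range (disp (xb S g)) := fun hu =>
    t.flat_I0 S hfl (m hu)
  obtain ⟨w, hw⟩ := inr ha
  have hbc : b * c ≠ 1 := fun e => hc'.2.2.1 (by
    rw [← inv_eq_of_mul_eq_one_right e]; exact inv_eq_of_mul_eq_one_right (t.Is_sq S hb))
  have hbca : b * c ≠ a := fun e => hc'.2.2.2 (by
    rw [← e, ← mul_assoc, t.Is_sq S hb, one_mul])
  have h1 := t.f_one S hwc (m ha) (m hb) (inr hb) (ne0 ha ha') (ne0 hb hb'.1) (ne ha hb (Ne.symm hb'.2)) hw
  have h2 := t.f_one S hwc (m ha) (m hc) (inr hc) (ne0 ha ha') (ne0 hc hc'.1) (ne ha hc (Ne.symm hc'.2.1)) hw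
  have h3 := t.f_one S hwc (m ha) (m (mul_mem hb hc)) (inr (mul_mem hb hc)) (ne0 ha ha')
    (ne0 (mul_mem hb hc) hbc) (ne ha (mul_mem hb hc) (Ne.symm hbca)) hw
  rw [S.π_mul b (mem_Is.1 hb).1 c (mem_Is.1 hc).1, pol_add_right, h1, h2] at h3
  exact absurd h3 (by decide)

theorem Is_le_four (t : Twin Q z g) : Nat.card (Is Q g) ≤ 4 := by
  by_cases h : Flat S g
  · exact t.flat_four S hwc h
  · exact (t.not_flat_two S hwc h).trans (by norm_num)

omit hwc in
theorem Es_lower (t : Twin Q z g) : 64 ≤ Nat.card (Is Q g) * Nat.card (Es S g) := by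
  rw [card_Es S g]
  exact (fix_ge (t.symm.xb_NS S) (t.symm.xb_sq S)).trans (t.symm.card_Xs_ge S)

/-! ### Elements of the side of the conjugate on the fixed vectors -/

omit hwc in
theorem card_eq_four (t : Twin Q z g) (h4 : Nat.card (Is Q g) ≤ 4) (h : 2 < Nat.card (Is Q g)) :
    Nat.card (Is Q g) = 4 := by
  have hd := Subgroup.card_dvd_of_le (Is_le (Q := Q) g)
  rw [S.card_Q] at hd
  obtain ⟨m, -, hm⟩ := (Nat.dvd_prime_pow Nat.prime_two).1 hd
  rw [hm] at h4 h ⊢
  have : m < 3 := by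
    by_contra hc
    have := Nat.pow_le_pow_right (show 2 > 0 by norm_num) (Nat.le_of_not_lt hc)
    omega
  interval_cases m <;> omega

omit hwc in
theorem Es_fix (t : Twin Q z g) {e : Equiv.Perm Vec} (he : e ∈ Es S g) {v : Vec}
    (hv : xb S g v = v) : xb S g (e v) = e v := by
  rw [← Equiv.Perm.mul_apply, ← t.Es_comm S he, Equiv.Perm.mul_apply, hv]

omit hwc in
/-- The form on the displacements is invariant. -/
theorem Es_form (t : Twin Q z g) {e : Equiv.Perm Vec} (he : e ∈ Es S g) {v i w : Vec}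
    (hv : v ∈ Set.range (disp (xb S g))) (hi : i ∈ I0 S g) (hw : disp (xb S g) w = i) :
    pol w (disp e v) = 0 := by
  have hn := Es_NS S he
  obtain ⟨θ, hθ⟩ := hn.1
  have hev : ∀ u, disp (xb S g) (e u) = e (disp (xb S g) u) := fun u => by
    rw [disp, disp, hθ.add, ← Equiv.Perm.mul_apply, ← t.Es_comm S he, Equiv.Perm.mul_apply]
  obtain ⟨u, rfl⟩ := hv
  have h1 : pol (e w) (e (disp (xb S g) u)) = pol w (disp (xb S g) u) := pol_NS hn _ _
  have h2 : disp (xb S g) (e w) = i := by rw [hev, hw, t.Es_I0 S he hi]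
  have hd : disp (xb S g) (e w + w) = 0 := by
    show dispH (t.xb_NS S) (e w + w) = 0
    rw [map_add]
    show disp (xb S g) (e w) + disp (xb S g) w = 0
    rw [h2, hw, vv]
  have h3 : pol (e w + w) (e (disp (xb S g) u)) = 0 := by
    rw [← hev]
    exact pol_of_fix (t.xb_NS S) (t.xb_sq S) (disp_eq.1 hd) _
  rw [pol_add_left, h1] at h3
  show pol w (e (disp (xb S g) u) + disp (xb S g) u) = 0
  rw [pol_add_right, add_comm]
  exact h3

/-- With four elements in the intersection, the displacements are fixed. -/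
theorem Es_fix_range (t : Twin Q z g) (hfl : Flat S g) (h4 : Nat.card (Is Q g) = 4)
    {e : Equiv.Perm Vec} (he : e ∈ Es S g) {v : Vec} (hv : v ∈ Set.range (disp (xb S g))) :
    e v = v := by
  classical
  refine disp_eq.1 ?_
  by_contra hne
  have hfix : xb S g v = v := range_le_fix (t.xb_NS S) (t.xb_sq S) hv
  obtain ⟨q, hq, hqv⟩ := S.π_surj v
  have hδ := t.Es_moves S he (mem_Xs.2 ⟨hq, hfl q hq (hqv.symm ▸ hfix)⟩)
  rw [hqv] at hδ
  obtain ⟨c, hc, hcd⟩ := hδ
  have hc1 : c ≠ 1 := fun h => hne (by rw [← hcd, h, S.π_one])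
  obtain ⟨b, hb, hb'⟩ := exists_third (I := Is Q g) (k := 2) (by omega) ({1, c} : Finset G) Finset.card_le_two
  simp only [Finset.mem_insert, Finset.mem_singleton, not_or] at hb'
  have mb : S.π b ∈ I0 S g := ⟨b, hb, rfl⟩
  obtain ⟨w, hw⟩ := t.flat_I0 S hfl mb
  have h0 := t.Es_form S he hv mb hw
  rw [← hcd] at h0 hne
  have h1 := t.f_one S hwc mb ⟨c, hc, rfl⟩ (t.flat_I0 S hfl ⟨c, hc, rfl⟩)
    (fun e => hb'.1 (t.Is_inj S (one_mem _) hb (by rw [e, S.π_one]))) hne
    (fun e => hb'.2 (t.Is_inj S hc hb e.symm)) hw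
  rw [h0] at h1
  exact zero_ne_one h1

/-- A semilinear involution is impossible. -/
theorem no_semi (t : Twin Q z g) (hθ : Semi true (xb S g)) : False := by
  classical
  have hN := t.xb_NS S
  have h2 := t.xb_sq S
  have split : ∀ v, ∃ f₁ f₂, xb S g f₁ = f₁ ∧ xb S g f₂ = f₂ ∧ v = ω₄ • f₁ + f₂ := by
    intro v
    refine ⟨disp (xb S g) v, disp (xb S g) (ω₄ • xb S g v), disp_fixed hN h2 _, disp_fixed hN h2 _, ?_⟩
    rw [disp, disp, hθ.smul, inv2_apply hN h2]
    funext i
    have key : ∀ a b : K4, a = ω₄ * (b + a) + (tw true ω₄ * a + ω₄ * b) := by decide +kernel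
    exact key _ _
  have dw : ∀ {f}, xb S g f = f → disp (xb S g) (ω₄ • f) = f := by
    intro f hf'
    rw [disp, hθ.smul, hf']
    funext i
    have key : ∀ a : K4, tw true ω₄ * a + ω₄ * a = a := by decide +kernel
    exact key _
  let F₀ : Set Vec := {f | xb S g f = f}
  have inv : ∀ {e}, e ∈ Es S g → Semi false e → ∀ u v, pol (ω₄ • e u) (e v) = pol (ω₄ • u) v := by
    intro e he hl u v
    rw [show ω₄ • e u = e (ω₄ • u) from (hl.smul ω₄ u).symm]
    exact pol_NS (Es_NS S he) _ _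
  have nondeg : ∀ {a}, xb S g a = a → a ≠ 0 → ∃ v, xb S g v = v ∧ pol (ω₄ • a) v = 1 := by
    intro a ha ha0
    by_contra hcon
    push Not at hcon
    have hr : ω₄ • a ∈ Set.range (disp (xb S g)) := range_of_pol hN h2 fun f hf' =>
      (show ∀ t : ZMod 2, t ≠ 1 → t = 0 by decide) _ (hcon f hf')
    have hfx : xb S g (ω₄ • a) = ω₄ • a := range_le_fix hN h2 hr
    exact ha0 ((dw ha).symm.trans (disp_eq.2 hfx))
  have val : ∀ {e e'}, e ∈ Es S g → e' ∈ Es S g → Semi false e → Semi false e' →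
      ∀ u u', xb S g u = u → xb S g u' = u' → disp e u ≠ 0 → disp e' u' ≠ 0 →
      disp e u = disp e' u' := by
    intro e e' he he' hl hl' u u' hu hu' hp hq
    by_cases hfl : Flat S g
    · have hI : ∀ {e}, e ∈ Es S g → ∀ f, xb S g f = f → disp e f ∈ I0 S g := by
        intro e he f hf'
        obtain ⟨q, hq, rfl⟩ := S.π_surj f
        exact t.Es_moves S he (mem_Xs.2 ⟨hq, hfl q hq hf'⟩)
      rcases le_or_gt (Nat.card (Is Q g)) 2 with h | h
      · by_contra hne
        rw [← t.card_I0 S] at h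
        have h3 := Nat.card_le_card_of_injective
          (fun j : Fin 3 => (⟨![0, disp e u, disp e' u'] j, by
            fin_cases j <;> simp [hI he u hu, hI he' u' hu']⟩ : ↥(I0 S g)))
          (fun i j e0 => by
            have e1 := congrArg Subtype.val e0
            fin_cases i <;> fin_cases j <;> simp [hne, Ne.symm hne, hp, hq, Ne.symm hp, Ne.symm hq] at e1 ⊢)
        rw [Nat.card_fin] at h3
        omega
      · have h4 : Nat.card (Is Q g) = 4 := t.card_eq_four S (t.flat_four S hwc hfl) h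
        exact absurd (disp_eq.2 (t.Es_fix_range S hwc hfl h4 he ⟨_, dw hu⟩)) hp
    · obtain ⟨s, hs, hsf, hsx⟩ := t.exists_shift S hfl
      have hfix : ∀ {e}, e ∈ Es S g → ∀ q ∈ Xs Q z g, e (S.π q) = S.π q := by
        intro e he q hq
        have hm := t.Es_moves S he hq
        exact disp_eq.1 (t.not_flat_disjoint S hwc hfl hm ⟨_, dw (t.I0_fix S hm)⟩)
      have orth : ∀ {e}, e ∈ Es S g → Semi false e → ∀ u, ∀ q ∈ Xs Q z g,
          pol (ω₄ • disp e u) (S.π q) = 0 := by
        intro e he hl u q hq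
        have h := inv he hl u (S.π q)
        rw [hfix he q hq] at h
        rw [disp, smul_add, pol_add_left, h]
        exact zmod_add_self _
      have one : ∀ {e}, e ∈ Es S g → Semi false e → ∀ u, xb S g u = u → disp e u ≠ 0 →
          pol (ω₄ • disp e u) (S.π s) = 1 := by
        intro e he hl u hu hne
        have hdf : xb S g (disp e u) = disp e u := by
          show disp e u ∈ fixA hN
          exact add_mem (show e u ∈ fixA hN from t.Es_fix S he hu) hu
        obtain ⟨v, hv, hv1⟩ := nondeg hdf hne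
        obtain ⟨q, hq, rfl⟩ := S.π_surj v
        by_cases hqX : q ∈ Xs Q z g
        · rw [orth he hl u q hqX] at hv1
          exact absurd hv1 zero_ne_one
        · have h := orth he hl u _ (t.shift_mul S hs hsx ⟨hq, hv⟩ hqX)
          rw [S.π_mul s hs q hq, pol_add_right, hv1] at h
          exact (show ∀ x : ZMod 2, x + 1 = 0 → x = 1 by decide) _ h
      have hpf : xb S g (disp e u + disp e' u') = disp e u + disp e' u' := by
        show disp e u + disp e' u' ∈ fixA hN
        exact add_mem (add_mem (show e u ∈ fixA hN from t.Es_fix S he hu) hu)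
          (add_mem (show e' u' ∈ fixA hN from t.Es_fix S he' hu') hu')
      by_contra hne
      obtain ⟨v, hv, hv1⟩ := nondeg hpf (fun h0 => hne (by
        calc disp e u = (disp e u + disp e' u') + disp e' u' := by rw [add_assoc, vv, add_zero]
          _ = _ := by rw [h0, zero_add]))
      rw [smul_add, pol_add_left] at hv1
      obtain ⟨q, hq', rfl⟩ := S.π_surj v
      by_cases hqX : q ∈ Xs Q z g
      · rw [orth he hl u q hqX, orth he' hl' u' q hqX] at hv1
        exact absurd hv1 (by decide)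
      · have h := orth he hl u _ (t.shift_mul S hs hsx ⟨hq', hv⟩ hqX)
        have h' := orth he' hl' u' _ (t.shift_mul S hs hsx ⟨hq', hv⟩ hqX)
        rw [S.π_mul s hs q hq', pol_add_right, one he hl u hu hp] at h
        rw [S.π_mul s hs q hq', pol_add_right, one he' hl' u' hu' hq] at h'
        exact (show ∀ x y : ZMod 2, 1 + x = 0 → 1 + y = 0 → x + y ≠ 1 by decide) _ _ h h' hv1
  have hlin : Nat.card {e : ↥(Es S g) // Semi false (e : Equiv.Perm Vec)} ≤ 2 := by
    have lin_ext : ∀ {a b : {e : ↥(Es S g) // Semi false (e : Equiv.Perm Vec)}},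
        (∀ f, xb S g f = f → disp (a.1 : Equiv.Perm Vec) f = disp (b.1 : Equiv.Perm Vec) f) → a = b := by
      intro a b h
      refine Subtype.ext (Subtype.ext (Equiv.ext fun v => ?_))
      obtain ⟨f₁, f₂, h₁, h₂, rfl⟩ := split v
      rw [a.2.add, b.2.add, a.2.smul, b.2.smul, add_right_cancel (h _ h₁), add_right_cancel (h _ h₂)]
    by_cases hz : ∀ e ∈ Es S g, Semi false e → ∀ u, xb S g u = u → disp e u = 0
    · haveI : Subsingleton {e : ↥(Es S g) // Semi false (e : Equiv.Perm Vec)} :=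
        ⟨fun a b => lin_ext fun f hf' => by rw [hz _ a.1.2 a.2 f hf', hz _ b.1.2 b.2 f hf']⟩
      exact (Finite.card_le_one_iff_subsingleton.2 inferInstance).trans (by norm_num)
    push Not at hz
    obtain ⟨e₁, he₁, hl₁, u₁, hu₁, hne₁⟩ := hz
    set a := disp e₁ u₁ with hadef
    have ha : xb S g a = a := by
      show e₁ u₁ + u₁ ∈ fixA hN
      exact add_mem (show e₁ u₁ ∈ fixA hN from t.Es_fix S he₁ hu₁) hu₁
    obtain ⟨v₀, hv₀, hv₀1⟩ := nondeg ha hne₁
    refine card_le_two (fun e => if disp (e.1 : Equiv.Perm Vec) v₀ = 0 then 0 else 1) fun c d h => ?_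
    have form : ∀ (c : {e : ↥(Es S g) // Semi false (e : Equiv.Perm Vec)}) (f), xb S g f = f →
        disp (c.1 : Equiv.Perm Vec) f =
          if disp (c.1 : Equiv.Perm Vec) v₀ = 0 then 0 else if pol (ω₄ • a) f = 1 then a else 0 := by
      intro c f hf'
      set e : Equiv.Perm Vec := (c.1 : Equiv.Perm Vec) with hedef
      have he : e ∈ Es S g := c.1.2
      have hl : Semi false e := c.2
      have cases2 : ∀ w, xb S g w = w → disp e w = 0 ∨ disp e w = a := fun w hw =>
        or_iff_not_imp_left.2 fun hne => val he he₁ hl hl₁ w u₁ hw hu₁ hne hne₁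
      have ev : ∀ w, e w = w + disp e w := fun w => by
        rw [disp, add_comm (e w) w, ← add_assoc, vv, zero_add]
      have h := inv he hl v₀ f
      rw [ev v₀, ev f, smul_add, pol_add_left, pol_add_right, pol_add_right] at h
      have hsym : pol (ω₄ • v₀) a = pol (ω₄ • a) v₀ := by
        have e1 : pol (disp (xb S g) (ω₄ • v₀)) (ω₄ • a) = pol (ω₄ • v₀) (disp (xb S g) (ω₄ • a)) :=
          pol_disp hN h2 _ _
        rw [dw hv₀, dw ha] at e1
        rw [← e1, pol_symm]
      have p0 : pol (ω₄ • (0 : Vec)) f = 0 ∧ pol (ω₄ • (0 : Vec)) (0 : Vec) = 0 ∧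
          pol (ω₄ • (0 : Vec)) a = 0 := by
        refine ⟨?_, ?_, ?_⟩ <;> rw [smul_zero, pol_symm, pol_zero_right]
      rcases cases2 v₀ hv₀ with e0 | e1 <;> rcases cases2 f hf' with f0 | f1
      · rw [e0, if_pos rfl, f0]
      · exfalso
        rw [e0, f1, p0.1, p0.2.2, hsym, hv₀1] at h
        exact (show ∀ x : ZMod 2, x + 1 + (0 + 0) ≠ x by decide) _ h
      · rw [e1, if_neg hne₁, f0]
        rw [e1, f0, pol_zero_right, pol_zero_right] at h
        rw [if_neg]
        intro h1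
        rw [h1] at h
        exact (show ∀ x : ZMod 2, x + 0 + (1 + 0) ≠ x by decide) _ h
      · rw [e1, if_neg hne₁, f1]
        rw [if_pos]
        -- the point is moved
        have hd := inv he hl v₀ v₀
        rw [ev v₀, e1, smul_add, pol_add_left, pol_add_right, pol_add_right, hsym, hv₀1] at hd
        rw [e1, f1, hsym, hv₀1] at h
        exact (show ∀ x y p q : ZMod 2, x + 1 + (1 + p) = x → y + 1 + (q + p) = y → q = 1 by decide)
          _ _ _ _ hd h
    refine lin_ext fun f hf' => ?_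
    rw [form c f hf', form d f hf']
    dsimp only at h
    by_cases h1 : disp (c.1 : Equiv.Perm Vec) v₀ = 0 <;>
      by_cases h2' : disp (d.1 : Equiv.Perm Vec) v₀ = 0
    · rw [if_pos h1, if_pos h2']
    · rw [if_pos h1, if_neg h2'] at h
      exact absurd h (by decide)
    · rw [if_neg h1, if_pos h2'] at h
      exact absurd h (by decide)
    · rw [if_neg h1, if_neg h2']
  -- all elements
  have hall : Nat.card (Es S g) ≤ 4 := by
    by_cases hsemi : ∃ e ∈ Es S g, Semi true e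
    · obtain ⟨e₀, he₀, hs₀⟩ := hsemi
      have hle := Nat.card_le_card_of_injective
        (fun e : ↥(Es S g) => if h : Semi false (e : Equiv.Perm Vec) then
            ((true, ⟨e, h⟩) : Bool × {e : ↥(Es S g) // Semi false (e : Equiv.Perm Vec)})
          else (false, ⟨⟨(e : Equiv.Perm Vec) * e₀, mul_mem e.2 he₀⟩, by
            obtain ⟨θ, hθe⟩ := (Es_NS S e.2).1
            cases θ
            · exact absurd hθe h
            · exact hθe.comp hs₀⟩))
        (fun a b e => by
          dsimp only at e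
          split_ifs at e <;> simp at e <;> exact Subtype.ext (by simpa using e))
      rw [Nat.card_prod, Nat.card_eq_fintype_card (α := Bool), Fintype.card_bool] at hle
      omega
    · push Not at hsemi
      have hle := Nat.card_le_card_of_injective
        (fun e : ↥(Es S g) => (⟨e, by
          obtain ⟨θ, hθe⟩ := (Es_NS S e.2).1
          cases θ
          · exact hθe
          · exact absurd hθe (hsemi e e.2)⟩ : {e : ↥(Es S g) // Semi false (e : Equiv.Perm Vec)}))
        (fun a b e => congrArg Subtype.val e)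
      omega
  have := t.Es_lower S
  have := Nat.mul_le_mul (t.Is_le_four S hwc) hall
  omega

/-! ### A linear involution -/

/-- The image of the part of the core centralising the conjugate. -/
noncomputable def W0 (g : G) : AddSubgroup Vec := S.piImage (Xs Q z g) inf_le_left

omit hwc in
theorem W0_fix (t : Twin Q z g) {v : Vec} (hv : v ∈ W0 S g) : xb S g v = v := by
  obtain ⟨q, hq, rfl⟩ := hv
  exact t.Q_fix_of_comm S (mem_Xs.1 hq).1 (mem_Xs.1 hq).2

omit hwc in
theorem W0_flat (t : Twin Q z g) (hfl : Flat S g) {v : Vec} (hv : xb S g v = v) : v ∈ W0 S g := by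
  obtain ⟨q, hq, rfl⟩ := S.π_surj v
  exact ⟨q, mem_Xs.2 ⟨hq, hfl q hq hv⟩, rfl⟩

omit hwc in
theorem W0_add (t : Twin Q z g) {u v : Vec} (hu : xb S g u = u) (hv : xb S g v = v)
    (hu' : u ∉ W0 S g) (hv' : v ∉ W0 S g) : u + v ∈ W0 S g := by
  by_cases hfl : Flat S g
  · exact absurd (t.W0_flat S hfl hu) hu'
  obtain ⟨s, hs, -, hsx⟩ := t.exists_shift S hfl
  obtain ⟨p, hp, rfl⟩ := S.π_surj u
  obtain ⟨q, hq, rfl⟩ := S.π_surj v
  have h1 : S.π (s * p) ∈ W0 S g :=
    ⟨_, t.shift_mul S hs hsx ⟨hp, hu⟩ fun h => hu' ⟨p, h, rfl⟩, rfl⟩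
  have h2 : S.π (s * q) ∈ W0 S g :=
    ⟨_, t.shift_mul S hs hsx ⟨hq, hv⟩ fun h => hv' ⟨q, h, rfl⟩, rfl⟩
  have e := add_mem h1 h2
  rw [S.π_mul s hs p hp, S.π_mul s hs q hq] at e
  rwa [show S.π s + S.π p + (S.π s + S.π q) = S.π p + S.π q by
    rw [add_add_add_comm, vv, zero_add]] at e

omit hwc in
theorem smul_fix (hl : Semi false (xb S g)) (c : K4) {v : Vec} (hv : xb S g v = v) :
    xb S g (c • v) = c • v := by
  rw [hl.smul, hv]
  rfl

omit hwc in
theorem Es_disp (t : Twin Q z g) {e : Equiv.Perm Vec} (he : e ∈ Es S g) {v : Vec}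
    (hv : v ∈ W0 S g) : disp e v ∈ I0 S g := by
  obtain ⟨q, hq, rfl⟩ := hv
  exact t.Es_moves S he hq

/-- The side of the conjugate acts linearly. -/
theorem lin_Es (t : Twin Q z g) (hl : Semi false (xb S g)) {e : Equiv.Perm Vec} (he : e ∈ Es S g) :
    e ∈ LN := by
  classical
  obtain ⟨θ, hθ⟩ := (Es_NS S he).1
  cases θ
  · exact ⟨Es_NS S he, hθ⟩
  exfalso
  have hF := fix_ge (t.xb_NS S) (t.xb_sq S)
  set F := fixA (t.xb_NS S) with hFd
  let W2 : Set Vec := {v | v ∈ W0 S g ∧ ω₄ • v ∈ W0 S g}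
  have hW2 : Nat.card W2 ≤ Nat.card (Is Q g) * Nat.card (Is Q g) := by
    rw [← t.card_I0 S, ← Nat.card_prod]
    refine Nat.card_le_card_of_injective (fun v : W2 =>
      ((⟨_, t.Es_disp S he v.2.1⟩ : ↥(I0 S g)), (⟨_, t.Es_disp S he v.2.2⟩ : ↥(I0 S g)))) fun u v h => ?_
    have h1 := congrArg (fun x : ↥(I0 S g) × ↥(I0 S g) => (x.1 : Vec)) h
    have h2 := congrArg (fun x : ↥(I0 S g) × ↥(I0 S g) => (x.2 : Vec)) h
    have back : ∀ x : Vec, x = disp e (ω₄ • x) + tw true ω₄ • disp e x := by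
      intro x
      rw [disp, disp, hθ.smul]
      funext i
      have key : ∀ a b : K4, b = tw true ω₄ * a + ω₄ * b + tw true ω₄ * (a + b) := by decide +kernel
      exact key _ _
    refine Subtype.ext ?_
    rw [back u, back v]
    exact congrArg₂ (fun a b => a + tw true ω₄ • b) h2 h1
  by_cases hfl : Flat S g
  · have h1 : Nat.card F ≤ Nat.card W2 :=
      Nat.card_mono (Set.toFinite _) fun v (hv : xb S g v = v) =>
        ⟨t.W0_flat S hfl hv, t.W0_flat S hfl (smul_fix S hl ω₄ hv)⟩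
    have := Nat.mul_le_mul (t.Is_le_four S hwc) (t.Is_le_four S hwc)
    omega
  · -- two halvings
    have half : ∀ (A B : Set Vec), (∀ u ∈ A, u ∉ B → ∀ v ∈ A, v ∉ B → u + v ∈ B) →
        Nat.card A ≤ 2 * Nat.card B := by
      intro A B h
      rcases Set.eq_empty_or_nonempty (A \ B) with h0 | ⟨u₀, hu₀⟩
      · have := Nat.card_mono (Set.toFinite B) (Set.sdiff_eq_empty.1 h0)
        omega
      have hle := Nat.card_le_card_of_injective
        (fun v : A => if hv : (v : Vec) ∈ B then ((true, ⟨v, hv⟩) : Bool × B)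
          else (false, ⟨u₀ + v, h u₀ hu₀.1 hu₀.2 v v.2 hv⟩))
        (fun a b e => by
          dsimp only at e
          split_ifs at e <;> simp at e <;> exact Subtype.ext (by simpa using e))
      rwa [Nat.card_prod, Nat.card_eq_fintype_card (α := Bool), Fintype.card_bool] at hle
    have h1 : Nat.card F ≤ 2 * Nat.card (W0 S g) :=
      half (F : Set Vec) (W0 S g : Set Vec) fun u hu hu' v hv hv' => t.W0_add S hu hv hu' hv'
    have h2 : Nat.card (W0 S g) ≤ 2 * Nat.card W2 := by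
      refine half (W0 S g : Set Vec) W2 fun u hu hu' v hv hv' => ⟨add_mem hu hv, ?_⟩
      rw [smul_add]
      exact t.W0_add S (smul_fix S hl _ (t.W0_fix S hu)) (smul_fix S hl _ (t.W0_fix S hv))
        (fun h => hu' ⟨hu, h⟩) (fun h => hv' ⟨hv, h⟩)
    have := Nat.mul_le_mul (t.not_flat_two S hwc hfl) (t.not_flat_two S hwc hfl)
    omega

omit hwc in
/-- Agreement on the image of the part centralising the conjugate. -/
theorem fix_F (t : Twin Q z g) (hl : Semi false (xb S g)) {a b : Equiv.Perm Vec} (ha : a ∈ LN)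
    (hb : b ∈ LN) (h : ∀ v ∈ W0 S g, a v = b v) {v : Vec} (hv : xb S g v = v) : a v = b v := by
  have inj : ∀ c : K4, c ≠ 0 → c • v ∈ W0 S g → a v = b v := by
    intro c hc hm
    have e := h _ hm
    rw [ha.2.smul, hb.2.smul] at e
    exact smul_right_injective Vec hc e
  by_cases h0 : v ∈ W0 S g
  · exact h v h0
  by_cases h1 : ω₄ • v ∈ W0 S g
  · exact inj _ (by decide) h1
  by_cases h2 : (ω₄ * ω₄) • v ∈ W0 S g
  · exact inj _ (by decide) h2
  refine absurd ?_ h0
  have e := t.W0_add S (smul_fix S hl _ hv) (smul_fix S hl _ hv) h1 h2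
  rwa [← add_smul, show ω₄ + ω₄ * ω₄ = 1 by decide +kernel, one_smul] at e

/-- Counting the side of the conjugate by a map with small fibres. -/
theorem Es_fibre (t : Twin Q z g) (hl : Semi false (xb S g)) {T : Type} [Finite T]
    (f : ↥(Es S g) → T)
    (h : ∀ a b : ↥(Es S g), f a = f b →
      ∀ v ∈ W0 S g, (a : Equiv.Perm Vec) v = (b : Equiv.Perm Vec) v) :
    Nat.card (Es S g) ≤ Nat.card T * Nat.card {e // InRad (xb S g) e} := by
  classical
  have hr : ∀ e : ↥(Es S g), f (Function.invFun f (f e)) = f e := fun e =>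
    Function.invFun_eq ⟨e, rfl⟩
  rw [← Nat.card_prod]
  refine Nat.card_le_card_of_injective (fun e => (f e,
    (⟨((Function.invFun f (f e) : ↥(Es S g)) : Equiv.Perm Vec)⁻¹ * (e : Equiv.Perm Vec),
      mul_mem (inv_mem (t.lin_Es S hwc hl (Function.invFun f (f e)).2)) (t.lin_Es S hwc hl e.2),
      fun v hv => ?_⟩ : {e // InRad (xb S g) e}))) fun a b e => ?_
  · rw [Equiv.Perm.mul_apply,
      ← t.fix_F S hl (t.lin_Es S hwc hl (Function.invFun f (f e)).2) (t.lin_Es S hwc hl e.2)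
        (h _ _ (hr e)) hv]
    exact Equiv.symm_apply_apply _ _
  · have h1 : f a = f b := congrArg Prod.fst e
    have h2 := congrArg (fun x : T × {e // InRad (xb S g) e} => (x.2 : Equiv.Perm Vec)) e
    dsimp only at h2
    rw [h1] at h2
    exact Subtype.ext (mul_left_cancel h2)

omit hwc in
theorem inv_xb (t : Twin Q z g) (hl : Semi false (xb S g)) : Inv (xb S g) :=
  ⟨⟨t.xb_NS S, hl⟩, t.xb_sq S⟩

/-- Not all elements of the side of the conjugate fix the fixed vectors. -/
theorem exists_ne_zero (t : Twin Q z g) (hl : Semi false (xb S g)) : ∃ a ∈ I0 S g, a ≠ 0 := by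
  by_contra hcon
  push Not at hcon
  have h1 : Nat.card (Is Q g) ≤ 1 := by
    rw [← t.card_I0 S, Finite.card_le_one_iff_subsingleton]
    exact ⟨fun u v => Subtype.ext ((hcon _ u.2).trans (hcon _ v.2).symm)⟩
  have h2 := t.Es_fibre S hwc hl (fun _ => ()) fun a b _ v hv => by
    rw [disp_eq.1 (hcon _ (t.Es_disp S a.2 hv)), disp_eq.1 (hcon _ (t.Es_disp S b.2 hv))]
  have h3 := rad_le (t.inv_xb S hl) (t.xb_ne S)
  have h4 := t.Es_lower S
  rw [show Nat.card Unit = 1 from Nat.card_unique, one_mul] at h2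
  have := Nat.mul_le_mul h1 (h2.trans h3)
  omega

omit hwc in
theorem card_U_le (t : Twin Q z g) : Nat.card (Set.range (disp (xb S g))) ≤ 64 := by
  have h := card_fix_range (t.xb_NS S)
  have h' := range_le_card (t.xb_NS S) (t.xb_sq S)
  by_contra hcon
  push Not at hcon
  have := Nat.mul_le_mul (hcon.trans_le h') hcon
  omega

omit S hwc in
theorem three_le {A : AddSubgroup Vec} {u v : Vec} (hu : u ∈ A) (hv : v ∈ A) (hu0 : u ≠ 0)
    (hv0 : v ≠ 0) (huv : u ≠ v) : 3 ≤ Nat.card A := by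
  have h3 := Nat.card_le_card_of_injective
    (fun j : Fin 3 => (⟨![0, u, v] j, by fin_cases j <;> simp [hu, hv]⟩ : ↥A))
    (fun i j e => by
      have e1 := congrArg Subtype.val e
      fin_cases i <;> fin_cases j <;>
        simp [huv, Ne.symm huv, hu0, hv0, Ne.symm hu0, Ne.symm hv0] at e1 ⊢)
  rwa [Nat.card_fin] at h3

/-- A linear involution is flat. -/
theorem flat_of_lin (t : Twin Q z g) (hl : Semi false (xb S g)) : Flat S g := by
  classical
  by_contra hn
  have hI := t.not_flat_two S hwc hn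
  rw [← t.card_I0 S] at hI
  have hx := t.inv_xb S hl
  have hU : Nat.card (Set.range (disp (xb S g))) < 64 := by
    refine lt_of_le_of_ne (t.card_U_le S) fun h64 => ?_
    obtain ⟨a, ha, ha0⟩ := t.exists_ne_zero S hwc hl
    refine ha0 (t.not_flat_disjoint S hwc hn ha ?_)
    have hF := card_fix_range (t.xb_NS S)
    rw [h64] at hF
    have he : Set.range (disp (xb S g)) = (fixA (t.xb_NS S) : Set Vec) := by
      refine Set.eq_of_subset_of_ncard_le (range_le_fix (t.xb_NS S) (t.xb_sq S)) ?_ (Set.toFinite _)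
      rw [← Nat.card_coe_set_eq, ← Nat.card_coe_set_eq, h64]
      show Nat.card (fixA (t.xb_NS S)) ≤ 64
      omega
    rw [he]
    exact t.I0_fix S ha
  have h4 := rad_small hx (t.xb_ne S) hU
  have stable : ∀ e ∈ Es S g, ∀ v ∈ W0 S g, ω₄ • v ∈ W0 S g → disp e v = 0 := by
    intro e he v hv hv'
    by_contra hd
    have h1 := t.Es_disp S he hv
    have h2 := t.Es_disp S he hv'
    have e2 : disp e (ω₄ • v) = ω₄ • disp e v := by
      rw [disp, disp, (t.lin_Es S hwc hl he).2.smul, smul_add]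
      rfl
    rw [e2] at h2
    have := three_le (A := I0 S g) h1 h2 hd (smul_ne_zero (by decide) hd) fun e0 => hd (by
      funext i
      have key : ∀ x : K4, x = ω₄ * x → x = 0 := by decide +kernel
      exact key _ (congrFun e0 i))
    omega
  have hbound : Nat.card (Es S g) ≤ Nat.card (I0 S g) * Nat.card {e // InRad (xb S g) e} := by
    by_cases hs : ∀ w ∈ W0 S g, ω₄ • w ∈ W0 S g
    · refine t.Es_fibre S hwc hl (fun _ => (0 : ↥(I0 S g))) fun a b _ v hv => ?_
      rw [disp_eq.1 (stable a a.2 v hv (hs v hv)), disp_eq.1 (stable b b.2 v hv (hs v hv))]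
    push Not at hs
    obtain ⟨w₀, hw₀, hw₀'⟩ := hs
    refine t.Es_fibre S hwc hl (fun e => (⟨_, t.Es_disp S e.2 hw₀⟩ : ↥(I0 S g))) fun a b hab v hv => ?_
    have e0 : disp (a : Equiv.Perm Vec) w₀ = disp (b : Equiv.Perm Vec) w₀ := congrArg Subtype.val hab
    by_cases hv' : ω₄ • v ∈ W0 S g
    · rw [disp_eq.1 (stable a a.2 v hv hv'), disp_eq.1 (stable b b.2 v hv hv')]
    have hm : ω₄ • (v + w₀) ∈ W0 S g := by
      rw [smul_add]
      exact t.W0_add S (smul_fix S hl _ (t.W0_fix S hv)) (smul_fix S hl _ (t.W0_fix S hw₀)) hv' hw₀'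
    have ev : ∀ e ∈ Es S g, e v = v + disp e w₀ := by
      intro e he
      have h := disp_eq.1 (stable e he _ (add_mem hv hw₀) hm)
      rw [(t.lin_Es S hwc hl he).2.add] at h
      calc e v = e v + e w₀ + e w₀ := by rw [add_assoc, vv, add_zero]
        _ = v + disp e w₀ := by rw [h, disp, add_comm (e w₀) w₀, add_assoc]
    rw [ev a a.2, ev b b.2, e0]
  rw [t.card_I0 S] at hI hbound
  have := t.Es_lower S
  have := Nat.mul_le_mul hI (hbound.trans (Nat.mul_le_mul hI h4))
  omega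

/-- Elements of the model centralising the involution preserve the intersection. -/
theorem inv_I0 (t : Twin Q z g) (hl : Semi false (xb S g)) {k : Equiv.Perm Vec} (hk : k ∈ Kl)
    (hkx : k * xb S g = xb S g * k) {v : Vec} (hv : v ∈ I0 S g) : k v ∈ I0 S g := by
  have hfl := t.flat_of_lin S hwc hl
  have hN := t.xb_NS S
  obtain ⟨c, hc, rfl⟩ := S.ρ_surj k hk
  set x := g * z * g⁻¹ with hxd
  have hci := S.z_comm_inv hc
  have hρq : S.ρ (x⁻¹ * (c * x * c⁻¹)) = 1 := by
    rw [S.ρ_mul _ _ (S.z_comm_inv t.comm) (S.z_comm_mul (S.z_comm_mul hc t.comm) hci),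
      S.ρ_mul _ _ (S.z_comm_mul hc t.comm) hci, S.ρ_mul _ _ hc t.comm, S.ρ_inv t.comm, S.ρ_inv hc]
    change (xb S g)⁻¹ * (S.ρ c * xb S g * (S.ρ c)⁻¹) = 1
    rw [hkx]
    group
  have hqQ := (S.ρ_ker _ (S.z_comm_mul (S.z_comm_inv t.comm)
    (S.z_comm_mul (S.z_comm_mul hc t.comm) hci))).1 hρq
  set q := x⁻¹ * (c * x * c⁻¹) with hqd
  have hqU : S.π q ∈ Set.range (disp (xb S g)) := by
    refine range_of_pol hN (t.xb_sq S) fun f hf' => ?_
    obtain ⟨r, hr, rfl⟩ := S.π_surj f
    have h1 : r * x = x * r := hfl r hr hf'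
    have hr' := S.norm _ hci r hr
    have h2 : xb S g (S.π (c⁻¹ * r * c⁻¹⁻¹)) = S.π (c⁻¹ * r * c⁻¹⁻¹) := by
      rw [S.ρ_π _ hci r hr, S.ρ_inv hc]
      apply (S.ρ c).injective
      rw [← Equiv.Perm.mul_apply (S.ρ c) (xb S g), hkx, Equiv.Perm.mul_apply,
        show S.ρ c ((S.ρ c)⁻¹ (S.π r)) = S.π r from (S.ρ c).apply_symm_apply _]
      exact hf'
    have h3 : c⁻¹ * r * c⁻¹⁻¹ * x = x * (c⁻¹ * r * c⁻¹⁻¹) := hfl _ hr' h2
    rw [← S.comm_iff hqQ hr, hqd]
    have h4 : r * (c * x * c⁻¹) = c * x * c⁻¹ * r :=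
      calc r * (c * x * c⁻¹) = c * (c⁻¹ * r * c⁻¹⁻¹ * x) * c⁻¹ := by group
        _ = _ := by rw [h3]; group
    calc x⁻¹ * (c * x * c⁻¹) * r = x⁻¹ * (r * (c * x * c⁻¹)) := by rw [h4]; group
      _ = x⁻¹ * (r * x) * (x⁻¹ * (c * x * c⁻¹)) := by group
      _ = _ := by rw [h1]; group
  obtain ⟨w, hw⟩ := hqU
  obtain ⟨r, hr, rfl⟩ := S.π_surj w
  obtain ⟨hm, hπ⟩ := t.disp_commutator S hr
  rw [← hxd] at hm hπ
  have hrz : r * z = z * r := S.le r hr
  rcases S.π_eq hm hqQ (hπ.trans hw) with e | e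
  · have hcx : r⁻¹ * c * x = x * (r⁻¹ * c) := by
      have e' : c * x * c⁻¹ = r * x * r⁻¹ := mul_left_cancel e
      calc r⁻¹ * c * x = r⁻¹ * (c * x * c⁻¹) * c := by group
        _ = _ := by rw [e']; group
    have hd : r⁻¹ * c * z = z * (r⁻¹ * c) := S.z_comm_mul (S.z_comm_inv hrz) hc
    have hρ : S.ρ (r⁻¹ * c) = S.ρ c := by
      rw [S.ρ_mul _ _ (S.z_comm_inv hrz) hc, S.ρ_inv hrz, (S.ρ_ker r hrz).2 hr, inv_one, one_mul]
    obtain ⟨a, ha, rfl⟩ := hv
    obtain ⟨ha1, ha2⟩ := mem_Is.1 ha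
    rw [← hρ, ← S.ρ_π _ hd a ha1]
    refine ⟨_, mem_Is.2 ⟨S.norm _ hd a ha1, ?_⟩, rfl⟩
    have hd' : g⁻¹ * (r⁻¹ * c) * g * z = z * (g⁻¹ * (r⁻¹ * c) * g) :=
      calc g⁻¹ * (r⁻¹ * c) * g * z = g⁻¹ * (r⁻¹ * c * x) * g := by rw [hxd]; group
        _ = _ := by rw [hcx, hxd]; group
    have h := S.norm _ hd' _ ha2
    rwa [show g⁻¹ * (r⁻¹ * c) * g * (g⁻¹ * a * g) * (g⁻¹ * (r⁻¹ * c) * g)⁻¹ =
      g⁻¹ * (r⁻¹ * c * a * (r⁻¹ * c)⁻¹) * g by group] at h
  · -- the conjugate times the central involution would be a conjugate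
    exfalso
    obtain ⟨a0, ha0, hne⟩ := t.exists_ne_zero S hwc hl
    obtain ⟨w', hw'⟩ := t.flat_I0 S hfl ha0
    obtain ⟨r', hr', a, ha, -, -, ha1, e'⟩ := t.move' S hwc ha0 hne hw'
    rw [← hxd] at e'
    have hsx : r⁻¹ * c * x * (r⁻¹ * c)⁻¹ = x * z := by
      have e2 : c * x * c⁻¹ = x * z * x⁻¹ * (r * x * r⁻¹) :=
        calc c * x * c⁻¹ = x * q := by rw [hqd, mul_inv_cancel_left]
          _ = _ := by rw [e]; group
      have hcm : x * z = z * x := t.comm
      calc r⁻¹ * c * x * (r⁻¹ * c)⁻¹ = r⁻¹ * (c * x * c⁻¹) * r := by group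
        _ = r⁻¹ * (x * z * x⁻¹) * r * x := by rw [e2]; group
        _ = r⁻¹ * (z * r) * x := by rw [hcm]; group
        _ = r⁻¹ * (r * z) * x := by rw [hrz]
        _ = z * x := by group
        _ = x * z := hcm.symm
    refine ha1 (t.only_mul S hwc (r := r' * (r⁻¹ * c)) ha ?_)
    rw [← hxd]
    calc r' * (r⁻¹ * c) * x * (r' * (r⁻¹ * c))⁻¹ = r' * (r⁻¹ * c * x * (r⁻¹ * c)⁻¹) * r'⁻¹ := by group
      _ = r' * x * r'⁻¹ * (r' * z * r'⁻¹) := by rw [hsx]; group
      _ = x * (z * a) * z := by rw [e', S.le r' hr', mul_inv_cancel_right]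
      _ = x * (z * (a * z)) := by group
      _ = x * a := by rw [S.le a (mem_Is.1 ha).1, ← mul_assoc z z a, S.z_sq, one_mul]

/-- The intersection is a point of the displacements, anisotropic for the involution. -/
theorem point (t : Twin Q z g) (hl : Semi false (xb S g)) :
    ∃ a w, disp (xb S g) w = a ∧ a ≠ 0 ∧ hf w a ≠ 0 ∧ Nat.card (Is Q g) = 4 ∧
      ∀ v, v ∈ I0 S g ↔ ∃ c : K4, v = c • a := by
  classical
  have hfl := t.flat_of_lin S hwc hl
  obtain ⟨a, ha, ha0⟩ := t.exists_ne_zero S hwc hl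
  obtain ⟨k, hk, hks⟩ := exists_smul_mem
  have hom : ∀ v ∈ I0 S g, ω₄ • v ∈ I0 S g := fun v hv => by
    rw [← hks]
    refine t.inv_I0 S hwc hl hk (Equiv.ext fun u => ?_) hv
    rw [Equiv.Perm.mul_apply, Equiv.Perm.mul_apply, hks, hks, hl.smul]
    rfl
  have hall : ∀ c : K4, c • a ∈ I0 S g := by
    intro c
    have : c = 0 ∨ c = 1 ∨ c = ω₄ ∨ c = ω₄ * ω₄ := by revert c; decide +kernel
    rcases this with rfl | rfl | rfl | rfl
    · rw [zero_smul]; exact zero_mem _
    · rw [one_smul]; exact ha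
    · exact hom a ha
    · rw [mul_smul]; exact hom _ (hom a ha)
  have hinj : Function.Injective fun c : K4 => (⟨c • a, hall c⟩ : ↥(I0 S g)) := fun c d e =>
    smul_left_injective K4 ha0 (congrArg Subtype.val e)
  have h4 : Nat.card K4 = 4 := by rw [Nat.card_eq_fintype_card]; decide +kernel
  have hle := t.Is_le_four S hwc
  have hge := Nat.card_le_card_of_injective _ hinj
  rw [h4, t.card_I0 S] at hge
  have hb := Function.Injective.bijective_of_nat_card_le hinj (by rw [t.card_I0 S, h4]; exact hle)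
  obtain ⟨w, hw⟩ := t.flat_I0 S hfl ha
  refine ⟨a, w, hw, ha0, fun e => ?_, le_antisymm hle hge, fun v => ⟨fun hv => ?_, ?_⟩⟩
  · have h := t.f_one S hwc ha (hall ω₄) (t.flat_I0 S hfl (hall ω₄)) ha0
      (smul_ne_zero (by decide) ha0) (fun e0 => ha0 (by
        funext i
        have key : ∀ x : K4, x = ω₄ * x → x = 0 := by decide +kernel
        exact key _ (congrFun e0 i))) hw
    rw [pol_symm, pol_eq, herm_smul_left, hf_comm, e] at h
    exact absurd h (by decide +kernel)
  · obtain ⟨c, hc⟩ := hb.2 ⟨v, hv⟩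
    exact ⟨c, (congrArg Subtype.val hc).symm⟩
  · rintro ⟨c, rfl⟩
    exact hall c

theorem U_lt (t : Twin Q z g) (hl : Semi false (xb S g)) :
    Nat.card (Set.range (disp (xb S g))) < 64 := by
  refine lt_of_le_of_ne (t.card_U_le S) fun h64 => ?_
  obtain ⟨a, w, hw, -, hwa, -, hI⟩ := t.point S hwc hl
  rw [← hw] at hwa
  obtain ⟨c, hc, hcx, hmv⟩ := mover (t.inv_xb S hl) h64 hwa
  rw [hw] at hmv
  obtain ⟨d, hd⟩ := (hI _).1 (t.inv_I0 S hwc hl hc hcx ((hI a).2 ⟨1, (one_smul _ _).symm⟩))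
  exact hmv d hd

/-- The side of the conjugate against the quotient of the fixed vectors by the displacements. -/
theorem Es_bound (t : Twin Q z g) (hl : Semi false (xb S g)) :
    Nat.card (Es S g) * Nat.card (Set.range (disp (xb S g))) ≤
      4 * Nat.card (fixA (t.xb_NS S)) := by
  classical
  have hfl := t.flat_of_lin S hwc hl
  have hx := t.inv_xb S hl
  have hN := t.xb_NS S
  obtain ⟨a, w, hw, ha0, hwa, h4, hI⟩ := t.point S hwc hl
  have haU : a ∈ Set.range (disp (xb S g)) := ⟨w, hw⟩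
  have haI : a ∈ I0 S g := (hI a).2 ⟨1, (one_smul _ _).symm⟩
  have hdF : ∀ e : ↥(Es S g), disp (e : Equiv.Perm Vec) w ∈ fixA hN := by
    intro e
    have hel := t.lin_Es S hwc hl e.2
    show xb S g _ = _
    refine disp_eq.1 ?_
    have h1 : disp (xb S g) ((e : Equiv.Perm Vec) w) = (e : Equiv.Perm Vec) (disp (xb S g) w) := by
      rw [disp, disp, hel.2.add, ← Equiv.Perm.mul_apply, ← t.Es_comm S e.2, Equiv.Perm.mul_apply]
    show dispH hN ((e : Equiv.Perm Vec) w + w) = 0
    rw [map_add]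
    show disp (xb S g) _ + disp (xb S g) w = 0
    rw [h1, hw, t.Es_I0 S e.2 haI, vv]
  set U' := ((dispH hN).range).addSubgroupOf (fixA hN) with hU'
  have key : ∀ (e : ↥(Es S g)) (f : Vec), xb S g f = f →
      (e : Equiv.Perm Vec) f = f + (hf f (disp (e : Equiv.Perm Vec) w) * (hf a w)⁻¹) • a := by
    intro e f hf'
    have hel := t.lin_Es S hwc hl e.2
    set d := disp (e : Equiv.Perm Vec) w with hdd
    obtain ⟨l, hl'⟩ := (hI _).1 (t.Es_disp S e.2 (t.W0_flat S hfl hf'))
    have ef : (e : Equiv.Perm Vec) f = f + l • a := by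
      rw [← hl', disp, add_comm _ f, ← add_assoc, vv, zero_add]
    have ew : (e : Equiv.Perm Vec) w = w + d := by
      rw [hdd, disp, add_comm _ w, ← add_assoc, vv, zero_add]
    have h := herm_LN hel f w
    rw [ef, ew, herm_add_left, herm_add_right hK, herm_add_right hK, herm_smul_left,
      herm_smul_left] at h
    have had : hf a d = 0 := by
      rw [hf_comm, ← hw, perp_of_fix hx (hdF e)]
      exact zero_pow two_ne_zero
    rw [had, mul_zero, add_zero] at h
    have haw : hf a w ≠ 0 := fun e0 => hwa (by rw [hf_comm, e0]; exact zero_pow two_ne_zero)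
    rw [ef]
    congr 2
    have k4 : ∀ A B l p : K4, A + B + l * p = A → l * p = B := by decide +kernel
    rw [← k4 _ _ _ _ h, mul_inv_cancel_right₀ haw]
  have hb := t.Es_fibre S hwc hl
    (fun e => (QuotientAddGroup.mk ⟨_, hdF e⟩ : ↥(fixA hN) ⧸ U')) fun p q hpq v hv => by
      have hv' := t.W0_fix S hv
      obtain ⟨y, hy⟩ := (QuotientAddGroup.eq.1 hpq : _ ∈ U')
      rw [key p v hv', key q v hv']
      congr 3
      have h0 : hf v (disp (xb S g) y) = 0 := perp_of_fix hx hv' y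
      have hy' : disp (xb S g) y = -disp (p : Equiv.Perm Vec) w + disp (q : Equiv.Perm Vec) w := hy
      rw [hy', neg_eq_of_add_eq_zero_left (vv _), herm_add_right hK] at h0
      have k2 : ∀ A B : K4, A + B = 0 → A = B := by decide +kernel
      exact k2 _ _ h0
  have hcard := AddSubgroup.card_mul_index U'
  have hUc : Nat.card U' = Nat.card (Set.range (disp (xb S g))) := by
    rw [Nat.card_congr (AddSubgroup.addSubgroupOfEquivOfLe
      (show (dispH hN).range ≤ fixA hN from range_le_fix hN (t.xb_sq S))).toEquiv]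
    rfl
  rw [hUc, AddSubgroup.index] at hcard
  have h := Nat.mul_le_mul_right (Nat.card (Set.range (disp (xb S g))))
    (hb.trans (Nat.mul_le_mul_left _ (rad_small hx (t.xb_ne S) (t.U_lt S hwc hl))))
  refine h.trans ?_
  rw [← hcard]
  exact le_of_eq (by ring)

theorem card_Es_flat (t : Twin Q z g) (hl' : Semi false (xb S g⁻¹)) :
    Nat.card (Is Q g) * Nat.card (Es S g) = 2 * Nat.card (fixA (t.symm.xb_NS S)) := by
  rw [card_Es S g]
  exact t.symm.card_Xs_flat S (t.symm.flat_of_lin S hwc hl')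

/-- A displacement space larger than the intersection has at least 16 elements. -/
theorem U_eq (t : Twin Q z g) (hl : Semi false (xb S g))
    (h8 : Nat.card (Set.range (disp (xb S g))) ≤ 8) :
    Nat.card (Set.range (disp (xb S g))) = 4 := by
  classical
  obtain ⟨a, w, hw, ha0, -, h4, hI⟩ := t.point S hwc hl
  have hsub : (I0 S g : Set Vec) ⊆ Set.range (disp (xb S g)) := fun v hv =>
    t.flat_I0 S (t.flat_of_lin S hwc hl) hv
  have hge := Nat.card_mono (Set.toFinite _) hsub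
  have hI4 : Nat.card (I0 S g : Set Vec) = 4 := (t.card_I0 S).trans h4
  rw [hI4] at hge
  refine le_antisymm ?_ hge
  by_contra hcon
  push Not at hcon
  obtain ⟨v, hv, hv'⟩ : ∃ v ∈ Set.range (disp (xb S g)), v ∉ I0 S g := by
    by_contra h
    push Not at h
    have := Nat.card_mono (Set.toFinite (I0 S g : Set Vec)) h
    omega
  obtain ⟨y, rfl⟩ := hv
  have hmem : ∀ p : K4 × K4, p.1 • a + p.2 • disp (xb S g) y ∈ Set.range (disp (xb S g)) := fun p =>
    ⟨p.1 • w + p.2 • y, by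
      rw [← hw]
      simp only [disp, hl.add, hl.smul, smul_add]
      show p.1 • _ + p.2 • _ + _ = _
      abel⟩
  have hinj : Function.Injective fun p : K4 × K4 =>
      (⟨_, hmem p⟩ : Set.range (disp (xb S g))) := by
    rintro ⟨p, q⟩ ⟨p', q'⟩ e
    have e' : p • a + q • disp (xb S g) y = p' • a + q' • disp (xb S g) y := congrArg Subtype.val e
    have hq : q = q' := by
      by_contra hne
      refine hv' ((hI _).2 ⟨(q + q')⁻¹ * (p + p'), ?_⟩)
      have hq0 : q + q' ≠ 0 := fun h0 => hne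
        ((show ∀ A B : K4, A + B = 0 → A = B by decide +kernel) _ _ h0)
      have e2 : (q + q') • disp (xb S g) y = (p + p') • a := by
        funext i
        have := congrFun e' i
        simp only [Pi.add_apply, Pi.smul_apply, smul_eq_mul] at this ⊢
        have key : ∀ pa qy pa' qy' : K4, pa + qy = pa' + qy' → qy + qy' = pa + pa' := by decide +kernel
        rw [add_mul, add_mul, key _ _ _ _ this]
      rw [mul_smul, ← e2, smul_smul, inv_mul_cancel₀ hq0, one_smul]
    subst hq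
    exact Prod.ext (smul_left_injective K4 ha0 (add_right_cancel e')) rfl
  have : Nat.card (K4 × K4) ≤ Nat.card (Set.range (disp (xb S g))) :=
    Nat.card_le_card_of_injective _ hinj
  rw [Nat.card_prod, Nat.card_eq_fintype_card (α := K4), show Fintype.card K4 = 4 by decide +kernel]
    at this
  omega

/-- A linear involution is impossible. -/
theorem no_lin (t : Twin Q z g) (hl : Semi false (xb S g)) : False := by
  have hl' : Semi false (xb S g⁻¹) := by
    obtain ⟨θ, hθ⟩ := (t.symm.xb_NS S).1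
    cases θ
    · exact hθ
    · exact (t.symm.no_semi S hwc hθ).elim
  obtain ⟨-, -, -, -, -, h4, -⟩ := t.point S hwc hl
  obtain ⟨-, -, -, -, -, h4', -⟩ := t.symm.point S hwc hl'
  have a1 := t.card_Es_flat S hwc hl'
  have b1 := t.Es_bound S hwc hl
  have a2 : Nat.card (Is Q g⁻¹) * Nat.card (Es S g⁻¹) = 2 * Nat.card (fixA (t.xb_NS S)) := by
    rw [card_Es S g⁻¹]
    simp only [inv_inv]
    exact t.card_Xs_flat S (t.flat_of_lin S hwc hl)
  have b2 := t.symm.Es_bound S hwc hl'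
  have c1 := card_fix_range (t.xb_NS S)
  have c2 := card_fix_range (t.symm.xb_NS S)
  rw [h4] at a1
  rw [h4'] at a2
  have d1 := t.U_eq S hwc hl
  have d2 := t.symm.U_eq S hwc hl'
  have hdvd : Nat.card (Es S g) ∣ Nat.card LN :=
    Subgroup.card_dvd_of_le fun e he => t.lin_Es S hwc hl he
  have hLN : Nat.card LN = 2 * (3 * 3265920) := by
    rw [← card_Kl, ← Subgroup.card_mul_index (Kl.subgroupOf LN), index_LN,
      Nat.card_congr (Subgroup.subgroupOfEquivOfLe Kl_le_LN).toEquiv, mul_comm]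
  rw [hLN] at hdvd
  generalize Nat.card (Es S g) = E at *
  generalize Nat.card (Es S g⁻¹) = E' at *
  generalize Nat.card (Set.range (disp (xb S g))) = U at *
  generalize Nat.card (Set.range (disp (xb S g⁻¹))) = U' at *
  generalize Nat.card (fixA (t.xb_NS S)) = F at *
  generalize Nat.card (fixA (t.symm.xb_NS S)) = F' at *
  have hF : 0 < F * F' := Nat.mul_pos (Nat.pos_of_ne_zero fun h => by simp [h] at c1)
    (Nat.pos_of_ne_zero fun h => by simp [h] at c2)
  have hE : 2 * E = F' := by omega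
  have hE' : 2 * E' = F := by omega
  have p1 : U * U ≤ 8 * U' := by
    refine Nat.le_of_mul_le_mul_left (?_ : F * F' * _ ≤ F * F' * _) hF
    calc F * F' * (U * U) = 2 * (E * U) * (F * U) := by rw [← hE]; ring
      _ ≤ 2 * (4 * F) * (F * U) := by gcongr
      _ = F * (8 * (F * U)) := by ring
      _ = F * (8 * (F' * U')) := by rw [c1, c2]
      _ = _ := by ring
  have p2 : U' * U' ≤ 8 * U := by
    refine Nat.le_of_mul_le_mul_left (?_ : F * F' * _ ≤ F * F' * _) hF
    calc F * F' * (U' * U') = 2 * (E' * U') * (F' * U') := by rw [← hE']; ring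
      _ ≤ 2 * (4 * F') * (F' * U') := by gcongr
      _ = F' * (8 * (F' * U')) := by ring
      _ = F' * (8 * (F * U)) := by rw [c1, c2]
      _ = _ := by ring
  have u8 : U ≤ 8 := by nlinarith
  have u8' : U' ≤ 8 := by nlinarith
  have e1 := d1 u8
  have e2 := d2 u8'
  subst e1 e2
  have : E = 512 := by omega
  subst this
  norm_num at hdvd

end Twin

/-- If the central involution is weakly closed in the core, it commutes with no other conjugate. -/
theorem isolated (S : Std z Q) (hwc : WC Q z) (g : G)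
    (hc : g * z * g⁻¹ * z = z * (g * z * g⁻¹)) : g * z * g⁻¹ = z := by
  by_contra hne
  have t := twin_of_wc hwc hc hne
  obtain ⟨θ, hθ⟩ := (t.xb_NS S).1
  cases θ
  · exact t.no_lin S hwc hθ
  · exact t.no_semi S hwc hθ

end Cfsg.Agent.H92.Fi24Std
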