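import Cfsg.Agent.H92.Fi24Std.Twin
import Cfsg.Agent.H41.LFi.StabThree
import Cfsg.Agent.H41.LFi.StabTwo

/-!
A conjugate of the central involution in the core: it lies in the third class, and the centraliser
induces more than the model.
-/

set_option autoImplicit false
set_option linter.unusedSectionVars false
set_option linter.style.haveILetI false
set_option maxRecDepth 20000

namespace Cfsg.Agent.H92.Fi24Std

open Cfsg Cfsg.Agent.Compute Cfsg.Agent.Unitary Cfsg.Agent.H41.SUSix Cfsg.Agent.H41.LFi Matrix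

open Cfsg.Agent.H92.ExtraForm (zp zp_inj zp_add)

attribute [local irreducible] clsC mapsC sift invPerm H95.UFourThree.u43Chain

namespace Std

open Twin

variable {G : Type*} [Group G] [Finite G] {z : G} {Q : Subgroup G} (S : Std z Q) {g : G}
include S

theorem π_s_ne (h : H92.PairSetting Q z g) : S.π (g * z * g⁻¹) ≠ 0 := fun e => by
  rcases (S.π_zero _ h.hs).1 e with e' | e'
  · exact h.s_ne_one e'
  · exact h.hne e'

theorem card_Xs_inv (h : H92.PairSetting Q z g) : Nat.card (Xs Q z g⁻¹) = 2 ^ 12 := by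
  have ht : g⁻¹ * z * g⁻¹⁻¹ ∈ Q := by simpa using H92.PairSetting.mem_R.1 h.z_mem_R
  refine S.card_centralizer_elt ht fun e => ?_
  rcases (S.π_zero _ ht).1 e with e' | e'
  · apply h.hz1
    calc z = g * (g⁻¹ * z * g⁻¹⁻¹) * g⁻¹ := by group
      _ = 1 := by rw [e']; group
  · apply h.hne
    calc g * z * g⁻¹ = g * (g⁻¹ * z * g⁻¹⁻¹) * g⁻¹ := by rw [e']
      _ = z := by group

theorem z_mem_Is (h : H92.PairSetting Q z g) : z ∈ Is Q g :=
  mem_Is.2 ⟨S.hzQ, H92.PairSetting.mem_R.1 h.z_mem_R⟩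

theorem Is_wt (h : H92.PairSetting Q z g) {a : G} (ha : a ∈ Is Q g) : wt (S.π a) = 0 := by
  obtain ⟨h1, h2⟩ := mem_Is.1 ha
  rcases zmod_two_cases (wt (S.π a)) with e | e
  · exact e
  exfalso
  have e1 : a * a = z := by rw [S.sq a h1, e]; simp [zp]
  have e2 : g⁻¹ * z * g = zp z (wt (S.π (g⁻¹ * a * g))) :=
    calc g⁻¹ * z * g = g⁻¹ * a * g * (g⁻¹ * a * g) := by rw [← e1]; group
      _ = _ := S.sq _ h2
  rcases zmod_two_cases (wt (S.π (g⁻¹ * a * g))) with e' | e' <;> rw [e'] at e2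
  · apply h.hz1
    calc z = g * (g⁻¹ * z * g) * g⁻¹ := by group
      _ = 1 := by rw [e2]; simp [zp]
  · have e3 : g⁻¹ * z * g = z := by simpa [zp] using e2
    apply h.hne
    calc g * z * g⁻¹ = g * (g⁻¹ * z * g) * g⁻¹ := by rw [e3]
      _ = z := by group

theorem card_Is_le (h : H92.PairSetting Q z g) : Nat.card (Is Q g) ≤ 2 ^ 7 := by
  rw [S.card_piImage (Is Q g) (Is_le g) (S.z_mem_Is h)]
  have := isotropic_bound (W := S.piImage (Is Q g) (Is_le g)) (by
    rintro _ ⟨a, ha, rfl⟩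
    exact S.Is_wt h ha)
  norm_num
  omega

theorem card_Es_ge (h : H92.PairSetting Q z g) : 32 ≤ Nat.card (Es S g) := by
  have h1 := card_Es S g
  rw [S.card_Xs_inv h] at h1
  by_contra hcon
  push Not at hcon
  have := Nat.mul_le_mul (S.card_Is_le h) (Nat.le_sub_one_of_lt hcon)
  rw [h1] at this
  norm_num at this

theorem Es_sq (h : H92.PairSetting Q z g) {a : Equiv.Perm Vec} (ha : a ∈ Es S g) : a * a = 1 := by
  obtain ⟨w, hw, rfl⟩ := (mem_Es S).1 ha
  obtain ⟨hb, hwz⟩ := mem_Ys.1 hw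
  have e : w * w ∈ Q := by
    have e0 : w * w = g * zp z (wt (S.π (g⁻¹ * w * g))) * g⁻¹ := by rw [← S.sq _ hb]; group
    rw [e0]
    rcases zmod_two_cases (wt (S.π (g⁻¹ * w * g))) with e | e <;> rw [e]
    · simp [zp]
    · simpa [zp] using h.hs
  rw [← S.ρ_mul w w hwz hwz]
  exact (S.ρ_ker _ (S.z_comm_mul hwz hwz)).2 e

theorem Es_root (h : H92.PairSetting Q z g) {a : Equiv.Perm Vec} (ha : a ∈ Es S g) :
    a (S.π (g * z * g⁻¹)) = S.π (g * z * g⁻¹) := by
  obtain ⟨w, hw, rfl⟩ := (mem_Es S).1 ha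
  rw [← S.ρ_π w (mem_Ys.1 hw).2 _ h.hs, mul_inv_eq_iff_eq_mul.2 (h.R_comm hw.1)]

theorem Es_normal (h : H92.PairSetting Q z g) {k : Equiv.Perm Vec} (hk : k ∈ Kl)
    (hfix : k (S.π (g * z * g⁻¹)) = S.π (g * z * g⁻¹)) {a : Equiv.Perm Vec}
    (ha : a ∈ Es S g) : k * a * k⁻¹ ∈ Es S g := by
  obtain ⟨c, hc, rfl⟩ := S.ρ_surj k hk
  obtain ⟨d, hd, hds, hρ⟩ := S.lift_fix hc h.hs (S.π_s_ne h) hfix
  obtain ⟨w, hw, rfl⟩ := (mem_Es S).1 ha
  have hwz := (mem_Ys.1 hw).2
  have hw' : d * w * d⁻¹ ∈ Ys Q z g :=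
    ⟨h.R_norm hds hw.1, Subgroup.mem_centralizer_singleton_iff.2
      (S.z_comm_mul (S.z_comm_mul hd hwz) (S.z_comm_inv hd))⟩
  refine (mem_Es S).2 ⟨_, hw', ?_⟩
  rw [S.ρ_mul _ _ (S.z_comm_mul hd hwz) (S.z_comm_inv hd), S.ρ_mul _ _ hd hwz, S.ρ_inv hd, hρ]

omit S in
theorem four_cosets {A : Subgroup (Equiv.Perm Vec)} (hA : A ≤ NS) :
    Nat.card A ≤ 4 * Nat.card ↥(A ⊓ Kl) := by
  classical
  let key : ↥A → Bool × Bool := fun a =>
    if (a : Equiv.Perm Vec) ∈ Kl then (false, false)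
    else if (a : Equiv.Perm Vec) * tauP ∈ Kl then (false, true)
    else if (a : Equiv.Perm Vec) * frP ∈ Kl then (true, false) else (true, true)
  have hk : ∀ a b : ↥A, key a = key b → (a : Equiv.Perm Vec) * (b : Equiv.Perm Vec)⁻¹ ∈ Kl := by
    intro a b e
    have cancel : ∀ t : Equiv.Perm Vec, (a : Equiv.Perm Vec) * t ∈ Kl →
        (b : Equiv.Perm Vec) * t ∈ Kl → (a : Equiv.Perm Vec) * (b : Equiv.Perm Vec)⁻¹ ∈ Kl :=
      fun t ha hb => by
        have := mul_mem ha (inv_mem hb)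
        rwa [_root_.mul_inv_rev, mul_assoc, mul_inv_cancel_left] at this
    simp only [key] at e
    split_ifs at e with a1 b1 b2 b3 a2 b1 b2 b3 a3 b1 b2 b3 b1 b2 b3 <;>
      simp only [Prod.mk.injEq, Bool.false_eq_true, Bool.true_eq_false, and_false, false_and] at e
    · exact mul_mem a1 (inv_mem b1)
    · exact cancel _ a2 b2
    · exact cancel _ a3 b3
    · exact cancel _ (((coset (hA a.2)).resolve_left a1).resolve_left a2 |>.resolve_left a3)
        (((coset (hA b.2)).resolve_left b1).resolve_left b2 |>.resolve_left b3)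
  have hle := Nat.card_le_card_of_injective (fun a : ↥A => (key a,
      (⟨(a : Equiv.Perm Vec) * ((Function.invFun key (key a) : ↥A) : Equiv.Perm Vec)⁻¹,
        A.mul_mem a.2 (A.inv_mem (Function.invFun key (key a)).2),
        hk _ _ (Function.invFun_eq ⟨a, rfl⟩).symm⟩ : ↥(A ⊓ Kl))))
    fun a b e => by
      have h1 : key a = key b := congrArg Prod.fst e
      have h2 := congrArg (fun x : (Bool × Bool) × ↥(A ⊓ Kl) => (x.2 : Equiv.Perm Vec)) e
      dsimp only at h2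
      rw [h1] at h2
      exact Subtype.ext (mul_right_cancel h2)
  rwa [Nat.card_prod, Nat.card_prod, Nat.card_eq_fintype_card (α := Bool), Fintype.card_bool] at hle

/-- The image of a conjugate of the central involution lies in the third class. -/
theorem cls_conj (h : H92.PairSetting Q z g) : cls (S.π (g * z * g⁻¹)) = 3 := by
  set u := S.π (g * z * g⁻¹) with hu
  obtain ⟨f1, f0, f3⟩ := facts u
  have n1 : cls u ≠ 1 := fun e => by
    have := (cls_one_iff _).1 e
    rw [hu, S.wt_zero_of_sq h.hs h.s_sq] at this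
    exact zero_ne_one this
  have n0 : cls u ≠ 0 := fun e => S.π_s_ne h (f0.1 e)
  suffices n2 : cls u ≠ 2 by omega
  intro h2
  obtain ⟨k, hk, ek⟩ := transitive (Or.inl rfl) h2
  have hr5 : k r5 = u := ek
  let N : Subgroup (Equiv.Perm Vec) := (Es S g ⊓ Kl).map (MulAut.conj k⁻¹).toMonoidHom
  have hNmem : ∀ x ∈ N, k * x * k⁻¹ ∈ Es S g ⊓ Kl := by
    rintro _ ⟨y, hy, rfl⟩
    have : k * ((MulAut.conj k⁻¹).toMonoidHom y) * k⁻¹ = y := by
      show k * (k⁻¹ * y * k⁻¹⁻¹) * k⁻¹ = y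
      group
    rwa [this]
  have hNle : N ≤ stabK r5 := by
    rintro x ⟨y, ⟨hyE, hyK⟩, rfl⟩
    refine ⟨Kl.mul_mem (Kl.mul_mem (Kl.inv_mem hk) hyK) (Kl.inv_mem (Kl.inv_mem hk)), ?_⟩
    show (k⁻¹ * y * k⁻¹⁻¹) r5 = r5
    rw [inv_inv, Equiv.Perm.mul_apply, Equiv.Perm.mul_apply, hr5, S.Es_root h hyE]
    exact k.symm_apply_eq.2 hr5.symm
  have hnorm : (N.subgroupOf (stabK r5)).Normal := ⟨fun x hx n => by
    obtain ⟨hyE, hyK⟩ := hNmem _ hx
    have hn' : k * n * k⁻¹ ∈ Kl := Kl.mul_mem (Kl.mul_mem hk n.2.1) (Kl.inv_mem hk)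
    have hfix : (k * n * k⁻¹) u = u := by
      have e1 : k⁻¹ u = r5 := k.symm_apply_eq.2 hr5.symm
      rw [Equiv.Perm.mul_apply, Equiv.Perm.mul_apply, e1,
        show (n : Equiv.Perm Vec) r5 = r5 from n.2.2, hr5]
    refine ⟨k * n * k⁻¹ * (k * x * k⁻¹) * (k * n * k⁻¹)⁻¹,
      ⟨S.Es_normal h hn' hfix hyE, Kl.mul_mem (Kl.mul_mem hn' hyK) (Kl.inv_mem hn')⟩, ?_⟩
    show k⁻¹ * _ * k⁻¹⁻¹ = (n : Equiv.Perm Vec) * (x : Equiv.Perm Vec) * (n : Equiv.Perm Vec)⁻¹
    group⟩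
  have hcard : 8 ≤ Nat.card N := by
    rw [← Nat.card_congr ((Es S g ⊓ Kl).equivMapOfInjective _
      (MulAut.conj k⁻¹).injective).toEquiv]
    have := four_cosets (A := Es S g) fun _ he => Es_NS S he
    have := S.card_Es_ge h
    omega
  haveI := isSimple_stab_two
  rcases IsSimpleGroup.eq_bot_or_eq_top_of_normal _ hnorm with e | e
  · have := Nat.card_congr (Subgroup.subgroupOfEquivOfLe hNle).toEquiv
    rw [e, Subgroup.card_bot] at this
    omega
  · haveI : Fact (Nat.Prime 5) := ⟨Nat.prime_five⟩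
    obtain ⟨x, hx⟩ := exists_prime_orderOf_dvd_card' (G := ↥(stabK r5)) 5 (by
      rw [show stabK r5 = stabK (dV 5) from rfl, card_stab_two]; norm_num)
    have hxN : (x : Equiv.Perm Vec) ∈ N := by
      have : x ∈ N.subgroupOf (stabK r5) := e ▸ Subgroup.mem_top x
      exact this
    obtain ⟨hyE, -⟩ := hNmem _ hxN
    have h2' := S.Es_sq h hyE
    have hx2 : x ^ 2 = 1 := by
      refine Subtype.ext ?_
      rw [SubgroupClass.coe_pow, OneMemClass.coe_one, pow_two]
      calc (x : Equiv.Perm Vec) * x = k⁻¹ * (k * x * k⁻¹ * (k * x * k⁻¹)) * k := by group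
        _ = 1 := by rw [h2']; group
    have := orderOf_dvd_of_pow_eq_one hx2
    rw [hx] at this
    norm_num at this

/-- The centraliser induces more than the model. -/
theorem exists_outer (h : H92.PairSetting Q z g) : ∃ c : G, c * z = z * c ∧ S.ρ c ∉ Kl := by
  by_contra hcon
  push Not at hcon
  set u := S.π (g * z * g⁻¹) with hu
  obtain ⟨k, hk, ek⟩ := transitive (Or.inr rfl) (S.cls_conj h)
  have hku : k r85 = u := ek
  have e1 : k⁻¹ u = r85 := k.symm_apply_eq.2 hku.symm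
  let E' : Subgroup (Equiv.Perm Vec) := (Es S g).map (MulAut.conj k⁻¹).toMonoidHom
  have hE'mem : ∀ {x}, x ∈ E' ↔ k * x * k⁻¹ ∈ Es S g := by
    intro x
    rw [Subgroup.mem_map_equiv, MulAut.conj_symm_apply, inv_inv]
  have hEK : ∀ x ∈ E', x ∈ Kl := by
    intro x hx
    obtain ⟨y, hy, ey⟩ := (mem_Es S).1 (hE'mem.1 hx)
    have := hcon y (mem_Ys.1 hy).2
    rw [ey, Subgroup.mul_mem_cancel_right _ (inv_mem hk), Subgroup.mul_mem_cancel_left _ hk] at this
    exact this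
  have hle : E' ≤ stabK r85 := by
    intro x hx
    refine ⟨hEK x hx, ?_⟩
    have e2 := S.Es_root h (hE'mem.1 hx)
    rw [← hu, Equiv.Perm.mul_apply, Equiv.Perm.mul_apply, e1, ← hku] at e2
    exact k.injective e2
  have hA : E' ≤ Agrp := by
    refine two_normal hle (fun n hn x hx => ?_) ?_
    · have hfix : (k * n * k⁻¹) u = u := by
        rw [Equiv.Perm.mul_apply, Equiv.Perm.mul_apply, e1, show n r85 = r85 from hn.2, hku]
      have := S.Es_normal h (Kl.mul_mem (Kl.mul_mem hk hn.1) (Kl.inv_mem hk)) hfix (hE'mem.1 hx)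
      refine hE'mem.2 ?_
      convert this using 1
      group
    · intro x
      refine ⟨1, Subtype.ext ?_⟩
      have h2 := S.Es_sq h (hE'mem.1 x.2)
      rw [SubgroupClass.coe_pow, OneMemClass.coe_one, pow_one, pow_two]
      calc (x : Equiv.Perm Vec) * x = k⁻¹ * (k * x * k⁻¹ * (k * x * k⁻¹)) * k := by group
        _ = 1 := by rw [h2]; group
  have h16 := Nat.card_le_card_of_injective _ (Subgroup.inclusion_injective hA)
  rw [card_A, show Nat.card E' = Nat.card (Es S g) from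
    (Nat.card_congr (Subgroup.equivMapOfInjective _ _ (MulAut.conj k⁻¹).injective).toEquiv).symm] at h16
  have := S.card_Es_ge h
  omega

end Std

end Cfsg.Agent.H92.Fi24Std
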