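import Cfsg.Agent.H41.LFi.Code
import Cfsg.Agent.H92.Fi24Std.RadData

/-!
Kernel checks for the totally singular planes through the roots of the two classes: the maps in the radical
of a plane preserving the classes, and transvection centres moving the anisotropic points.
-/

set_option autoImplicit false
set_option Elab.async false
set_option maxRecDepth 100000
set_option maxHeartbeats 4000000

namespace Cfsg.Agent.H92.Fi24Std

open Cfsg.Agent.Compute Cfsg.Agent.H41.SUSix

/-- The coded hermitian form. -/
noncomputable def hermC (u v : ℕ) : ℕ :=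
  Nat.rec 0 (fun i acc => addC acc (mulC (getP 2 u i) (mulC (getP 2 v i) (getP 2 v i)))) 6

/-- A combination of three coded vectors. -/
noncomputable def combC (a b c s : ℕ) : ℕ :=
  Nat.xor (Nat.xor (scalC (getP 2 s 0) a) (scalC (getP 2 s 1) b)) (scalC (getP 2 s 2) c)

/-- Basis (`j < 3`) and dual vectors (`3 ≤ j < 6`) of a plane of a table. -/
noncomputable def plC (tab i j : ℕ) : ℕ := getP 12 tab (Nat.add (Nat.mul 6 i) j)

/-- Membership of a plane. -/
noncomputable def memC (tab i w : ℕ) : Bool :=
  Nat.beq (combC (plC tab i 0) (plC tab i 1) (plC tab i 2)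
    (Nat.add (hermC w (plC tab i 3))
      (Nat.add (Nat.mul 4 (hermC w (plC tab i 4))) (Nat.mul 16 (hermC w (plC tab i 5)))))) w

/-- The square of a coded field element. -/
noncomputable def sqC (a : ℕ) : ℕ := mulC a a

/-- The rows of the hermitian matrix with code `n`. -/
noncomputable def rowC (n j : ℕ) : ℕ :=
  cond (Nat.beq j 0)
    (Nat.add (getP 1 n 0)
      (Nat.add (Nat.mul 4 (getP 2 (Nat.div n 8) 0)) (Nat.mul 16 (getP 2 (Nat.div n 8) 1))))
    (cond (Nat.beq j 1)
      (Nat.add (sqC (getP 2 (Nat.div n 8) 0))
        (Nat.add (Nat.mul 4 (getP 1 n 1)) (Nat.mul 16 (getP 2 (Nat.div n 8) 2))))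
      (Nat.add (sqC (getP 2 (Nat.div n 8) 1))
        (Nat.add (Nat.mul 4 (sqC (getP 2 (Nat.div n 8) 2))) (Nat.mul 16 (getP 1 n 2)))))

/-- The displacement of a dual vector. -/
noncomputable def delC (tab i n j : ℕ) : ℕ :=
  combC (plC tab i 0) (plC tab i 1) (plC tab i 2) (rowC n j)

/-- The displacement of a combination of the dual vectors. -/
noncomputable def dispC (tab i n s : ℕ) : ℕ :=
  combC (delC tab i n 0) (delC tab i n 1) (delC tab i n 2) s

/-- The map of the radical with matrix `n`. -/
noncomputable def evalC (tab i n w : ℕ) : ℕ :=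
  Nat.xor w (dispC tab i n (Nat.add (hermC w (plC tab i 0))
    (Nat.add (Nat.mul 4 (hermC w (plC tab i 1))) (Nat.mul 16 (hermC w (plC tab i 2))))))

/-- The number of hits. -/
noncomputable def cntN (n : ℕ) (f : ℕ → Bool) : ℕ :=
  Nat.rec 0 (fun i acc => Nat.add acc (cond (f i) 1 0)) n

/-- A plane of a table: totally singular with its dual vectors. -/
noncomputable def planeOK (tab root i : ℕ) : Bool :=
  Nat.beq (plC tab i 0) root && allN 3 (fun j => allN 3 (fun l =>
    Nat.beq (hermC (plC tab i j) (plC tab i l)) 0 &&
    Nat.beq (hermC (plC tab i (Nat.add 3 j)) (plC tab i l)) (cond (Nat.beq j l) 1 0)))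

theorem five_planes : allN 27 (planeOK planeFive 5) = true := by decide +kernel

theorem eight_planes : allN 27 (planeOK planeEight 85) = true := by decide +kernel

/-- The list of the singular vectors orthogonal to the root with first coordinate zero. -/
noncomputable def ellOK (ell root : ℕ) : Bool :=
  allN 4096 (fun v =>
    cond (Nat.beq (getP 2 v 0) 0 && (Nat.beq (hermC v v) 0 && Nat.beq (hermC v root) 0))
      (anyN 136 (fun k => Nat.beq (getP 12 ell k) v)) true)

theorem five_ell : ellOK ellFive 5 = true := by decide +kernel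

theorem eight_ell : ellOK ellEight 85 = true := by decide +kernel

/-- The incidences of the list with the planes. -/
noncomputable def maskOK (tab ell mask : ℕ) : Bool :=
  allN 136 (fun k => allN 27 (fun i =>
    cond (Nat.beq (getP 1 (getP 27 mask k) i) 1) (memC tab i (getP 12 ell k)) true))

theorem five_mask : maskOK planeFive ellFive maskFive = true := by decide +kernel

theorem eight_mask : maskOK planeEight ellEight maskEight = true := by decide +kernel

/-- Two orthogonal members of the list lie in a plane. -/
noncomputable def pairOK (ell mask : ℕ) : Bool :=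
  allN 136 (fun a => allN 136 (fun b =>
    cond (Nat.beq (hermC (getP 12 ell a) (getP 12 ell b)) 0)
      (anyN 27 (fun i => Nat.beq (getP 1 (getP 27 mask a) i) 1 && Nat.beq (getP 1 (getP 27 mask b) i) 1))
      true))

theorem five_pair : pairOK ellFive maskFive = true := by decide +kernel

theorem eight_pair : pairOK ellEight maskEight = true := by decide +kernel

/-- The test vectors are of the first class. -/
theorem test_cls : allN 54 (fun k => Nat.beq (clsC (getP 12 testFive k)) 2) = true ∧
    allN 108 (fun k => Nat.beq (clsC (getP 12 testEight k)) 2) = true := by decide +kernel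

/-- The listed matrices. -/
noncomputable def goodC (i g : ℕ) : ℕ := getP 9 goodFive (Nat.add (Nat.mul 32 i) g)

theorem five_good : allN 27 (fun i => allN 512 (fun n =>
    anyN 2 (fun t => !Nat.beq (clsC (evalC planeFive i n (getP 12 testFive (Nat.add (Nat.mul 2 i) t)))) 2) ||
    anyN 32 (fun g => Nat.beq (goodC i g) n))) = true := by decide +kernel

theorem five_count : allN 27 (fun i => allN 64 (fun s => Nat.beq s 0 ||
    Nat.ble (cntN 32 (fun g => Nat.beq (dispC planeFive i (goodC i g) s) 0)) 4)) = true := by
  decide +kernel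

/-- A tabulated centre moves an anisotropic point. -/
noncomputable def moverOK (i g s k : ℕ) : Bool :=
  let n := goodC i g
  let d := getP 12 moveFive (Nat.add (Nat.mul 3 (Nat.add (Nat.mul 32 i) g)) k)
  let xd := evalC planeFive i n d
  let a := dispC planeFive i n s
  Nat.beq (clsC d) 2 && (Nat.beq (hermC d xd) 0 && (!Nat.beq (hermC a d) 0 &&
    allN 4 (fun c => !Nat.beq (Nat.xor d xd) (scalC c a))))

theorem five_move : allN 27 (fun i => allN 32 (fun g =>
    anyN 64 (fun s => !Nat.beq s 0 && Nat.beq (dispC planeFive i (goodC i g) s) 0) ||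
    allN 64 (fun s => Nat.beq s 0 ||
      Nat.beq (hermC (combC (plC planeFive i 3) (plC planeFive i 4) (plC planeFive i 5) s)
        (dispC planeFive i (goodC i g) s)) 0 ||
      anyN 3 (moverOK i g s)))) = true := by
  decide +kernel

theorem eight_flag : allN 27 (fun i =>
    (Nat.beq (clsC (getP 12 flagEight i)) 2 && memC planeEight i (getP 12 flagEight i)) ||
    allN 512 (fun n => Nat.beq n 0 ||
      anyN 4 (fun t => !Nat.beq (clsC (evalC planeEight i n
        (getP 12 testEight (Nat.add (Nat.mul 4 i) t)))) 2))) = true := by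
  decide +kernel

end Cfsg.Agent.H92.Fi24Std
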