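import Cfsg.Agent.H92.Fi24Std.Tables

/-!
The maps preserving the classes and fixing the fixed space of a linear involution: at most 32, at most 4
when the displacement space is not a plane; in the latter case anisotropic points of the displacement
space are moved by elements of the model commuting with the involution.
-/

set_option autoImplicit false
set_option maxRecDepth 20000
set_option linter.unusedSectionVars false

namespace Cfsg.Agent.H92.Fi24Std

open Cfsg Cfsg.Agent.Compute Cfsg.Agent.Unitary Cfsg.Agent.H41.SUSix Cfsg.Agent.H41.LFi Matrix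

local notation "hf" => hermForm 6 K4 2

attribute [local irreducible] clsC scalC hermC combC dispC evalC delC rowC mapsC sift invPerm
  H95.UFourThree.u43Chain

/-- The displacement. -/
def disp (a : Equiv.Perm Vec) (u : Vec) : Vec := a u + u

theorem disp_eq {a : Equiv.Perm Vec} {u : Vec} : disp a u = 0 ↔ a u = u := by
  constructor
  · intro h
    calc a u = (a u + u) + u := by rw [add_assoc, vv, add_zero]
      _ = u := by rw [show a u + u = 0 from h, zero_add]
  · intro h
    rw [disp, h, vv]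

/-- A linear involution preserving the classes. -/
structure Inv (x : Equiv.Perm Vec) : Prop where
  mem : x ∈ LN
  sq : x * x = 1

/-- The maps fixing the fixed space of `x`. -/
def InRad (x e : Equiv.Perm Vec) : Prop := e ∈ LN ∧ ∀ v, x v = v → e v = v

theorem conj_apply (k x : Equiv.Perm Vec) (v : Vec) : (k * x * k⁻¹) v = k (x (k⁻¹ v)) := rfl

theorem InRad.conj {x e k : Equiv.Perm Vec} (h : InRad x e) (hk : k ∈ Kl) :
    InRad (k * x * k⁻¹) (k * e * k⁻¹) := by
  refine ⟨mul_mem (mul_mem (Kl_le_LN hk) h.1) (inv_mem (Kl_le_LN hk)), fun v hv => ?_⟩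
  rw [conj_apply] at hv ⊢
  have e1 : x (k⁻¹ v) = k⁻¹ v := k.injective (hv.trans (k.apply_symm_apply v).symm)
  rw [h.2 _ e1]
  exact k.apply_symm_apply v

/-! ### Transvections -/

theorem tau_transvection (u : Vec) : tauP u = u + hf u (dV 5) • (dV 5) := by
  have h5 : ∀ i : Fin 6, dV 5 i = if i.1 < 2 then 1 else 0 := by decide +kernel
  have key : ∀ a b : K4, b = a + (a + b) * 1 ∧ a = b + (a + b) * 1 := by decide +kernel
  have hh : hf u (dV 5) = u 0 + u 1 := by
    rw [hermForm, Fin.sum_univ_six]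
    simp [h5, zero_pow two_ne_zero]
  rw [tau_apply, hh]
  funext i
  show u (Equiv.swap 0 1 i) = u i + (u 0 + u 1) * (dV 5) i
  simp only [h5]
  fin_cases i
  · simpa using (key (u 0) (u 1)).1
  · simpa using (key (u 0) (u 1)).2
  all_goals simp [Equiv.swap_apply_of_ne_of_ne]

theorem Kl_herm {k : Equiv.Perm Vec} (hk : k ∈ Kl) (u v : Vec) : hf (k u) (k v) = hf u v :=
  herm_LN (Kl_le_LN hk) u v

/-- The transvection at a vector of the first class is outside the model. -/
theorem exists_tv {d : Vec} (hd : cls d = 2) :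
    ∃ t ∈ LN, t ∉ Kl ∧ ∀ v, t v = v + hf v d • d := by
  obtain ⟨k, hk, e⟩ := transitive (Or.inl rfl) hd
  rw [show rootOf 2 = dV 5 from if_pos rfl] at e
  refine ⟨k * tauP * k⁻¹, mul_mem (mul_mem (Kl_le_LN hk) tauP_mem) (inv_mem (Kl_le_LN hk)),
    fun h => tauP_notMem ?_, fun v => ?_⟩
  · have := mul_mem (mul_mem (inv_mem hk) h) hk
    simpa [mul_assoc] using this
  · rw [conj_apply, tau_transvection, (semi_of_mem_Kl hk).add, (semi_of_mem_Kl hk).smul, e,
      show k (k⁻¹ v) = v from k.apply_symm_apply v]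
    show v + tw false (hf (k⁻¹ v) (dV 5)) • d = _
    rw [show tw false (hf (k⁻¹ v) (dV 5)) = hf (k⁻¹ v) (dV 5) from rfl, ← Kl_herm hk (k⁻¹ v) (dV 5), e,
      show k (k⁻¹ v) = v from k.apply_symm_apply v]

theorem cls_code {c : ℕ} (hc : c < 4096) : cls (dV c) = clsC c := by
  show clsC (eV (dV c)) = _
  rw [eV_dV hc]

theorem getP12_lt (a i : ℕ) : getP 12 a i < 4096 := getP_lt 12 _ _

theorem hf_disp {x : Equiv.Perm Vec} (hx : Inv x) (u v : Vec) :
    hf (disp x u) v = hf u (disp x v) := by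
  simp only [disp, herm_add_left, herm_add_right hK]
  have e : hf (x u) v = hf u (x v) := by
    conv_rhs => rw [← herm_LN hx.mem, ← Equiv.Perm.mul_apply, hx.sq, Equiv.Perm.one_apply]
  rw [e]

theorem fix_of_perp {x : Equiv.Perm Vec} (hx : Inv x) {f : Vec} (h : ∀ y, hf f (disp x y) = 0) :
    x f = f :=
  disp_eq.1 (ext_herm hK fun y => by
    rw [hf_disp hx, h]
    exact (by rw [hermForm]; simp : (0 : K4) = hf 0 y))

theorem perp_of_fix {x : Equiv.Perm Vec} (hx : Inv x) {f : Vec} (h : x f = f) (y : Vec) :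
    hf f (disp x y) = 0 := by
  rw [← hf_disp hx, disp_eq.2 h, hermForm]
  simp

theorem disp_singular {x : Equiv.Perm Vec} (hx : Inv x) (y y' : Vec) :
    hf (disp x y) (disp x y') = 0 := by
  refine perp_of_fix hx ?_ y'
  show x (x y + y) = x y + y
  rw [hx.mem.2.add, ← Equiv.Perm.mul_apply, hx.sq, Equiv.Perm.one_apply, add_comm]

theorem disp_conj {x k : Equiv.Perm Vec} (hk : k ∈ Kl) (y : Vec) :
    disp (k * x * k⁻¹) y = k (disp x (k⁻¹ y)) := by
  rw [disp, disp, conj_apply, (semi_of_mem_Kl hk).add,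
    show k (k⁻¹ y) = y from k.apply_symm_apply y]

theorem Inv.conj {x k : Equiv.Perm Vec} (hx : Inv x) (hk : k ∈ Kl) : Inv (k * x * k⁻¹) :=
  ⟨mul_mem (mul_mem (Kl_le_LN hk) hx.mem) (inv_mem (Kl_le_LN hk)), by
    calc k * x * k⁻¹ * (k * x * k⁻¹) = k * (x * x) * k⁻¹ := by group
      _ = 1 := by rw [hx.sq, mul_one, mul_inv_cancel]⟩

/-! ### Maps fixing the orthogonal of a plane -/

namespace Frame

variable (P : Frame) {e : Equiv.Perm Vec}

/-- Linear, preserving the classes and fixing the orthogonal of the plane. -/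
def Fix (e : Equiv.Perm Vec) : Prop := e ∈ LN ∧ ∀ f, (∀ j, hf f (P.u j) = 0) → e f = f

theorem fix_inv {x : Equiv.Perm Vec} (hx : Inv x) (hU : ∀ y, disp x y ∈ P.span) {f : Vec}
    (h : ∀ j, hf f (P.u j) = 0) : x f = f := by
  refine fix_of_perp hx fun y => ?_
  obtain ⟨c, hc⟩ := hU y
  rw [← hc, hf_comm, herm_comb]
  have e : ∀ j, hf (P.u j) f = 0 := fun j => by rw [hf_comm, h, zero_pow two_ne_zero]
  rw [e, e, e]
  simp

theorem fix_of_rad {x : Equiv.Perm Vec} (hx : Inv x) (hU : ∀ y, disp x y ∈ P.span)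
    (h : InRad x e) : P.Fix e :=
  ⟨h.1, fun _ hf' => h.2 _ (P.fix_inv hx hU hf')⟩

theorem fix_self {x : Equiv.Perm Vec} (hx : Inv x) (hU : ∀ y, disp x y ∈ P.span) : P.Fix x :=
  ⟨hx.mem, fun _ h => P.fix_inv hx hU h⟩

theorem disp_mem (h : P.Fix e) (y : Vec) : disp e y ∈ P.span := by
  refine P.mem_of_perp fun f hf' => ?_
  rw [disp, herm_add_left]
  conv_lhs => arg 1; rw [← h.2 f hf', herm_LN h.1]
  exact k4_two _

theorem formula (h : P.Fix e) (w : Vec) :
    e w = w + comb (fun j => disp e (P.v j)) fun j => hf w (P.u j) := by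
  conv_lhs => rw [P.split w, h.1.2.add, h.2 _ (P.perpPart_perp w)]
  rw [perpPart]
  simp only [comb, h.1.2.add, h.1.2.smul, show ∀ c : K4, tw false c = c from fun _ => rfl, disp,
    smul_add]
  abel

theorem disp_comb (h : P.Fix e) (c : Fin 3 → K4) :
    disp e (comb P.v c) = comb (fun j => disp e (P.v j)) c := by
  simp only [disp, comb, h.1.2.add, h.1.2.smul, show ∀ c : K4, tw false c = c from fun _ => rfl,
    smul_add]
  abel

/-- The entries of the matrix are hermitian. -/
theorem entry_symm (h : P.Fix e) (i j : Fin 3) :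
    hf (disp e (P.v i)) (P.v j) = hf (disp e (P.v j)) (P.v i) ^ 2 := by
  have key : ∀ a b : K4, a + b = 0 → a = b := by decide +kernel
  rw [← hf_comm]
  refine key _ _ ?_
  have h1 := herm_LN h.1 (P.v i) (P.v j)
  have h2 : hf (disp e (P.v i)) (disp e (P.v j)) = 0 :=
    P.span_singular (P.disp_mem h _) (P.disp_mem h _)
  have e1 : ∀ y, e y = disp e y + y := fun y => by rw [disp, add_assoc, vv, add_zero]
  rw [e1, e1, herm_add_left, herm_add_right hK, herm_add_right hK, h2, zero_add,
    ← add_assoc, add_eq_right] at h1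
  exact h1

end Frame

/-- The code of a hermitian matrix. -/
def encH (d0 d1 d2 o0 o1 o2 : K4) : ℕ :=
  fc d0 + 2 * fc d1 + 4 * fc d2 + 8 * code3 o0 o1 o2

theorem encH_rows : ∀ d0 d1 d2 o0 o1 o2 : K4, d0 ^ 2 = d0 → d1 ^ 2 = d1 → d2 ^ 2 = d2 →
    encH d0 d1 d2 o0 o1 o2 < 512 ∧
    (encH d0 d1 d2 o0 o1 o2 = 0 → d0 = 0 ∧ d1 = 0 ∧ d2 = 0 ∧ o0 = 0 ∧ o1 = 0 ∧ o2 = 0) ∧
    rowC (encH d0 d1 d2 o0 o1 o2) 0 = code3 d0 o0 o1 ∧
    rowC (encH d0 d1 d2 o0 o1 o2) 1 = code3 (o0 ^ 2) d1 o2 ∧
    rowC (encH d0 d1 d2 o0 o1 o2) 2 = code3 (o1 ^ 2) (o2 ^ 2) d2 := by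
  with_unfolding_all decide +kernel

namespace Table

variable (T : Table)

/-- The code of a map of a radical. -/
structure Coded (i : Fin 27) (e : Equiv.Perm Vec) (n : ℕ) : Prop where
  lt : n < 512
  zero : n = 0 → e = 1
  ev : ∀ w, dV (evalC T.tab i n w) = e (dV w)
  dis : ∀ a b c, dV (dispC T.tab i n (code3 a b c)) = disp e (comb (T.frame i).v ![a, b, c])

theorem exists_code {i : Fin 27} {e : Equiv.Perm Vec} (h : (T.frame i).Fix e) :
    ∃ n, T.Coded i e n := by
  set P := T.frame i with hP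
  set c : Fin 3 → Fin 3 → K4 := fun j l => hf (disp e (P.v j)) (P.v l) with hc
  have hd : ∀ j, c j j ^ 2 = c j j := fun j => (P.entry_symm h j j).symm
  obtain ⟨hlt, hzero, r0, r1, r2⟩ :=
    encH_rows (c 0 0) (c 1 1) (c 2 2) (c 0 1) (c 0 2) (c 1 2) (hd 0) (hd 1) (hd 2)
  have s10 : c 0 1 ^ 2 = c 1 0 := (P.entry_symm h 1 0).symm
  have s20 : c 0 2 ^ 2 = c 2 0 := (P.entry_symm h 2 0).symm
  have s21 : c 1 2 ^ 2 = c 2 1 := (P.entry_symm h 2 1).symm
  rw [s10] at r1
  rw [s20, s21] at r2
  have hdel : ∀ j, disp e (P.v j) = comb P.u (c j) := fun j => by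
    obtain ⟨d, hd'⟩ := P.disp_mem h (P.v j)
    rw [← hd']
    congr 1
    funext l
    rw [hc]
    simp only
    rw [← hd', P.coef]
  have hrow : ∀ j : Fin 3, dV (delC T.tab i (encH (c 0 0) (c 1 1) (c 2 2) (c 0 1) (c 0 2) (c 1 2)) j) =
      disp e (P.v j) := by
    intro j
    rw [hdel, delC]
    fin_cases j
    · simp only [r0, dV_combC]; rfl
    · simp only [r1, dV_combC]; rfl
    · simp only [r2, dV_combC]; rfl
  have hdis : ∀ a b d, dV (dispC T.tab i (encH (c 0 0) (c 1 1) (c 2 2) (c 0 1) (c 0 2) (c 1 2))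
      (code3 a b d)) = comb (fun j => disp e (P.v j)) ![a, b, d] := by
    intro a b d
    rw [dispC, dV_combC]
    simp only [comb, Matrix.cons_val_zero, Matrix.cons_val_one, Matrix.cons_val, ← hrow]
    rfl
  refine ⟨_, hlt, fun h0 => ?_, fun w => ?_, fun a b d => by rw [hdis, P.disp_comb h]⟩
  · obtain ⟨a0, a1, a2, a3, a4, a5⟩ := hzero h0
    refine Equiv.ext fun w => ?_
    rw [P.formula h, Equiv.Perm.one_apply]
    have hc0 : ∀ j l, c j l = 0 := by
      intro j l
      fin_cases j <;> fin_cases l <;>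
        simp [← s10, ← s20, ← s21, a0, a1, a2, a3, a4, a5]
    simp [comb, hdel, hc0]
  · rw [evalC, dV_xor, P.formula h,
      show Nat.add (hermC w (plC T.tab i 0)) (Nat.add (Nat.mul 4 (hermC w (plC T.tab i 1)))
        (Nat.mul 16 (hermC w (plC T.tab i 2)))) = code3 (hf (dV w) (P.u 0)) (hf (dV w) (P.u 1))
          (hf (dV w) (P.u 2)) by simp only [code3, hermC_eq]; rfl, hdis]
    simp only [comb, Matrix.cons_val_zero, Matrix.cons_val_one, Matrix.cons_val]

theorem Coded.cls_eq {T : Table} {i : Fin 27} {e : Equiv.Perm Vec} {n : ℕ} (hn : T.Coded i e n)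
    (he : e ∈ LN) {w : ℕ} (hw : w < 4096) : clsC (evalC T.tab i n w) = clsC w := by
  have hlt : evalC T.tab i n w < 4096 := by
    with_unfolding_all exact xor_lt hw (combC_lt _ _ _ _)
  rw [← cls_code hlt, hn.ev, he.1.2, cls_code hw]

theorem locate_class {x : Equiv.Perm Vec} (W : Set Vec) (hW : ∀ a ∈ W, ∀ b ∈ W, hf a b = 0)
    (hU : ∀ y, disp x y ∈ W) {k : Equiv.Perm Vec} (hk : k ∈ Kl) {d : Vec} (hd : d ∈ W)
    (hkd : k d = dV T.root) :
    ∃ i : Fin 27, ∀ y, disp (k * x * k⁻¹) y ∈ (T.frame i).span := by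
  obtain ⟨i, hi⟩ := T.locate (k '' W)
    (by rintro _ ⟨a, ha, rfl⟩ _ ⟨b, hb, rfl⟩; rw [Kl_herm hk]; exact hW a ha b hb) ⟨d, hd, hkd⟩
  exact ⟨i, fun y => hi _ ⟨_, hU _, (disp_conj hk y).symm⟩⟩

end Table

theorem to_root {a : ℕ} (ha : a = 2 ∨ a = 3) {d : Vec} (hd : cls d = a) :
    ∃ k ∈ Kl, k d = rootOf a := by
  obtain ⟨k, hk, e⟩ := transitive ha hd
  exact ⟨k⁻¹, inv_mem hk, by rw [← e]; exact k.symm_apply_apply _⟩

/-- The displacement space of an involution lies, up to conjugation, in a tabulated plane of the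
first class. -/
theorem locate_five {x : Equiv.Perm Vec} (hx : Inv x) (h1 : x ≠ 1) :
    ∃ k ∈ Kl, ∃ i : Fin 27, ∀ y, disp (k * x * k⁻¹) y ∈ (tabFive.frame i).span := by
  obtain ⟨y, hy⟩ : ∃ y, disp x y ≠ 0 := by
    by_contra hcon
    push Not at hcon
    exact h1 (Equiv.ext fun v => disp_eq.1 (hcon v))
  have hsing : ∀ a ∈ Set.range (disp x), ∀ b ∈ Set.range (disp x), hf a b = 0 := by
    rintro _ ⟨a, rfl⟩ _ ⟨b, rfl⟩
    exact disp_singular hx a b
  have hc : cls (disp x y) = 2 ∨ cls (disp x y) = 3 := by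
    obtain ⟨f1, f0, f3⟩ := facts (disp x y)
    have n0 : cls (disp x y) ≠ 0 := fun e => hy (f0.1 e)
    have n1 : cls (disp x y) ≠ 1 := fun e => by
      have := f1.1 e
      rw [disp_singular hx] at this
      exact zero_ne_one this
    omega
  rcases hc with h2 | h3
  · obtain ⟨k, hk, e⟩ := to_root (Or.inl rfl) h2
    exact ⟨k, hk, tabFive.locate_class _ hsing (fun v => ⟨v, rfl⟩) hk ⟨y, rfl⟩
      (e.trans (if_pos rfl))⟩
  obtain ⟨k, hk, e⟩ := to_root (Or.inr rfl) h3
  obtain ⟨i, hi⟩ := tabEight.locate_class _ hsing (fun v => ⟨v, rfl⟩) hk ⟨y, rfl⟩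
    (e.trans (if_neg (by norm_num)))
  have hx' := hx.conj hk
  obtain ⟨n, hn⟩ := tabEight.exists_code ((tabEight.frame i).fix_self hx' hi)
  have h := (allN_iff _ _).1 eight_flag i i.2
  rw [Bool.or_eq_true, Bool.and_eq_true] at h
  rcases h with ⟨hf2, hmem⟩ | h
  · obtain ⟨k', hk', e'⟩ := to_root (Or.inl rfl)
      ((cls_code (getP12_lt _ _)).trans (Nat.eq_of_beq_eq_true hf2))
    obtain ⟨j, hj⟩ := tabFive.locate_class (x := k * x * k⁻¹) ((tabEight.frame i).span : Set Vec)
      (fun a ha b hb => (tabEight.frame i).span_singular ha hb) hi hk'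
      (tabEight.mem_of_memC i hmem) (e'.trans (if_pos rfl))
    refine ⟨k' * k, mul_mem hk' hk, j, fun v => ?_⟩
    rw [show k' * k * x * (k' * k)⁻¹ = k' * (k * x * k⁻¹) * k'⁻¹ by group]
    exact hj v
  · exfalso
    have h' := (allN_iff _ _).1 h n hn.lt
    rw [Bool.or_eq_true] at h'
    rcases h' with h0 | h'
    · have e1 := hn.zero (Nat.eq_of_beq_eq_true h0)
      exact h1 (conj_eq_one_iff.1 e1)
    · obtain ⟨t, ht, hne⟩ := (anyN_iff _ _).1 h'
      have hcl : clsC (getP 12 testEight (Nat.add (Nat.mul 4 i) t)) = 2 :=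
        Nat.eq_of_beq_eq_true ((allN_iff _ _).1 test_cls.2 _ (by
          have := i.2
          show 4 * i.1 + t < 108
          omega))
      have e2 : clsC (evalC planeEight i n (getP 12 testEight (Nat.add (Nat.mul 4 i) t))) = 2 :=
        (hn.cls_eq hx'.mem (getP12_lt _ _)).trans hcl
      rw [e2, Nat.beq_refl] at hne
      exact Bool.noConfusion hne

/-- The code of a map fixing the orthogonal of a tabulated plane is listed. -/
theorem exists_good {i : Fin 27} {e : Equiv.Perm Vec} (h : (tabFive.frame i).Fix e) :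
    ∃ g : Fin 32, tabFive.Coded i e (goodC i g) := by
  obtain ⟨n, hn⟩ := tabFive.exists_code h
  have h' := (allN_iff _ _).1 ((allN_iff _ _).1 five_good i i.2) n hn.lt
  rw [Bool.or_eq_true] at h'
  rcases h' with h' | h'
  · exfalso
    obtain ⟨t, ht, hne⟩ := (anyN_iff _ _).1 h'
    have hcl : clsC (getP 12 testFive (Nat.add (Nat.mul 2 i) t)) = 2 :=
      Nat.eq_of_beq_eq_true ((allN_iff _ _).1 test_cls.1 _ (by
        have := i.2
        show 2 * i.1 + t < 54
        omega))
    have e2 : clsC (evalC planeFive i n (getP 12 testFive (Nat.add (Nat.mul 2 i) t))) = 2 :=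
      (hn.cls_eq h.1 (getP12_lt _ _)).trans hcl
    rw [e2, Nat.beq_refl] at hne
    exact Bool.noConfusion hne
  · obtain ⟨g, hg, e⟩ := (anyN_iff _ _).1 h'
    exact ⟨⟨g, hg⟩, (Nat.eq_of_beq_eq_true e).symm ▸ hn⟩

theorem coded_ext {i : Fin 27} {e e' : Equiv.Perm Vec} {n : ℕ} (h : tabFive.Coded i e n)
    (h' : tabFive.Coded i e' n) : e = e' :=
  Equiv.ext fun v => by rw [← dV_eV v, ← h.ev, ← h'.ev]

/-- The radical has at most 32 elements. -/
theorem rad_le {x : Equiv.Perm Vec} (hx : Inv x) (h1 : x ≠ 1) :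
    Nat.card {e // InRad x e} ≤ 32 := by
  classical
  obtain ⟨k, hk, i, hi⟩ := locate_five hx h1
  choose g hg using fun e : {e // InRad x e} =>
    exists_good ((tabFive.frame i).fix_of_rad (hx.conj hk) hi (e.2.conj hk))
  refine (Nat.card_le_card_of_injective g fun a b e => Subtype.ext ?_).trans (by simp)
  have := coded_ext (hg a) (e ▸ hg b)
  exact mul_left_cancel (mul_right_cancel this)

theorem cntN_eq (n : ℕ) (f : ℕ → Bool) :
    cntN n f = ((Finset.range n).filter fun i => f i = true).card := by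
  induction n with
  | zero => simp [cntN]
  | succ n ih =>
    rw [Finset.range_add_one, Finset.filter_insert]
    show Nat.add (cntN n f) _ = _
    rw [ih]
    cases hb : f n
    · rw [if_neg Bool.false_ne_true]; rfl
    · rw [if_pos rfl, Finset.card_insert_of_notMem (by simp)]; rfl

theorem code3_surj : ∀ s < 64, ∃ a b c : K4, code3 a b c = s := by decide +kernel

theorem disp_zero_code {T : Table} {i : Fin 27} {e : Equiv.Perm Vec} {n : ℕ} (h : T.Coded i e n)
    (a b c : K4) : dispC T.tab i n (code3 a b c) = 0 ↔ e (comb (T.frame i).v ![a, b, c]) =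
      comb (T.frame i).v ![a, b, c] := by
  have hlt : dispC T.tab i n (code3 a b c) < 4096 := by
    with_unfolding_all exact combC_lt _ _ _ _
  rw [← disp_eq, ← h.dis]
  constructor
  · intro e0
    rw [e0, dV_zero]
  · intro e0
    exact dV_inj hlt (by norm_num) (e0.trans dV_zero.symm)

/-- The image of the dual vectors is the whole displacement space. -/
theorem range_eq {P : Frame} {e : Equiv.Perm Vec} (h : P.Fix e) :
    Set.range (disp e) = Set.range fun c : Fin 3 → K4 => disp e (comb P.v c) := by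
  refine Set.Subset.antisymm ?_ (Set.range_subset_iff.2 fun c => ⟨_, rfl⟩)
  rintro _ ⟨w, rfl⟩
  refine ⟨fun j => hf w (P.u j), ?_⟩
  show disp e (comb P.v _) = disp e w
  conv_rhs => rw [disp, P.formula h]
  rw [P.disp_comb h, add_right_comm, vv, zero_add]

theorem range_conj {x k : Equiv.Perm Vec} (hk : k ∈ Kl) :
    Nat.card (Set.range (disp (k * x * k⁻¹))) = Nat.card (Set.range (disp x)) := by
  have e : Set.range (disp (k * x * k⁻¹)) = k '' Set.range (disp x) := by
    ext v
    constructor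
    · rintro ⟨y, rfl⟩
      exact ⟨_, ⟨_, rfl⟩, (disp_conj hk y).symm⟩
    · rintro ⟨_, ⟨y, rfl⟩, rfl⟩
      refine ⟨k y, ?_⟩
      rw [disp_conj hk]
      exact congrArg (fun w => k (disp x w)) (k.symm_apply_apply y)
  rw [e, Nat.card_image_of_injective k.injective]

theorem card_coef : Nat.card (Fin 3 → K4) = 64 := by
  rw [Nat.card_fun, Nat.card_fin, Nat.card_eq_fintype_card]
  decide +kernel

/-- A small radical when the displacement space is not a plane. -/
theorem rad_small {x : Equiv.Perm Vec} (hx : Inv x) (h1 : x ≠ 1)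
    (hU : Nat.card (Set.range (disp x)) < 64) : Nat.card {e // InRad x e} ≤ 4 := by
  classical
  obtain ⟨k, hk, i, hi⟩ := locate_five hx h1
  have hx' := hx.conj hk
  have hfix := (tabFive.frame i).fix_self hx' hi
  -- a fixed combination of the dual vectors
  obtain ⟨c, hc0, hc⟩ : ∃ c : Fin 3 → K4, c ≠ 0 ∧
      disp (k * x * k⁻¹) (comb (tabFive.frame i).v c) = 0 := by
    by_contra hcon
    push Not at hcon
    have hinj : Function.Injective fun c : Fin 3 → K4 =>
        disp (k * x * k⁻¹) (comb (tabFive.frame i).v c) := by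
      intro a b e
      by_contra hne
      refine hcon (a + b) (fun h0 => hne (funext fun j => ?_)) ?_
      · have key : ∀ p q : K4, p + q = 0 → p = q := by decide +kernel
        exact key _ _ (congrFun h0 j)
      · have e' : disp (k * x * k⁻¹) (comb (tabFive.frame i).v a) =
            disp (k * x * k⁻¹) (comb (tabFive.frame i).v b) := e
        rw [(tabFive.frame i).disp_comb hfix, (tabFive.frame i).disp_comb hfix] at e'
        rw [(tabFive.frame i).disp_comb hfix]
        have h2 : ∀ f : Fin 3 → Vec, comb f (a + b) = comb f a + comb f b := fun f => by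
          simp only [comb, Pi.add_apply, add_smul]; abel
        rw [h2, e', vv]
    have h64 := Nat.card_congr (Equiv.ofInjective _ hinj)
    rw [card_coef, ← range_eq hfix, range_conj hk] at h64
    omega
  have hs : code3 (c 0) (c 1) (c 2) ≠ 0 := fun e => hc0 (funext fun j => by
    obtain ⟨a, b, d⟩ := (code3_lt _ _ _).2.1 e
    fin_cases j <;> assumption)
  have hcnt := (allN_iff _ _).1 ((allN_iff _ _).1 five_count i i.2) _ (code3_lt (c 0) (c 1) (c 2)).1
  rw [Bool.or_eq_true, Nat.ble_eq, cntN_eq] at hcnt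
  replace hcnt := hcnt.resolve_left fun e => hs (Nat.eq_of_beq_eq_true e)
  choose g hg using fun e : {e // InRad x e} =>
    exists_good ((tabFive.frame i).fix_of_rad hx' hi (e.2.conj hk))
  refine le_trans ?_ hcnt
  rw [← Nat.card_eq_finsetCard]
  refine Nat.card_le_card_of_injective (fun e => ⟨(g e : ℕ), Finset.mem_filter.2
    ⟨Finset.mem_range.2 (g e).2, ?_⟩⟩) fun a b e => Subtype.ext ?_
  · refine Nat.beq_eq.mpr ((disp_zero_code (hg e) _ _ _).2 ((e.2.conj hk).2 _ (disp_eq.1 ?_)))
    rw [show ![c 0, c 1, c 2] = c from funext fun j => by fin_cases j <;> rfl]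
    exact hc
  · have e' : g a = g b := Fin.ext (congrArg Subtype.val e)
    exact mul_left_cancel (mul_right_cancel (coded_ext (hg a) (e' ▸ hg b)))

/-- An anisotropic point of a plane of displacements is moved by an element of the model commuting
with the involution. -/
theorem mover {x : Equiv.Perm Vec} (hx : Inv x) (hU : Nat.card (Set.range (disp x)) = 64)
    {w : Vec} (hw : hf w (disp x w) ≠ 0) :
    ∃ c ∈ Kl, c * x = x * c ∧ ∀ t : K4, c (disp x w) ≠ t • disp x w := by
  classical
  have h1 : x ≠ 1 := by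
    rintro rfl
    have : Set.range (disp (1 : Equiv.Perm Vec)) ⊆ {0} := by
      rintro _ ⟨y, rfl⟩
      exact disp_eq.2 rfl
    have h := Nat.card_mono (Set.toFinite _) this
    rw [hU, Nat.card_coe_set_eq, Set.ncard_singleton] at h
    omega
  obtain ⟨k, hk, i, hi⟩ := locate_five hx h1
  set x' := k * x * k⁻¹ with hx'd
  have hx' := hx.conj hk
  have hfix := (tabFive.frame i).fix_self hx' hi
  obtain ⟨g, hg⟩ := exists_good hfix
  have h := (allN_iff _ _).1 ((allN_iff _ _).1 five_move i i.2) g g.2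
  rw [Bool.or_eq_true] at h
  -- the map is injective on the dual vectors
  have hsur : Function.Bijective fun c : Fin 3 → K4 =>
      (⟨disp x' (comb (tabFive.frame i).v c), _, rfl⟩ : Set.range (disp x')) := by
    refine Function.Surjective.bijective_of_nat_card_le (fun ⟨v, hv⟩ => ?_) ?_
    · rw [range_eq hfix] at hv
      obtain ⟨c, hc⟩ := hv
      exact ⟨c, Subtype.ext hc⟩
    · rw [card_coef, range_conj hk, hU]
  rcases h with h | h
  · exfalso
    obtain ⟨s, hs, he⟩ := (anyN_iff _ _).1 h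
    rw [Bool.and_eq_true, Bool.not_eq_true'] at he
    obtain ⟨a, b, c, rfl⟩ := code3_surj s hs
    have hne : (![a, b, c] : Fin 3 → K4) ≠ 0 := fun e0 => by
      have := (code3_lt a b c).2.2 ⟨congrFun e0 0, congrFun e0 1, congrFun e0 2⟩
      rw [this] at he
      exact Bool.noConfusion he.1
    refine hne (hsur.1 (Subtype.ext ?_))
    show disp x' _ = disp x' _
    rw [disp_eq.2 ((disp_zero_code hg a b c).1 (Nat.eq_of_beq_eq_true he.2))]
    refine (disp_eq.2 ?_).symm
    rw [show comb (tabFive.frame i).v 0 = 0 by simp [comb], hx'.mem.2.map_zero]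
  set P := tabFive.frame i with hP
  set a := hf (k w) (P.u 0) with ha
  set b := hf (k w) (P.u 1) with hb
  set c := hf (k w) (P.u 2) with hc
  set wS := comb P.v ![a, b, c] with hwS
  have hkd : k (disp x w) = disp x' (k w) := by
    rw [hx'd, disp_conj hk]
    exact congrArg (fun v => k (disp x v)) (k.symm_apply_apply w).symm
  have hds : disp x' (k w) = disp x' wS := by
    conv_lhs => rw [disp, P.formula hfix]
    rw [hwS, P.disp_comb hfix, add_right_comm, vv, zero_add]
    simp only [comb, ← ha, ← hb, ← hc, Matrix.cons_val_zero, Matrix.cons_val_one, Matrix.cons_val]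
  have hval : hf wS (disp x' wS) = hf w (disp x w) := by
    have e : hf (P.perpPart (k w)) (disp x' wS) = 0 :=
      perp_of_fix hx' (hfix.2 _ (P.perpPart_perp _)) _
    have e2 : hf (k w) (disp x' wS) = hf wS (disp x' wS) := by
      conv_lhs => rw [P.split (k w), herm_add_left, e, zero_add]
      congr 1
    rw [← e2, ← hds, ← hkd, Kl_herm hk]
  have h' := (allN_iff _ _).1 h _ (code3_lt a b c).1
  rw [Bool.or_eq_true, Bool.or_eq_true] at h'
  have hne0 : ¬ hermC (combC (plC planeFive i 3) (plC planeFive i 4) (plC planeFive i 5)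
      (code3 a b c)) (dispC planeFive i (goodC i g) (code3 a b c)) = 0 := by
    rw [hermC_zero, dV_combC, show dV (dispC planeFive i (goodC i g) (code3 a b c)) = disp x' wS from
      hg.dis a b c]
    intro e
    exact hw (hval ▸ e)
  rcases h' with (h' | h') | h'
  · exfalso
    refine hne0 ?_
    have hz : (![a, b, c] : Fin 3 → K4) = 0 := by
      obtain ⟨p, q, r⟩ := (code3_lt a b c).2.1 (Nat.eq_of_beq_eq_true h')
      funext j; fin_cases j <;> assumption
    refine absurd ?_ hw
    rw [← hval, hwS, hz, show comb P.v 0 = 0 by simp [comb]]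
    simp [hermForm]
  · exact absurd (Nat.eq_of_beq_eq_true h') hne0
  obtain ⟨m, -, hmv⟩ := (anyN_iff _ _).1 h'
  simp only [moverOK, Bool.and_eq_true, Bool.not_eq_true', allN_iff] at hmv
  obtain ⟨hd2, hdxd, had, hline⟩ := hmv
  set dc := getP 12 moveFive (Nat.add (Nat.mul 3 (Nat.add (Nat.mul 32 i) g)) m) with hdc
  set d := dV dc with hdd
  have hev : dV (evalC planeFive i (goodC i g) dc) = x' d := hg.ev dc
  have hA : dV (dispC planeFive i (goodC i g) (code3 a b c)) = disp x' wS := hg.dis a b c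
  have cls2 : cls d = 2 := (cls_code (getP12_lt _ _)).trans (Nat.eq_of_beq_eq_true hd2)
  have hxd : hf d (x' d) = 0 := by
    have := (hermC_zero _ _).1 (Nat.eq_of_beq_eq_true hdxd)
    rwa [hev] at this
  have hAd : hf (disp x' wS) d ≠ 0 := fun e => by
    rw [← hA, ← hermC_zero] at e
    rw [e, Nat.beq_refl] at had
    exact Bool.noConfusion had
  have hln : ∀ t : K4, d + x' d ≠ t • disp x' wS := fun t e => by
    have h4 := hline (fc t) (fc_lt t)
    have : Nat.xor dc (evalC planeFive i (goodC i g) dc) =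
        scalC (fc t) (dispC planeFive i (goodC i g) (code3 a b c)) := by
      refine dV_inj (xor_lt (getP12_lt _ _) ?_) (scalC_lt _ _) ?_
      · with_unfolding_all exact xor_lt (getP12_lt _ _) (combC_lt _ _ _ _)
      · rw [dV_xor, hev, dV_scalC (fc_lt _), fe_fc, hA]
        exact e
    rw [this, Nat.beq_refl] at h4
    exact Bool.noConfusion h4
  obtain ⟨t1, t1L, t1K, t1v⟩ := exists_tv cls2
  obtain ⟨t2, t2L, t2K, t2v⟩ := exists_tv (d := x' d) (by rw [hx'.mem.1.2, cls2])
  -- the product of the two transvections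
  have hcK : t1 * t2 ∈ Kl := (mul_iff t1L t2L).2 (iff_of_false t1K t2K)
  have hxx : ∀ v, x' (x' v) = v := fun v => by
    rw [← Equiv.Perm.mul_apply, hx'.sq, Equiv.Perm.one_apply]
  have hdx : hf (x' d) d = 0 := by rw [hf_comm, hxd, zero_pow two_ne_zero]
  have hcv : ∀ v, (t1 * t2) v = v + hf v (x' d) • x' d + hf v d • d := fun v => by
    rw [Equiv.Perm.mul_apply, t2v, t1v, herm_add_left, Unitary.herm_smul_left, hdx, mul_zero,
      add_zero]
  have hcomm : t1 * t2 * x' = x' * (t1 * t2) := Equiv.ext fun v => by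
    show (t1 * t2) (x' v) = x' ((t1 * t2) v)
    rw [hcv, hcv, hx'.mem.2.add, hx'.mem.2.add, hx'.mem.2.smul, hx'.mem.2.smul, hxx,
      herm_LN hx'.mem, show hf (x' v) d = hf v (x' d) by
        conv_lhs => rw [← hxx d, herm_LN hx'.mem]]
    show x' v + hf v d • x' d + hf v (x' d) • d = x' v + hf v (x' d) • d + hf v d • x' d
    abel
  have hfix' : x' (disp x' wS) = disp x' wS := by
    show x' (x' wS + wS) = x' wS + wS
    rw [hx'.mem.2.add, hxx, add_comm]
  have hca : (t1 * t2) (disp x' wS) = disp x' wS + hf (disp x' wS) d • (d + x' d) := by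
    rw [hcv, show hf (disp x' wS) (x' d) = hf (disp x' wS) d by
      conv_lhs => rw [← hfix', herm_LN hx'.mem], smul_add]
    abel
  refine ⟨k⁻¹ * (t1 * t2) * k, mul_mem (mul_mem (inv_mem hk) hcK) hk, ?_, fun t e => ?_⟩
  · calc k⁻¹ * (t1 * t2) * k * x = k⁻¹ * ((t1 * t2) * x') * k := by rw [hx'd]; group
      _ = k⁻¹ * (x' * (t1 * t2)) * k := by rw [hcomm]
      _ = x * (k⁻¹ * (t1 * t2) * k) := by rw [hx'd]; group
  · have e1 : (t1 * t2) (k (disp x w)) = t • k (disp x w) := by
      have e2 := congrArg k e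
      rw [(semi_of_mem_Kl hk).smul] at e2
      rw [show k ((k⁻¹ * (t1 * t2) * k) (disp x w)) = (t1 * t2) (k (disp x w)) from
        k.apply_symm_apply _] at e2
      exact e2
    rw [hkd, hds, hca] at e1
    have key : ∀ h : K4, h ≠ 0 → ∀ t : K4, ∃ s, h * s = 1 + t := by decide +kernel
    obtain ⟨s, hs⟩ := key _ hAd t
    refine hln s ?_
    have key2 : ∀ h : K4, h ≠ 0 → ∃ r, r * h = 1 := by decide +kernel
    obtain ⟨r, hr⟩ := key2 _ hAd
    have e3 : hf (disp x' wS) d • (d + x' d) = (1 + t) • disp x' wS := by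
      rw [add_smul, one_smul, ← e1, ← add_assoc, vv, zero_add]
    have := congrArg (r • ·) e3
    simp only [smul_smul, hr, one_smul] at this
    rw [this, ← hs, ← mul_assoc, hr, one_mul]

end Cfsg.Agent.H92.Fi24Std
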