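import Cfsg.Agent.H92.Fi24Std.Classes
import Cfsg.Agent.H92.Pair
import Cfsg.Agent.H49.UChar.Transport
import Cfsg.Agent.Components.PLocal

/-!
The setting of an involution with centraliser of shape 2^(1+12).3.U4(3).2^2 or of index at most four in it,
without assumptions on fusion.
-/

set_option autoImplicit false
set_option linter.style.haveILetI false
set_option linter.unusedSectionVars false
set_option maxRecDepth 20000

namespace Cfsg.Agent.H92.Fi24Std

open Cfsg Cfsg.Agent.Compute Cfsg.Agent.Unitary Cfsg.Agent.H41.SUSix Cfsg.Agent.H41.LFi Matrix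

open Cfsg.Agent.H92.ExtraForm (zp zp_inj zp_add FormMap exists_formMap)

attribute [local irreducible] mapsC sift invPerm H95.UFourThree.u43Chain

/-- Being extraspecial is preserved by isomorphisms. -/
theorem isExtraspecial_map {A B : Type*} [Group A] [Group B] (e : A ≃* B)
    (h : Cfsg.IsExtraspecial 2 A) : Cfsg.IsExtraspecial 2 B := by
  obtain ⟨⟨hp, hf, hc⟩, hcard⟩ := h
  have hcm : (Subgroup.center A).map e.toMonoidHom = Subgroup.center B := by
    ext b
    rw [Subgroup.mem_map_equiv, Subgroup.mem_center_iff, Subgroup.mem_center_iff]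
    constructor
    · intro h g
      apply e.symm.injective
      rw [map_mul, map_mul, h]
    · intro h g
      apply e.injective
      rw [map_mul, map_mul, e.apply_symm_apply, h]
  have hfm : (frattini A).map e.toMonoidHom = frattini B := by
    refine le_antisymm (Subgroup.map_le_iff_le_comap.2
      (frattini_le_comap_frattini_of_surjective e.surjective)) ?_
    intro b hb
    rw [Subgroup.mem_map_equiv]
    exact frattini_le_comap_frattini_of_surjective (φ := e.symm.toMonoidHom) e.symm.surjective hb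
  have hdm : (_root_.commutator A).map e.toMonoidHom = _root_.commutator B := by
    rw [_root_.commutator_def, Subgroup.map_commutator,
      Subgroup.map_top_of_surjective _ e.surjective, ← _root_.commutator_def]
  refine ⟨⟨hp.of_surjective e.toMonoidHom e.surjective, ?_, ?_⟩, ?_⟩
  · rw [← hfm, hf, hcm]
  · rw [← hdm, hc, hcm]
  · rw [← hcm, ← hcard]
    exact (Nat.card_congr
      ((Subgroup.center A).equivMapOfInjective _ e.injective).toEquiv).symm

/-- The working hypotheses. -/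
structure Std {G : Type*} [Group G] (z : G) (Q : Subgroup G) where
  hzo : orderOf z = 2
  hzQ : z ∈ Q
  extra : Cfsg.IsExtraspecial 2 Q
  cen : Subgroup.centralizer (Q : Set G) = (Subgroup.center Q).map Q.subtype
  hzc : z ∈ (Subgroup.center Q).map Q.subtype
  hnorm : Subgroup.centralizer (((Subgroup.center Q).map Q.subtype : Subgroup G) : Set G) ≤
    Subgroup.normalizer (Q : Set G)
  le : ∀ q ∈ Q, q * z = z * q
  norm : ∀ c : G, c * z = z * c → ∀ q ∈ Q, c * q * c⁻¹ ∈ Q
  card_Q : Nat.card Q = 2 ^ 13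
  π : G → Vec
  π_mul : ∀ a ∈ Q, ∀ b ∈ Q, π (a * b) = π a + π b
  π_surj : ∀ v, ∃ q ∈ Q, π q = v
  π_zero : ∀ q ∈ Q, π q = 0 ↔ (q = 1 ∨ q = z)
  sq : ∀ q ∈ Q, q * q = zp z (wt (π q))
  comm : ∀ q ∈ Q, ∀ r ∈ Q, r * q = q * r * zp z (pol (π q) (π r))
  ρ : G → Equiv.Perm Vec
  ρ_mul : ∀ c d : G, c * z = z * c → d * z = z * d → ρ (c * d) = ρ c * ρ d
  ρ_π : ∀ c : G, c * z = z * c → ∀ q ∈ Q, π (c * q * c⁻¹) = ρ c (π q)
  ρ_ker : ∀ c : G, c * z = z * c → (ρ c = 1 ↔ c ∈ Q)
  ρ_NS : ∀ c : G, c * z = z * c → ρ c ∈ NS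
  ρ_surj : ∀ k ∈ Kl, ∃ c : G, c * z = z * c ∧ ρ c = k

/-- The setting from the hypotheses, with the preimage of the model. -/
theorem exists_std {G : Type*} [Group G] [Finite G] {z : G} (hz : orderOf z = 2)
    {L : Type*} [Field L] [Fintype L] (hL : Fintype.card L = 9)
    (Q N M : Subgroup (Subgroup.centralizer ({z} : Set G))) [Q.Normal] [hN : N.Normal] [hM : M.Normal]
    (hQ : Cfsg.IsExtraspecial 2 Q) (hcard : Nat.card Q = 2 ^ 13)
    (hgf : Cfsg.generalizedFittingSubgroup ↥(Subgroup.centralizer ({z} : Set G)) = Q)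
    (hQN : Q ≤ N) (hNM : N ≤ M) (hcN : Nat.card N = 3 * Nat.card Q)
    (e : ↥M ⧸ N.subgroupOf M ≃* Cfsg.PSU 4 L 3) :
    ∃ S : Std z (Q.map (Subgroup.centralizer ({z} : Set G)).subtype),
      ∀ c : ↥(Subgroup.centralizer ({z} : Set G)), S.ρ c ∈ Kl ↔ c ∈ M := by
  classical
  haveI : Fact (Nat.Prime 3) := ⟨Nat.prime_three⟩
  haveI : (N.subgroupOf M).Normal := Subgroup.Normal.subgroupOf hN M
  letI := Fintype.ofFinite (GaloisField 3 2)
  have h9 : Fintype.card (GaloisField 3 2) = 9 := by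
    rw [← Nat.card_eq_fintype_card, GaloisField.card 3 2 two_ne_zero]; norm_num
  obtain ⟨e'⟩ := H49.UChar.psu_card_equiv (n := 4) (hL.trans h9.symm) 3
  have T : Tower Q N M := ⟨hQN, hNM, hN, hM, hcN,
    ⟨GaloisField 3 2, inferInstance, inferInstance, inferInstance, h9, ⟨e.trans e'⟩⟩, hcard⟩
  obtain ⟨hzZ, hcenG, -, hnormG⟩ := H92.centralizer_setting (Subgroup.map_subtype_le Q) (by rw [hgf])
  have hcen : ∀ c : ↥(Subgroup.centralizer ({z} : Set G)),
      (∀ q ∈ Q, q * c = c * q) → c ∈ Q := by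
    intro c hc
    have h1 : (c : G) ∈ Subgroup.centralizer
        ((Q.map (Subgroup.centralizer ({z} : Set G)).subtype : Subgroup G) : Set G) :=
      Subgroup.mem_centralizer_iff.mpr fun q hq => by
        obtain ⟨r, hr, rfl⟩ := hq
        exact congrArg Subtype.val (hc r hr)
    rw [hcenG] at h1
    obtain ⟨r, hr, hre⟩ := H92.center_map_le h1
    exact (Subtype.ext hre : r = c) ▸ hr
  have build : ∀ {U : Type} [AddCommGroup U] [Module (ZMod 2) U]
      {Q' : QuadraticForm (ZMod 2) U}, FormMap ↥Q U Q' →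
      ∃ S : Std z (Q.map (Subgroup.centralizer ({z} : Set G)).subtype),
        ∀ c : ↥(Subgroup.centralizer ({z} : Set G)), S.ρ c ∈ Kl ↔ c ∈ M := by
    intro U _ _ Q' F
    obtain ⟨P₀⟩ := exists_pre_of_form T hQ hcen F
    obtain ⟨P, hPK⟩ := P₀.normalize T
    have hzlift : ((F.z : ↥(Subgroup.centralizer ({z} : Set G))) : G) = z := by
      have hzQ : z ∈ Q.map (Subgroup.centralizer ({z} : Set G)).subtype := H92.center_map_le hzZ
      obtain ⟨w, hw, hwz⟩ := hzQ
      have hwc : (⟨w, hw⟩ : Q) ∈ Subgroup.center Q := Subgroup.mem_center_iff.mpr fun q =>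
        Subtype.ext (Subtype.ext (by
          show ((q : Subgroup.centralizer ({z} : Set G)) : G) * (w : G) =
            (w : G) * ((q : Subgroup.centralizer ({z} : Set G)) : G)
          rw [show (w : G) = z from hwz]
          exact Subgroup.mem_centralizer_singleton_iff.mp (q : Subgroup.centralizer ({z} : Set G)).2))
      rcases (F.mem_center _).mp hwc with e' | e'
      · exfalso
        have : z = 1 := by
          rw [← hwz, show w = 1 from congrArg Subtype.val e']; rfl
        rw [this, orderOf_one] at hz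
        omega
      · exact (congrArg (fun x : Q => ((x : Subgroup.centralizer ({z} : Set G)) : G)) e').symm.trans
          hwz
    have hmemC : ∀ c : G, c * z = z * c → c ∈ Subgroup.centralizer ({z} : Set G) :=
      fun c hc => Subgroup.mem_centralizer_singleton_iff.mpr hc
    let lift : G → ↥(Subgroup.centralizer ({z} : Set G)) := fun x =>
      if h : x ∈ Subgroup.centralizer ({z} : Set G) then ⟨x, h⟩ else 1
    have lift_eq : ∀ c : ↥(Subgroup.centralizer ({z} : Set G)), lift c = c := fun c => by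
      simp [lift, c.2]
    have lift_of : ∀ x (h : x ∈ Subgroup.centralizer ({z} : Set G)), lift x = ⟨x, h⟩ :=
      fun x h => by simp [lift, h]
    let pi : G → Vec := fun x => if h : lift x ∈ Q then P.π ⟨lift x, h⟩ else 0
    have pi_eq : ∀ q : ↥Q, pi ((q : ↥(Subgroup.centralizer ({z} : Set G))) : G) = P.π q :=
      fun q => by simp [pi, lift_eq]
    have hzp : ∀ a, ((zp (F.z : ↥(Subgroup.centralizer ({z} : Set G))) a :
        ↥(Subgroup.centralizer ({z} : Set G))) : G) = zp z a := fun a => by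
      unfold zp
      split_ifs <;> simp [hzlift]
    have hmemM : ∀ c, P.r c ∈ Kl ↔ c ∈ M := by
      intro c
      refine ⟨fun h => ?_, fun h => hPK ▸ Subgroup.mem_map_of_mem _ h⟩
      rw [← hPK] at h
      obtain ⟨m, hm, e⟩ := h
      have : m⁻¹ * c ∈ Q := by
        rw [← P.ker, MonoidHom.mem_ker, map_mul, map_inv, e, inv_mul_cancel]
      simpa using mul_mem hm (T.NM (T.QN this))
    refine ⟨{
      hzo := hz
      hzQ := H92.center_map_le hzZ
      extra := isExtraspecial_map (Q.equivMapOfInjective _ (Subgroup.subtype_injective _)) hQ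
      cen := hcenG
      hzc := hzZ
      hnorm := hnormG
      le := fun q hq => by
        obtain ⟨q, -, rfl⟩ := hq
        exact Subgroup.mem_centralizer_singleton_iff.mp q.2
      norm := fun c hc q hq => by
        obtain ⟨q, hq, rfl⟩ := hq
        exact ⟨⟨c, hmemC c hc⟩ * q * ⟨c, hmemC c hc⟩⁻¹, ‹Q.Normal›.conj_mem q hq _, rfl⟩
      card_Q := by
        rw [← hcard]
        exact (Nat.card_congr (Q.equivMapOfInjective _
          (Subgroup.subtype_injective _)).toEquiv).symm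
      π := pi
      π_mul := ?_, π_surj := ?_, π_zero := ?_, sq := ?_, comm := ?_
      ρ := fun x => P.r (lift x)
      ρ_mul := fun c d hc hd => by
        rw [← map_mul]
        congr 1
        rw [lift_of c (hmemC c hc), lift_of d (hmemC d hd),
          lift_of _ (mul_mem (hmemC c hc) (hmemC d hd))]
        rfl
      ρ_π := ?_, ρ_ker := ?_, ρ_NS := ?_, ρ_surj := ?_ },
      fun c => by
        show P.r (lift c) ∈ Kl ↔ _
        rw [lift_eq, hmemM]⟩
    · rintro - ⟨a, ha, rfl⟩ - ⟨b, hb, rfl⟩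
      show pi (((⟨a, ha⟩ * ⟨b, hb⟩ : ↥Q) : ↥(Subgroup.centralizer ({z} : Set G))) : G) =
        pi (((⟨a, ha⟩ : ↥Q) : ↥(Subgroup.centralizer ({z} : Set G))) : G) +
        pi (((⟨b, hb⟩ : ↥Q) : ↥(Subgroup.centralizer ({z} : Set G))) : G)
      rw [pi_eq, pi_eq, pi_eq, P.π_mul]
    · intro v
      obtain ⟨q, hq⟩ := P.surj v
      exact ⟨_, ⟨q, q.2, rfl⟩, by
        show pi ((q : ↥(Subgroup.centralizer ({z} : Set G))) : G) = v
        rw [pi_eq, hq]⟩
    · rintro - ⟨a, ha, rfl⟩
      show pi (((⟨a, ha⟩ : ↥Q) : ↥(Subgroup.centralizer ({z} : Set G))) : G) = 0 ↔ _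
      rw [pi_eq, P.zero]
      constructor
      · rintro (e' | e')
        · exact Or.inl (congrArg Subtype.val e')
        · exact Or.inr ((congrArg Subtype.val e').trans hzlift)
      · rintro (e' | e')
        · exact Or.inl (Subtype.ext e')
        · exact Or.inr (Subtype.ext (e'.trans hzlift.symm))
    · rintro - ⟨a, ha, rfl⟩
      show ((a * a : ↥(Subgroup.centralizer ({z} : Set G))) : G) =
        zp z (wt (pi (((⟨a, ha⟩ : ↥Q) : ↥(Subgroup.centralizer ({z} : Set G))) : G)))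
      rw [pi_eq, P.sq ⟨a, ha⟩, hzp]
    · rintro - ⟨a, ha, rfl⟩ - ⟨b, hb, rfl⟩
      show ((b * a : ↥(Subgroup.centralizer ({z} : Set G))) : G) =
        ((a * b : ↥(Subgroup.centralizer ({z} : Set G))) : G) *
        zp z (pol (pi (((⟨a, ha⟩ : ↥Q) : ↥(Subgroup.centralizer ({z} : Set G))) : G))
          (pi (((⟨b, hb⟩ : ↥Q) : ↥(Subgroup.centralizer ({z} : Set G))) : G)))
      rw [pi_eq, pi_eq, ← hzp, ← Subgroup.coe_mul, P.comm ⟨a, ha⟩ ⟨b, hb⟩]
    · rintro c hc - ⟨a, ha, rfl⟩
      show pi (c * (a : G) * c⁻¹) =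
        P.r (lift c) (pi (((⟨a, ha⟩ : ↥Q) : ↥(Subgroup.centralizer ({z} : Set G))) : G))
      rw [lift_of c (hmemC c hc), pi_eq,
        show c * (a : G) * c⁻¹ = (((⟨⟨c, hmemC c hc⟩ * a * ⟨c, hmemC c hc⟩⁻¹,
          ‹Q.Normal›.conj_mem a ha _⟩ : ↥Q) : ↥(Subgroup.centralizer ({z} : Set G))) : G) from rfl,
        pi_eq]
      exact P.equi ⟨c, hmemC c hc⟩ ⟨a, ha⟩ _ rfl
    · intro c hc
      show P.r (lift c) = 1 ↔ _
      rw [lift_of c (hmemC c hc), ← MonoidHom.mem_ker, P.ker]
      refine ⟨fun h => ⟨_, h, rfl⟩, fun ⟨x, hx, hxe⟩ => ?_⟩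
      exact (Subtype.ext hxe : x = ⟨c, hmemC c hc⟩) ▸ hx
    · intro c hc
      refine mem_NS.2 ⟨P.semi T _, fun u => ?_⟩
      refine cls_of_normalizes ?_ ?_ (fun u => ?_) u
      · intro k hk
        rw [← hPK] at hk
        obtain ⟨m, hm, rfl⟩ := hk
        show P.r (lift c) * P.r m * (P.r (lift c))⁻¹ ∈ Kl
        rw [← map_inv, ← map_mul, ← map_mul, hmemM]
        exact hM.conj_mem m hm _
      · obtain ⟨θ, hθ⟩ := P.semi T (lift c)
        exact hθ.map_zero
      · rw [cls_one_iff, cls_one_iff, P.r_wt]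
    · intro k hk
      rw [← hPK] at hk
      obtain ⟨m, hm, rfl⟩ := hk
      exact ⟨m, Subgroup.mem_centralizer_singleton_iff.mp m.2, by
        show P.r (lift m) = P.r m
        rw [lift_eq]⟩
  rcases exists_formMap hQ 6 (by norm_num) (by rw [hcard]) with ⟨⟨F⟩⟩ | ⟨⟨F⟩⟩
  · exact build F
  · exact build F

namespace Std

variable {G : Type*} [Group G] [Finite G] {z : G} {Q : Subgroup G} (S : Std z Q)
include S

theorem z_sq : z * z = 1 := by rw [← pow_two, ← S.hzo, pow_orderOf_eq_one]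

theorem z_ne : z ≠ 1 := fun h => by
  have := S.hzo
  rw [h, orderOf_one] at this
  omega

theorem π_one : S.π 1 = 0 := (S.π_zero 1 Q.one_mem).2 (Or.inl rfl)

theorem π_z : S.π z = 0 := (S.π_zero z S.hzQ).2 (Or.inr rfl)

theorem π_zmul {q : G} (hq : q ∈ Q) : S.π (z * q) = S.π q := by
  rw [S.π_mul z S.hzQ q hq, S.π_z, zero_add]

theorem π_inv {q : G} (hq : q ∈ Q) : S.π q⁻¹ = S.π q := by
  have h := S.π_mul q⁻¹ (inv_mem hq) q hq
  rw [inv_mul_cancel, S.π_one] at h
  have key : ∀ a b : K4, 0 = a + b → a = b := by decide +kernel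
  funext i
  exact key _ _ (congrFun h i)

theorem π_eq {q r : G} (hq : q ∈ Q) (hr : r ∈ Q) (h : S.π q = S.π r) : r = q ∨ r = z * q := by
  have h0 : S.π (r * q⁻¹) = 0 := by
    rw [S.π_mul r hr _ (inv_mem hq), S.π_inv hq, h]
    funext i
    have key : ∀ a : K4, a + a = 0 := by decide +kernel
    exact key _
  rcases (S.π_zero _ (mul_mem hr (inv_mem hq))).1 h0 with e | e
  · exact Or.inl (mul_inv_eq_one.1 e)
  · exact Or.inr (mul_inv_eq_iff_eq_mul.1 e)

theorem comm_iff {q r : G} (hq : q ∈ Q) (hr : r ∈ Q) :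
    q * r = r * q ↔ pol (S.π q) (S.π r) = 0 := by
  have h := S.comm q hq r hr
  constructor
  · intro e
    rw [← e] at h
    have h1 : zp z (pol (S.π q) (S.π r)) = zp z 0 := by
      simpa [zp] using h
    exact zp_inj S.z_ne h1
  · intro e
    rw [e] at h
    simpa [zp] using h.symm

theorem wt_zero_of_sq {q : G} (hq : q ∈ Q) (h : q * q = 1) : wt (S.π q) = 0 := by
  rw [S.sq q hq] at h
  exact zp_inj S.z_ne (h.trans (by simp [zp]))

theorem exists_conj_z {q : G} (hq : q ∈ Q) (h : S.π q ≠ 0) :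
    ∃ x ∈ Q, x * q * x⁻¹ = z * q := by
  obtain ⟨v, hv⟩ := pol_nondeg h
  obtain ⟨x, hx, hxv⟩ := S.π_surj v
  refine ⟨x, hx, ?_⟩
  have hc := S.comm q hq x hx
  rw [hxv, hv] at hc
  have e : x * q = z * (q * x) := by
    rw [hc]
    show q * x * zp z 1 = _
    simp only [zp, one_ne_zero, if_false]
    exact S.le _ (mul_mem hq hx)
  rw [e, ← mul_assoc, mul_inv_cancel_right]

/-- An element inducing a map which fixes the image of an element of the core can be corrected
to centralise it. -/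
theorem lift_fix {c q : G} (hc : c * z = z * c) (hq : q ∈ Q) (h0 : S.π q ≠ 0)
    (hfix : S.ρ c (S.π q) = S.π q) :
    ∃ d : G, d * z = z * d ∧ d * q = q * d ∧ S.ρ d = S.ρ c := by
  have hmem := S.norm c hc q hq
  have h := S.ρ_π c hc q hq
  rw [hfix] at h
  rcases S.π_eq hq hmem h.symm with e | e
  · exact ⟨c, hc, mul_inv_eq_iff_eq_mul.1 e, rfl⟩
  · obtain ⟨x, hx, hxq⟩ := S.exists_conj_z hq h0
    have hxz : x * z = z * x := S.le x hx
    refine ⟨x * c, ?_, mul_inv_eq_iff_eq_mul.1 ?_, ?_⟩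
    · rw [mul_assoc, hc, ← mul_assoc, hxz, mul_assoc]
    · calc x * c * q * (x * c)⁻¹ = x * (c * q * c⁻¹) * x⁻¹ := by group
        _ = (x * z) * q * x⁻¹ := by rw [e]; group
        _ = z * (x * q * x⁻¹) := by rw [hxz]; group
        _ = q := by rw [hxq, ← mul_assoc, S.z_sq, one_mul]
    · rw [S.ρ_mul x c hxz hc, (S.ρ_ker x hxz).2 hx, one_mul]

theorem card_centralizer_elt {q : G} (hq : q ∈ Q) (h : S.π q ≠ 0) :
    Nat.card ↥(Q ⊓ Subgroup.centralizer ({q} : Set G)) = 2 ^ 12 := by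
  classical
  let f : ↥Q →* Multiplicative (ZMod 2) := MonoidHom.mk'
    (fun r => Multiplicative.ofAdd (pol (S.π q) (S.π r)))
    fun a b => by
      rw [← ofAdd_add, Subgroup.coe_mul, S.π_mul a a.2 b b.2, pol_add_right]
  have hsurj : Function.Surjective f := by
    intro a
    rcases zmod_two_cases (Multiplicative.toAdd a) with e | e
    · exact ⟨1, by rw [map_one, ← ofAdd_toAdd a, e]; rfl⟩
    · obtain ⟨v, hv⟩ := pol_nondeg h
      obtain ⟨r, hr, hrv⟩ := S.π_surj v
      refine ⟨⟨r, hr⟩, ?_⟩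
      show Multiplicative.ofAdd (pol (S.π q) (S.π r)) = a
      rw [hrv, hv, ← e, ofAdd_toAdd]
  have hk : f.ker = (Q ⊓ Subgroup.centralizer ({q} : Set G)).subgroupOf Q := by
    ext r
    rw [MonoidHom.mem_ker, Subgroup.mem_subgroupOf, Subgroup.mem_inf,
      Subgroup.mem_centralizer_singleton_iff, and_iff_right r.2, eq_comm (a := (r : G) * q),
      S.comm_iff hq r.2]
    exact ofAdd_eq_one
  have hc := Subgroup.card_mul_index f.ker
  rw [Subgroup.index_ker, MonoidHom.range_eq_top.2 hsurj, Nat.card_congr Subgroup.topEquiv.toEquiv,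
    Nat.card_congr Multiplicative.toAdd, Nat.card_zmod, hk,
    Nat.card_congr (Subgroup.subgroupOfEquivOfLe inf_le_left).toEquiv, S.card_Q] at hc
  omega

/-- The image of a subgroup of the core. -/
noncomputable def piImage (A : Subgroup G) (hA : A ≤ Q) : AddSubgroup Vec where
  carrier := {v | ∃ a ∈ A, S.π a = v}
  zero_mem' := ⟨1, one_mem A, S.π_one⟩
  add_mem' := by
    rintro _ _ ⟨a, ha, rfl⟩ ⟨b, hb, rfl⟩
    exact ⟨a * b, mul_mem ha hb, S.π_mul a (hA ha) b (hA hb)⟩
  neg_mem' := by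
    rintro _ ⟨a, ha, rfl⟩
    refine ⟨a, ha, ?_⟩
    funext i
    have key : ∀ x : K4, x = -x := by decide +kernel
    exact key _

theorem card_piImage (A : Subgroup G) (hA : A ≤ Q) (hz : z ∈ A) :
    Nat.card A = 2 * Nat.card (S.piImage A hA) := by
  let f : ↥A →* Multiplicative (S.piImage A hA) := MonoidHom.mk'
    (fun a => Multiplicative.ofAdd ⟨S.π a, a, a.2, rfl⟩)
    fun a b => by
      rw [← ofAdd_add]
      exact congrArg Multiplicative.ofAdd (Subtype.ext (S.π_mul a (hA a.2) b (hA b.2)))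
  have hs : Function.Surjective f := by
    intro v
    obtain ⟨a, ha, e⟩ := (Multiplicative.toAdd v).2
    exact ⟨⟨a, ha⟩, congrArg Multiplicative.ofAdd (Subtype.ext e)⟩
  have hk : Nat.card f.ker = 2 := by
    have hmem : ∀ a : ↥A, a ∈ f.ker ↔ ((a : G) = 1 ∨ (a : G) = z) := fun a => by
      rw [MonoidHom.mem_ker, ← S.π_zero a (hA a.2)]
      exact ofAdd_eq_one.trans Subtype.ext_iff
    rw [Nat.card_eq_two_iff' (⟨1, one_mem _⟩ : f.ker)]
    refine ⟨⟨⟨z, hz⟩, (hmem _).2 (Or.inr rfl)⟩,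
      fun e => S.z_ne (congrArg (fun x : f.ker => ((x : ↥A) : G)) e), ?_⟩
    rintro ⟨a, ha⟩ ha1
    rcases (hmem a).1 ha with e | e
    · exact absurd (Subtype.ext (Subtype.ext e)) ha1
    · exact Subtype.ext (Subtype.ext e)
  rw [← Subgroup.card_mul_index f.ker, hk, Subgroup.index_ker, MonoidHom.range_eq_top.2 hs,
    Nat.card_congr Subgroup.topEquiv.toEquiv, Nat.card_congr Multiplicative.toAdd]

/-- The action as a homomorphism on the centraliser. -/
noncomputable def rhoHom : ↥(Subgroup.centralizer ({z} : Set G)) →* Equiv.Perm Vec :=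
  MonoidHom.mk' (fun c => S.ρ c) fun a b =>
    S.ρ_mul a b (Subgroup.mem_centralizer_singleton_iff.1 a.2)
      (Subgroup.mem_centralizer_singleton_iff.1 b.2)

theorem rhoHom_ker : S.rhoHom.ker = Q.subgroupOf (Subgroup.centralizer ({z} : Set G)) := by
  ext c
  exact S.ρ_ker c (Subgroup.mem_centralizer_singleton_iff.1 c.2)

theorem ρ_inv {c : G} (hc : c * z = z * c) : S.ρ c⁻¹ = (S.ρ c)⁻¹ :=
  map_inv S.rhoHom ⟨c, Subgroup.mem_centralizer_singleton_iff.2 hc⟩

theorem ρ_one : S.ρ 1 = 1 := map_one S.rhoHom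

theorem z_comm_inv {c : G} (hc : c * z = z * c) : c⁻¹ * z = z * c⁻¹ :=
  Subgroup.mem_centralizer_singleton_iff.1
    (inv_mem (Subgroup.mem_centralizer_singleton_iff.2 hc))

theorem z_comm_mul {c d : G} (hc : c * z = z * c) (hd : d * z = z * d) :
    c * d * z = z * (c * d) :=
  Subgroup.mem_centralizer_singleton_iff.1
    (mul_mem (Subgroup.mem_centralizer_singleton_iff.2 hc)
      (Subgroup.mem_centralizer_singleton_iff.2 hd))

/-- Elements of the same class are conjugate up to the centre, hence conjugate. -/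
theorem conj_of_cls {q r : G} (hq : q ∈ Q) (hr : r ∈ Q) (h : cls (S.π q) = cls (S.π r))
    (ha : cls (S.π q) = 2 ∨ cls (S.π q) = 3) :
    ∃ c : G, c * z = z * c ∧ c * q * c⁻¹ = r := by
  obtain ⟨k1, hk1, e1⟩ := transitive ha rfl
  obtain ⟨k2, hk2, e2⟩ := transitive ha h.symm
  obtain ⟨c, hc, ec⟩ := S.ρ_surj _ (mul_mem hk2 (inv_mem hk1))
  have hπ : S.π (c * q * c⁻¹) = S.π r := by
    rw [S.ρ_π c hc q hq, ec, Equiv.Perm.mul_apply,
      show k1⁻¹ (S.π q) = rootOf (cls (S.π q)) from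
        (congrArg (fun x => k1.symm x) e1.symm).trans (k1.symm_apply_apply _), e2]
  have hmem := S.norm c hc q hq
  rcases S.π_eq hr hmem hπ.symm with e | e
  · exact ⟨c, hc, e⟩
  · have h0 : S.π r ≠ 0 := fun e0 => by
      have := ((facts (S.π r)).2.1).2 e0
      rcases ha with ha | ha <;> omega
    obtain ⟨x, hx, hxr⟩ := S.exists_conj_z hr h0
    have hxz : x * z = z * x := S.le x hx
    refine ⟨x * c, S.z_comm_mul hxz hc, ?_⟩
    calc x * c * q * (x * c)⁻¹ = x * (c * q * c⁻¹) * x⁻¹ := by group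
      _ = (x * z) * r * x⁻¹ := by rw [e]; group
      _ = z * (x * r * x⁻¹) := by rw [hxz]; group
      _ = r := by rw [hxr, ← mul_assoc, S.z_sq, one_mul]

theorem ρ_cls {c : G} (hc : c * z = z * c) (u : Vec) : cls (S.ρ c u) = cls u := (S.ρ_NS c hc).2 u

theorem pair_setting {g : G} (hs : g * z * g⁻¹ ∈ Q) (hne : g * z * g⁻¹ ≠ z) :
    H92.PairSetting Q z g :=
  ⟨S.extra, S.cen, S.hnorm, S.hzc, S.z_ne, hs, hne, by rw [S.card_Q]; norm_num⟩

/-- Meeting the core of a conjugate is symmetric. -/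
theorem symm_pair {g : G} (h : g⁻¹ * z * g ∈ Q) : g * z * g⁻¹ ∈ Q := by
  by_cases e : g⁻¹ * z * g = z
  · have e' : g * z * g⁻¹ = z :=
      calc g * z * g⁻¹ = g * (g⁻¹ * z * g) * g⁻¹ := by rw [e]
        _ = z := by group
    rw [e']; exact S.hzQ
  · have hp := S.pair_setting (g := g⁻¹) (by simpa using h) (by simpa using e)
    simpa using H92.PairSetting.mem_R.1 hp.z_mem_R

end Std

end Cfsg.Agent.H92.Fi24Std
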