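import Cfsg.Agent.H92.Fi24Std.Classes
import Cfsg.Agent.H92.Fi24Std.RadCheck

/-!
Meaning of the tables: planes with dual vectors, location of a totally singular plane, and the coded maps
of a radical.
-/

set_option autoImplicit false
set_option maxRecDepth 20000
set_option linter.unusedSectionVars false

namespace Cfsg.Agent.H92.Fi24Std

open Cfsg Cfsg.Agent.Compute Cfsg.Agent.Unitary Cfsg.Agent.H41.SUSix Cfsg.Agent.H41.LFi Matrix

local notation "hf" => hermForm 6 K4 2

theorem k4_two : ∀ a : K4, a + a = 0 := by decide +kernel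

theorem vv (u : Vec) : u + u = 0 := funext fun _ => k4_two _

theorem sq_k4 : ∀ a b : K4, (a + b) ^ 2 = a ^ 2 + b ^ 2 := by decide +kernel

theorem hf_comm (u v : Vec) : hf u v = (hf v u) ^ 2 := (herm_swap hK v u).symm

/-! ### Coded forms -/

theorem hermC_spec (a b : ℕ) : hermC a b < 4 ∧ fe (hermC a b) = hf (dV a) (dV b) := by
  have key : ∀ x : K4, x * x = x ^ 2 := fun x => (sq x).symm
  suffices h : ∀ n, (Nat.rec 0 (fun i acc => addC acc (mulC (getP 2 a i)
      (mulC (getP 2 b i) (getP 2 b i)))) n : ℕ) < 4 ∧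
      fe (Nat.rec 0 (fun i acc => addC acc (mulC (getP 2 a i) (mulC (getP 2 b i) (getP 2 b i)))) n) =
        ∑ i : Fin n, fe (getP 2 a i) * fe (getP 2 b i) ^ 2 by
    with_unfolding_all exact h 6
  intro n
  induction n with
  | zero => exact ⟨by norm_num, rfl⟩
  | succ k ih =>
    have h := fe_add _ ih.1 _ (mulC_lt (getP 2 a k) (mulC (getP 2 b k) (getP 2 b k)))
    refine ⟨h.1, h.2.trans ?_⟩
    rw [Fin.sum_univ_castSucc, ih.2, fe_mul _ (getP_lt 2 _ _) _ (mulC_lt _ _),
      fe_mul _ (getP_lt 2 _ _) _ (getP_lt 2 _ _), key]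
    rfl

attribute [local irreducible] clsC scalC hermC mapsC sift invPerm H95.UFourThree.u43Chain

theorem hermC_zero (a b : ℕ) : hermC a b = 0 ↔ hf (dV a) (dV b) = 0 := by
  rw [← (hermC_spec a b).2]
  have key : ∀ x < 4, (x = 0 ↔ fe x = 0) := by decide +kernel
  exact key _ (hermC_spec a b).1

theorem hermC_eq (a b : ℕ) : hermC a b = fc (hf (dV a) (dV b)) := by
  rw [← (hermC_spec a b).2, fc_fe _ (hermC_spec a b).1]

/-- Three coefficients in one code. -/
def code3 (a b c : K4) : ℕ := fc a + (4 * fc b + 16 * fc c)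

theorem code3_lt : ∀ a b c : K4, code3 a b c < 64 ∧ (code3 a b c = 0 ↔ a = 0 ∧ b = 0 ∧ c = 0) := by
  decide +kernel

theorem code3_get : ∀ a b c : K4, getP 2 (code3 a b c) 0 = fc a ∧
    getP 2 (code3 a b c) 1 = fc b ∧ getP 2 (code3 a b c) 2 = fc c := by
  decide +kernel

/-- Combination of three vectors. -/
def comb (u : Fin 3 → Vec) (c : Fin 3 → K4) : Vec := c 0 • u 0 + c 1 • u 1 + c 2 • u 2

theorem combC_lt (a b c s : ℕ) : combC a b c s < 4096 :=
  xor_lt (xor_lt (scalC_lt _ _) (scalC_lt _ _)) (scalC_lt _ _)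

theorem dV_combC (a b c : ℕ) (x y z : K4) :
    dV (combC a b c (code3 x y z)) = x • dV a + y • dV b + z • dV c := by
  obtain ⟨h0, h1, h2⟩ := code3_get x y z
  rw [combC, dV_xor, dV_xor, h0, h1, h2, dV_scalC (fc_lt _), dV_scalC (fc_lt _),
    dV_scalC (fc_lt _), fe_fc, fe_fc, fe_fc]

theorem herm_comb (u : Fin 3 → Vec) (c : Fin 3 → K4) (w : Vec) :
    hf (comb u c) w = c 0 * hf (u 0) w + c 1 * hf (u 1) w + c 2 * hf (u 2) w := by
  rw [comb, herm_add_left, herm_add_left, Unitary.herm_smul_left, Unitary.herm_smul_left,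
    Unitary.herm_smul_left]

/-! ### Planes with dual vectors -/

/-- A totally singular plane with dual vectors. -/
structure Frame where
  u : Fin 3 → Vec
  v : Fin 3 → Vec
  huu : ∀ i j, hf (u i) (u j) = 0
  hvu : ∀ i j, hf (v i) (u j) = if i = j then 1 else 0

namespace Frame

variable (P : Frame)

/-- The span. -/
def span : AddSubgroup Vec where
  carrier := {w | ∃ c, comb P.u c = w}
  zero_mem' := ⟨0, by simp [comb]⟩
  add_mem' := by
    rintro _ _ ⟨c, rfl⟩ ⟨d, rfl⟩
    exact ⟨c + d, by simp only [comb, Pi.add_apply, add_smul]; abel⟩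
  neg_mem' := by
    rintro _ ⟨c, rfl⟩
    refine ⟨c, ?_⟩
    exact (neg_eq_of_add_eq_zero_left (vv _)).symm

theorem smul_mem {w : Vec} (hw : w ∈ P.span) (t : K4) : t • w ∈ P.span := by
  obtain ⟨c, rfl⟩ := hw
  exact ⟨t • c, by simp only [comb, Pi.smul_apply, smul_eq_mul, smul_add, mul_smul]⟩

theorem u_mem (i : Fin 3) : P.u i ∈ P.span := by
  refine ⟨Pi.single i 1, ?_⟩
  fin_cases i <;> simp [comb]

theorem huv (i j : Fin 3) : hf (P.u i) (P.v j) = if i = j then 1 else 0 := by
  rw [hf_comm, P.hvu]
  by_cases h : i = j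
  · rw [if_pos h, if_pos h.symm, one_pow]
  · rw [if_neg h, if_neg (Ne.symm h), zero_pow two_ne_zero]

theorem coef (c : Fin 3 → K4) (j : Fin 3) : hf (comb P.u c) (P.v j) = c j := by
  rw [herm_comb, P.huv, P.huv, P.huv]
  fin_cases j <;> simp

theorem span_singular {x y : Vec} (hx : x ∈ P.span) (hy : y ∈ P.span) : hf x y = 0 := by
  obtain ⟨c, rfl⟩ := hx
  obtain ⟨d, rfl⟩ := hy
  have h : ∀ j, hf (P.u j) (comb P.u d) = 0 := fun j => by
    rw [hf_comm, herm_comb, P.huu, P.huu, P.huu]
    simp
  rw [herm_comb, h, h, h]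
  simp

/-- The part orthogonal to the plane. -/
def perpPart (w : Vec) : Vec := w + comb P.v fun j => hf w (P.u j)

theorem perpPart_perp (w : Vec) (j : Fin 3) : hf (P.perpPart w) (P.u j) = 0 := by
  rw [perpPart, herm_add_left, herm_comb, P.hvu, P.hvu, P.hvu]
  fin_cases j <;> simp [k4_two]

theorem split (w : Vec) : w = P.perpPart w + comb P.v fun j => hf w (P.u j) := by
  rw [perpPart, add_assoc, vv, add_zero]

/-- A vector orthogonal to the orthogonal of the plane is in the plane. -/
theorem mem_of_perp {w : Vec} (h : ∀ f, (∀ j, hf f (P.u j) = 0) → hf w f = 0) : w ∈ P.span := by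
  refine ⟨fun j => hf w (P.v j), ext_herm hK fun y => ?_⟩
  rw [P.split y, herm_add_right hK, herm_add_right hK, h _ (P.perpPart_perp y)]
  have h0 : hf (comb P.u fun j => hf w (P.v j)) (P.perpPart y) = 0 := by
    have e : ∀ j, hf (P.u j) (P.perpPart y) = 0 := fun j => by
      rw [hf_comm, P.perpPart_perp, zero_pow two_ne_zero]
    rw [herm_comb, e, e, e]; simp
  rw [h0, zero_add, zero_add]
  simp only [comb, herm_add_right hK, Unitary.herm_smul_right]
  simp only [herm_add_left, Unitary.herm_smul_left, P.huv]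
  simp

theorem card_span : Nat.card P.span = 64 := by
  let e : (Fin 3 → K4) → ↥P.span := fun c => ⟨comb P.u c, c, rfl⟩
  have hb : Function.Bijective e := ⟨fun c d h => funext fun j => by
    rw [← P.coef c j, ← P.coef d j, show comb P.u c = comb P.u d from congrArg Subtype.val h],
    fun ⟨w, c, hc⟩ => ⟨c, Subtype.ext hc⟩⟩
  rw [← Nat.card_congr (Equiv.ofBijective e hb), Nat.card_fun, Nat.card_fin,
    Nat.card_eq_fintype_card]
  decide +kernel

/-- A singular vector orthogonal to the plane is in the plane. -/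
theorem mem_of_singular {w : Vec} (hw : hf w w = 0) (h : ∀ j, hf w (P.u j) = 0) : w ∈ P.span := by
  classical
  by_contra hn
  let f : (Fin 3 → K4) × K4 → Vec := fun p => comb P.u p.1 + p.2 • w
  have hinj : Function.Injective f := by
    rintro ⟨c, s⟩ ⟨d, t⟩ e
    have e' : comb P.u c + s • w = comb P.u d + t • w := e
    have hst : s = t := by
      by_contra hne
      refine hn ?_
      have hm : (s + t) • w ∈ P.span := by
        have e2 : (s + t) • w = comb P.u c + comb P.u d := by
          rw [add_smul]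
          calc s • w + t • w = (comb P.u c + s • w) + t • w + comb P.u c := by
                rw [show comb P.u c + s • w + t • w + comb P.u c =
                  (comb P.u c + comb P.u c) + (s • w + t • w) by abel, vv, zero_add]
            _ = comb P.u d + (t • w + t • w) + comb P.u c := by rw [e']; abel
            _ = _ := by rw [vv, add_zero, add_comm]
        rw [e2]
        exact add_mem ⟨c, rfl⟩ ⟨d, rfl⟩
      have key : ∀ a b : K4, a ≠ b → ∃ r, r * (a + b) = 1 := by decide +kernel
      obtain ⟨r, hr⟩ := key s t hne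
      have := P.smul_mem hm r
      rwa [smul_smul, hr, one_smul] at this
    subst hst
    have := add_right_cancel e'
    refine Prod.ext (funext fun j => ?_) rfl
    show c j = d j
    rw [← P.coef c j, ← P.coef d j, this]
  let T : AddSubgroup Vec :=
    { carrier := Set.range f
      zero_mem' := ⟨0, by simp [f, comb]⟩
      add_mem' := by
        rintro _ _ ⟨p, rfl⟩ ⟨q, rfl⟩
        exact ⟨p + q, by simp only [f, comb, Prod.fst_add, Prod.snd_add, Pi.add_apply, add_smul]; abel⟩
      neg_mem' := by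
        rintro _ ⟨p, rfl⟩
        exact ⟨p, (neg_eq_of_add_eq_zero_left (vv _)).symm⟩ }
  have hT := isotropic_bound (W := T) (by
    rintro _ ⟨⟨c, s⟩, rfl⟩
    have h0 : hf (f (c, s)) (f (c, s)) = 0 := by
      have h1 : hf (comb P.u c) w = 0 := by
        have e : ∀ j, hf (P.u j) w = 0 := fun j => by rw [hf_comm, h, zero_pow two_ne_zero]
        rw [herm_comb, e, e, e]; simp
      have h2 : hf w (comb P.u c) = 0 := by rw [hf_comm, h1, zero_pow two_ne_zero]
      simp only [f, herm_add_left, herm_add_right hK, Unitary.herm_smul_left,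
        Unitary.herm_smul_right, P.span_singular ⟨c, rfl⟩ ⟨c, rfl⟩, h1, h2, hw]
      simp
    rw [herm_self] at h0
    have key : ∀ a, iot a = 0 → a = 0 := by decide +kernel
    exact key _ h0)
  have hc : Nat.card T = 256 := by
    show Nat.card (Set.range f) = 256
    rw [← Nat.card_congr (Equiv.ofInjective f hinj), Nat.card_prod, Nat.card_fun, Nat.card_fin,
      Nat.card_eq_fintype_card]
    decide +kernel
  omega

end Frame

/-! ### The tables -/

/-- A checked table. -/
structure Table where
  tab : ℕ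
  ell : ℕ
  mask : ℕ
  root : ℕ
  planes : allN 27 (planeOK tab root) = true
  ellC : ellOK ell root = true
  maskC : maskOK tab ell mask = true
  pairC : pairOK ell mask = true
  root0 : fe (getP 2 root 0) = 1 ∧ hermC root root = 0

/-- The planes through the root of the first class. -/
noncomputable def tabFive : Table :=
  ⟨planeFive, ellFive, maskFive, 5, five_planes, five_ell, five_mask, five_pair, by decide +kernel⟩

/-- The planes through the root of the second class. -/
noncomputable def tabEight : Table :=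
  ⟨planeEight, ellEight, maskEight, 85, eight_planes, eight_ell, eight_mask, eight_pair,
    by decide +kernel⟩

namespace Table

variable (T : Table)

theorem plane_spec {i : ℕ} (hi : i < 27) :
    plC T.tab i 0 = T.root ∧ ∀ j l : Fin 3,
      hf (dV (plC T.tab i j)) (dV (plC T.tab i l)) = 0 ∧
      hf (dV (plC T.tab i (3 + j.1))) (dV (plC T.tab i l)) = if j = l then 1 else 0 := by
  have h := (allN_iff _ _).1 T.planes i hi
  simp only [planeOK, Bool.and_eq_true, allN_iff, Nat.beq_eq] at h
  refine ⟨h.1, fun j l => ?_⟩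
  obtain ⟨h1, h2⟩ := h.2 j j.2 l l.2
  refine ⟨(hermC_zero _ _).1 h1, ?_⟩
  rw [← (hermC_spec _ _).2]
  have h2' : hermC (plC T.tab i (3 + j.1)) (plC T.tab i l) = cond (Nat.beq j l) 1 0 := h2
  rw [h2']
  by_cases e : j = l
  · subst e
    rw [Nat.beq_refl, if_pos rfl]
    rfl
  · rw [if_neg e]
    cases hb : Nat.beq j l
    · rfl
    · exact absurd (Fin.ext (Nat.eq_of_beq_eq_true hb)) e

/-- The frame of a plane. -/
noncomputable def frame (i : Fin 27) : Frame where
  u j := dV (plC T.tab i j)
  v j := dV (plC T.tab i (3 + j.1))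
  huu j l := ((T.plane_spec i.2).2 j l).1
  hvu j l := ((T.plane_spec i.2).2 j l).2

theorem root_mem (i : Fin 27) : dV T.root ∈ (T.frame i).span := by
  have h := (T.frame i).u_mem 0
  rwa [show (T.frame i).u 0 = dV (plC T.tab i 0) from rfl, (T.plane_spec i.2).1] at h

theorem mem_of_memC (i : Fin 27) {w : ℕ} (h : memC T.tab i w = true) :
    dV w ∈ (T.frame i).span := by
  have h' := Nat.eq_of_beq_eq_true h
  refine ⟨fun j => hf (dV w) ((T.frame i).v j), ?_⟩
  conv_rhs => rw [← h']
  rw [show Nat.add (hermC w (plC T.tab i 3)) (Nat.add (Nat.mul 4 (hermC w (plC T.tab i 4)))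
      (Nat.mul 16 (hermC w (plC T.tab i 5)))) = code3 (hf (dV w) (dV (plC T.tab i 3)))
        (hf (dV w) (dV (plC T.tab i 4))) (hf (dV w) (dV (plC T.tab i 5))) by
      simp only [code3, ← hermC_eq]; rfl, dV_combC]
  rfl

theorem exists_index {w : Vec} (h0 : w 0 = 0) (hw : hf w w = 0) (hr : hf w (dV T.root) = 0) :
    ∃ a < 136, getP 12 T.ell a = eV w := by
  have h := (allN_iff _ _).1 T.ellC (eV w) (eV_lt w)
  have hc : (Nat.beq (getP 2 (eV w) 0) 0 && (Nat.beq (hermC (eV w) (eV w)) 0 &&
      Nat.beq (hermC (eV w) T.root) 0)) = true := by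
    rw [show getP 2 (eV w) 0 = fc (w 0) from getP_eV w 0, h0, (hermC_zero _ _).2 (by rwa [dV_eV]),
      (hermC_zero _ _).2 (by rwa [dV_eV])]
    rfl
  rw [hc, cond_true] at h
  obtain ⟨a, ha, e⟩ := (anyN_iff _ _).1 h
  exact ⟨a, ha, Nat.eq_of_beq_eq_true e⟩

theorem pair_mem {x y : Vec} (x0 : x 0 = 0) (y0 : y 0 = 0) (xx : hf x x = 0) (yy : hf y y = 0)
    (xr : hf x (dV T.root) = 0) (yr : hf y (dV T.root) = 0) (xy : hf x y = 0) :
    ∃ i : Fin 27, x ∈ (T.frame i).span ∧ y ∈ (T.frame i).span := by
  obtain ⟨a, ha, ea⟩ := T.exists_index x0 xx xr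
  obtain ⟨b, hb, eb'⟩ := T.exists_index y0 yy yr
  have h := (allN_iff _ _).1 ((allN_iff _ _).1 T.pairC a ha) b hb
  rw [ea, eb', (hermC_zero _ _).2 (by rwa [dV_eV, dV_eV]), Nat.beq_refl, cond_true] at h
  obtain ⟨i, hi, hh⟩ := (anyN_iff _ _).1 (h : anyN 27 _ = true)
  rw [Bool.and_eq_true] at hh
  have hm : ∀ c, c < 136 → Nat.beq (getP 1 (getP 27 T.mask c) i) 1 = true →
      memC T.tab i (getP 12 T.ell c) = true := fun c hc e => by
    have := (allN_iff _ _).1 ((allN_iff _ _).1 T.maskC c hc) i hi
    rwa [e] at this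
  refine ⟨⟨i, hi⟩, ?_, ?_⟩
  · have := T.mem_of_memC ⟨i, hi⟩ (hm a ha hh.1)
    rwa [ea, dV_eV] at this
  · have := T.mem_of_memC ⟨i, hi⟩ (hm b hb hh.2)
    rwa [eb', dV_eV] at this

/-- A totally singular subspace through the root lies in a plane of the table. -/
theorem locate (W : Set Vec) (hW : ∀ x ∈ W, ∀ y ∈ W, hf x y = 0)
    (hr : dV T.root ∈ W) : ∃ i : Fin 27, ∀ w ∈ W, w ∈ (T.frame i).span := by
  classical
  set r := dV T.root with hrd
  have hr0 : r 0 = 1 := T.root0.1
  have rr : hf r r = 0 := hW r hr r hr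
  let red : Vec → Vec := fun w => w + w 0 • r
  have red0 : ∀ w, red w 0 = 0 := fun w => by
    show w 0 + w 0 * r 0 = 0
    rw [hr0, mul_one, k4_two]
  have redh : ∀ x ∈ W, ∀ y ∈ W, hf (red x) (red y) = 0 ∧ hf (red x) r = 0 := fun x hx y hy => by
    simp only [red, herm_add_left, herm_add_right hK, Unitary.herm_smul_left, Unitary.herm_smul_right,
      hW x hx y hy, hW x hx r hr, hW r hr y hy, rr]
    simp
  have back : ∀ (i : Fin 27) w, red w ∈ (T.frame i).span → w ∈ (T.frame i).span := fun i w h => by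
    have e : w = red w + w 0 • r := by simp only [red]; rw [add_assoc, vv, add_zero]
    rw [e]
    exact add_mem h ((T.frame i).smul_mem (T.root_mem i) _)
  by_cases hA : ∀ w ∈ W, red w = 0
  · exact ⟨0, fun w hw => back 0 w (by rw [hA w hw]; exact zero_mem _)⟩
  push Not at hA
  obtain ⟨a, ha, ha'⟩ := hA
  by_cases hB : ∀ w ∈ W, ∃ t : K4, red w = t • red a
  · obtain ⟨i, hi, -⟩ := T.pair_mem (red0 a) (red0 a) (redh a ha a ha).1 (redh a ha a ha).1
      (redh a ha a ha).2 (redh a ha a ha).2 (redh a ha a ha).1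
    refine ⟨i, fun w hw => back i w ?_⟩
    obtain ⟨t, e⟩ := hB w hw
    rw [e]
    exact (T.frame i).smul_mem hi t
  push Not at hB
  obtain ⟨b, hb, hb'⟩ := hB
  obtain ⟨i, hia, hib⟩ := T.pair_mem (red0 a) (red0 b) (redh a ha a ha).1 (redh b hb b hb).1
    (redh a ha a ha).2 (redh b hb b hb).2 (redh a ha b hb).1
  refine ⟨i, fun w hw => back i w ?_⟩
  set P := T.frame i
  -- the three vectors generate the plane
  let f : (Fin 3 → K4) → ↥P.span := fun c => ⟨comb ![r, red a, red b] c,
    add_mem (add_mem (P.smul_mem (T.root_mem i) _) (P.smul_mem hia _)) (P.smul_mem hib _)⟩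
  have hinj : Function.Injective f := by
    intro c d e
    have e' : comb ![r, red a, red b] c = comb ![r, red a, red b] d := congrArg Subtype.val e
    have h00 := congrFun e' 0
    simp only [comb, Pi.add_apply, Pi.smul_apply, Matrix.cons_val_zero, Matrix.cons_val_one,
      Matrix.cons_val, red0, hr0, smul_eq_mul, mul_zero, add_zero, mul_one] at h00
    simp only [comb, Matrix.cons_val_zero, Matrix.cons_val_one, Matrix.cons_val] at e'
    rw [h00, add_assoc, add_assoc, add_right_inj] at e'
    have key : ∀ p q : K4, p ≠ q → ∃ s, s * (p + q) = 1 := by decide +kernel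
    have h2 : c 2 = d 2 := by
      by_contra hne
      obtain ⟨s, hs⟩ := key _ _ hne
      refine hb' (s * (c 1 + d 1)) ?_
      have e2 : (c 2 + d 2) • red b = (c 1 + d 1) • red a := by
        rw [add_smul, add_smul]
        calc c 2 • red b + d 2 • red b
            = (c 1 • red a + c 2 • red b) + d 2 • red b + c 1 • red a := by
              rw [show c 1 • red a + c 2 • red b + d 2 • red b + c 1 • red a =
                (c 1 • red a + c 1 • red a) + (c 2 • red b + d 2 • red b) by abel, vv, zero_add]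
          _ = d 1 • red a + (d 2 • red b + d 2 • red b) + c 1 • red a := by rw [e']; abel
          _ = _ := by rw [vv, add_zero, add_comm]
      have := congrArg (s • ·) e2
      simp only [smul_smul, hs, one_smul] at this
      exact this
    rw [h2] at e'
    have h1 : c 1 = d 1 := by
      by_contra hne
      obtain ⟨s, hs⟩ := key _ _ hne
      refine ha' ?_
      have e2 : (c 1 + d 1) • red a = 0 := by rw [add_smul, add_right_cancel e', vv]
      have := congrArg (s • ·) e2
      simpa only [smul_smul, hs, one_smul, smul_zero] using this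
    funext j
    fin_cases j
    exacts [h00, h1, h2]
  have hsur : Function.Surjective f :=
    (hinj.bijective_of_nat_card_le (by
      rw [P.card_span, Nat.card_fun, Nat.card_fin, Nat.card_eq_fintype_card]
      decide +kernel)).2
  refine P.mem_of_singular (redh w hw w hw).1 fun j => ?_
  obtain ⟨c, hc⟩ := hsur ⟨P.u j, P.u_mem j⟩
  rw [← show comb ![r, red a, red b] c = P.u j from congrArg Subtype.val hc]
  simp only [comb, Matrix.cons_val_zero, Matrix.cons_val_one, Matrix.cons_val, herm_add_right hK,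
    Unitary.herm_smul_right, (redh w hw a ha).2, (redh w hw a ha).1, (redh w hw b hb).1]
  simp

end Table

end Cfsg.Agent.H92.Fi24Std
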