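import Cfsg.Agent.H92.Fi24Std.NwcFacts

/-!
The centraliser inducing all semilinear maps: a transvection lifts to an element centralising the
preimage of its fixed vectors, and the transfer to a group of order two does not kill it.
-/

set_option autoImplicit false
set_option linter.unusedSectionVars false
set_option linter.style.haveILetI false
set_option maxRecDepth 20000

namespace Cfsg.Agent.H92.Fi24Std

open Cfsg Cfsg.Agent.Compute Cfsg.Agent.Unitary Cfsg.Agent.H41.SUSix Cfsg.Agent.H41.LFi Matrix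
open MulAction

open Cfsg.Agent.H92.ExtraForm (zp zp_inj zp_add)

local notation "hf" => hermForm 6 K4 2

attribute [local irreducible] clsC mapsC sift invPerm H95.UFourThree.u43Chain

/-! ### The transvection -/

theorem d5_ne : (dV 5 : Vec) ≠ 0 := by
  intro h
  have := congrFun h 0
  revert this
  decide +kernel

theorem d5_self : hf (dV 5) (dV 5) = 0 := by decide +kernel

theorem e0_d5 : hf (eb 0) (dV 5) = 1 := by decide +kernel

theorem tau_NS : tauP ∈ NS := tauP_mem.1

theorem disp_tau (v : Vec) : disp tauP v = hf v (dV 5) • dV 5 := by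
  rw [disp, tau_transvection, add_comm v, add_assoc, vv, add_zero]

theorem tau_fix {v : Vec} : tauP v = v ↔ hf v (dV 5) = 0 := by
  rw [← disp_eq, disp_tau, smul_eq_zero]
  exact or_iff_left d5_ne

theorem range_tau {v : Vec} : v ∈ Set.range (disp tauP) ↔ ∃ t : K4, v = t • dV 5 := by
  constructor
  · rintro ⟨w, rfl⟩
    exact ⟨_, disp_tau w⟩
  · rintro ⟨t, rfl⟩
    exact ⟨t • eb 0, by rw [disp_tau, herm_smul_left, e0_d5, mul_one]⟩

theorem fix_d5 (t : K4) : tauP (t • dV 5) = t • dV 5 := by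
  rw [tau_fix, herm_smul_left, d5_self, mul_zero]

theorem cls_smul_d5 {t : K4} (ht : t ≠ 0) : cls (t • dV 5) = 2 := by
  have h : cls (dV 5) = 2 := by
    have := cls_root (a := 2) (Or.inl rfl)
    rwa [show rootOf 2 = dV 5 from if_pos rfl] at this
  obtain ⟨k, hk, hks⟩ := exists_smul_mem
  have h1 : ∀ u : Vec, cls (ω₄ • u) = cls u := fun u => by rw [← hks, cls_Kl hk]
  have : t = 1 ∨ t = ω₄ ∨ t = ω₄ * ω₄ := by revert t; decide +kernel
  rcases this with rfl | rfl | rfl
  · rw [one_smul, h]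
  · rw [h1, h]
  · rw [mul_smul, h1, h1, h]

theorem stab_comm_tau {k : Equiv.Perm Vec} (hk : k ∈ stabK (dV 5)) : k * tauP = tauP * k := by
  refine Equiv.ext fun v => ?_
  rw [Equiv.Perm.mul_apply, Equiv.Perm.mul_apply, tau_transvection, tau_transvection,
    (semi_of_mem_Kl hk.1).add, (semi_of_mem_Kl hk.1).smul, show k (dV 5) = dV 5 from hk.2]
  congr 2
  show hf v (dV 5) = _
  conv_rhs => rw [← show k (dV 5) = dV 5 from hk.2, Kl_herm hk.1]

/-- The projection onto the fixed vectors along the first basis vector. -/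
noncomputable def projF (v : Vec) : Vec := v + hf v (dV 5) • eb 0

theorem projF_fix (v : Vec) : tauP (projF v) = projF v := by
  rw [tau_fix, projF, herm_add_left, herm_smul_left, e0_d5, mul_one]
  exact k4_two _

theorem projF_add (u v : Vec) : projF (u + v) = projF u + projF v := by
  rw [projF, projF, projF, herm_add_left, add_smul]
  abel

theorem projF_self {v : Vec} (h : tauP v = v) : projF v = v := by
  rw [projF, tau_fix.1 h, zero_smul, add_zero]

/-- An additive functional is the polar form against a vector. -/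
theorem riesz (φ : Vec →+ ZMod 2) : ∃ w, ∀ v, φ v = pol v w := by
  have key : ∀ a b : ZMod 2, ∃ c : K4, trK (1 * c ^ 2) = a ∧ trK (ω₄ * c ^ 2) = b := by decide +kernel
  choose w h1 h2 using fun i => key (φ (Pi.single i 1)) (φ (Pi.single i ω₄))
  refine ⟨w, fun v => ?_⟩
  have hs : ∀ (i : Fin 6) (x : K4), φ (Pi.single i x) = pol (Pi.single i x) w := by
    intro i x
    have hp : ∀ y : K4, pol (Pi.single i y) w = trK (y * w i ^ 2) := fun y => by
      rw [pol_eq, hermForm, Finset.sum_eq_single i, Pi.single_eq_same]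
      · intro j _ hj
        rw [Pi.single_eq_of_ne hj, zero_mul]
      · exact fun h => absurd (Finset.mem_univ i) h
    have : x = 0 ∨ x = 1 ∨ x = ω₄ ∨ x = 1 + ω₄ := by revert x; decide +kernel
    rcases this with rfl | rfl | rfl | rfl
    · rw [Pi.single_zero, map_zero, pol_symm]
      simp [pol, H41.LFi.wt_zero]
      exact ((show ∀ t : ZMod 2, t + t = 0 by decide) _).symm
    · rw [hp, h1]
    · rw [hp, h2]
    · rw [Pi.single_add, map_add, pol_add_left, hp, hp, h1, h2]
  have : φ = polHom.flip w := AddMonoidHom.functions_ext' _ _ _ fun i => AddMonoidHom.ext fun x => hs i x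
  rw [this]
  rfl

/-- A linear map preserving the classes and fixing what the transvection fixes. -/
theorem eq_one_or_tau {a : Equiv.Perm Vec} (ha : a ∈ LN) (h : ∀ v, tauP v = v → a v = v) :
    a = 1 ∨ a = tauP := by
  obtain ⟨t, ht⟩ : ∃ t : K4, disp a (eb 0) = t • dV 5 := by
    refine range_tau.1 (range_of_pol tau_NS tauP_sq fun f hf' => ?_)
    have h1 := herm_LN ha (eb 0) f
    rw [h f hf'] at h1
    rw [pol_eq, disp, herm_add_left, h1, k4_two]
    rfl
  have he : a (eb 0) = eb 0 + t • dV 5 := by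
    rw [← ht, disp, add_comm (a (eb 0)), ← add_assoc, vv, zero_add]
  have h00 : hf (eb 0) (eb 0) = 1 := by decide +kernel
  have hd0 : hf (dV 5) (eb 0) = 1 := by decide +kernel
  have h0t : hf (eb 0) (t • dV 5) = t ^ 2 := by
    rw [hf_comm, herm_smul_left, hd0, mul_one]
  have h1 := herm_LN ha (eb 0) (eb 0)
  rw [he, herm_add_left, herm_add_right hK, herm_add_right hK, herm_smul_left, herm_smul_left,
    h00, hd0, h0t, hf_comm (dV 5) (t • dV 5), herm_smul_left, d5_self, mul_zero,
    zero_pow two_ne_zero, mul_zero, add_zero, mul_one] at h1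
  have key : ∀ t : K4, 1 + t ^ 2 + t = 1 → t = 0 ∨ t = 1 := by decide +kernel
  have hform : ∀ v, a v = v + (hf v (dV 5) * t) • dV 5 := by
    intro v
    have hv : v = projF v + hf v (dV 5) • eb 0 := by
      rw [projF, add_assoc, vv, add_zero]
    conv_lhs => rw [hv, ha.2.add, ha.2.smul, h _ (projF_fix v), he]
    show projF v + hf v (dV 5) • (eb 0 + t • dV 5) = _
    rw [smul_add, smul_smul, ← add_assoc, ← hv]
  rcases key t h1 with rfl | rfl
  · exact Or.inl (Equiv.ext fun v => by rw [hform, mul_zero, zero_smul, add_zero]; rfl)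
  · exact Or.inr (Equiv.ext fun v => by rw [hform, mul_one, tau_transvection])

theorem simple_small {P : Type*} [Group P] [Finite P] [IsSimpleGroup P] (hP : Nat.card P = 25920)
    (L : Subgroup P) (h8 : L.index ≤ 8) : L = ⊤ := by
  rcases IsSimpleGroup.eq_bot_or_eq_top_of_normal L.normalCore (Subgroup.normalCore_normal L) with e | e
  · exfalso
    have hker : (MulAction.toPermHom P (P ⧸ L)).ker = ⊥ := by rw [← Subgroup.normalCore_eq_ker, e]
    have hd := Subgroup.card_dvd_of_injective _ ((MonoidHom.ker_eq_bot_iff _).1 hker)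
    rw [hP, Nat.card_perm] at hd
    change 25920 ∣ (L.index).factorial at hd
    have := hd.trans (Nat.factorial_dvd_factorial h8)
    norm_num [Nat.factorial] at this
  · exact top_unique (e ▸ Subgroup.normalCore_le L)

/-! ### A lift of the transvection centralising the preimage of its fixed vectors -/

variable {G : Type*} [Group G] [Finite G] {z : G} {Q : Subgroup G}

/-- A lift of the transvection centralising the preimage of its fixed vectors. -/
structure Lift (S : Std z Q) (h : G) : Prop where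
  comm : h * z = z * h
  map : S.ρ h = tauP
  flat : ∀ q ∈ Q, tauP (S.π q) = S.π q → h * q = q * h

variable (S : Std z Q)
include S

theorem line_of_comm {q : G} (hq : q ∈ Q)
    (h : ∀ x ∈ Q, tauP (S.π x) = S.π x → q * x = x * q) : ∃ t : K4, S.π q = t • dV 5 := by
  refine range_tau.1 (range_of_pol tau_NS tauP_sq fun f hf' => ?_)
  obtain ⟨x, hx, rfl⟩ := S.π_surj f
  exact (S.comm_iff hq hx).1 (h x hx hf')

theorem exists_lift (hfull : ∀ a ∈ NS, ∃ c, c * z = z * c ∧ S.ρ c = a) : ∃ h, Lift S h := by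
  classical
  obtain ⟨c, hc, hct⟩ := hfull tauP tau_NS
  choose sec hsec hπ using S.π_surj
  have two : ∀ q ∈ Q, tauP (S.π q) = S.π q →
      ∃ e : ZMod 2, c * q * c⁻¹ = q * zp z e := by
    intro q hq hfix
    rcases S.π_eq hq (S.norm c hc q hq) (by rw [S.ρ_π c hc q hq, hct, hfix]) with e | e
    · exact ⟨0, by rw [e]; simp [zp]⟩
    · exact ⟨1, by rw [e]; simp [zp, S.le q hq]⟩
  choose ψ hψ using two
  let φ₀ : Vec → ZMod 2 := fun v => ψ (sec (projF v)) (hsec _) (by rw [hπ]; exact projF_fix v)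
  have hval : ∀ q (hq : q ∈ Q) v, S.π q = projF v → c * q * c⁻¹ = q * zp z (φ₀ v) := by
    intro q hq v hv
    have hs := hψ (sec (projF v)) (hsec _) (by rw [hπ]; exact projF_fix v)
    rcases S.π_eq (hsec (projF v)) hq (by rw [hπ, hv]) with e | e
    · rw [e]; exact hs
    · rw [e]
      calc c * (z * sec (projF v)) * c⁻¹ = c * z * c⁻¹ * (c * sec (projF v) * c⁻¹) := by group
        _ = _ := by rw [hs, hc, mul_inv_cancel_right]; show z * _ = z * _ * _; rw [mul_assoc]
  have hadd : ∀ u v, φ₀ (u + v) = φ₀ u + φ₀ v := by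
    intro u v
    have hu := hval _ (hsec _) u (hπ _)
    have hv := hval _ (hsec _) v (hπ _)
    have hm : sec (projF u) * sec (projF v) ∈ Q := mul_mem (hsec _) (hsec _)
    have hw := hval _ hm (u + v) (by rw [S.π_mul _ (hsec _) _ (hsec _), hπ, hπ, projF_add])
    have comm : ∀ a, zp z a * sec (projF v) = sec (projF v) * zp z a := fun a => by
      rcases zmod_two_cases a with e | e <;> rw [e] <;> simp [zp, S.le _ (hsec (projF v))]
    have e2 : c * (sec (projF u) * sec (projF v)) * c⁻¹ =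
        sec (projF u) * sec (projF v) * zp z (φ₀ u + φ₀ v) :=
      calc c * (sec (projF u) * sec (projF v)) * c⁻¹ =
            (c * sec (projF u) * c⁻¹) * (c * sec (projF v) * c⁻¹) := by group
        _ = sec (projF u) * (zp z (φ₀ u) * sec (projF v)) * zp z (φ₀ v) := by rw [hu, hv]; group
        _ = _ := by rw [comm, zp_add S.z_sq]; group
    exact zp_inj S.z_ne (mul_left_cancel (hw.symm.trans e2))
  obtain ⟨w, hw⟩ := riesz (AddMonoidHom.mk' φ₀ hadd)
  obtain ⟨q₀, hq₀, rfl⟩ := S.π_surj w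
  have hq₀z : q₀ * z = z * q₀ := S.le q₀ hq₀
  refine ⟨c * q₀, S.z_comm_mul hc hq₀z, ?_, fun q hq hfix => ?_⟩
  · rw [S.ρ_mul _ _ hc hq₀z, hct, (S.ρ_ker q₀ hq₀z).2 hq₀, mul_one]
  have h1 := hval q hq (S.π q) (projF_self hfix).symm
  have h2 := hw (S.π q)
  rw [AddMonoidHom.mk'_apply] at h2
  have h3 := S.comm q hq q₀ hq₀
  have hzc : ∀ a, c * zp z a = zp z a * c := fun a => by
    rcases zmod_two_cases a with e | e <;> rw [e] <;> simp [zp, hc]
  have hzq : ∀ a, zp z a * q₀ = q₀ * zp z a := fun a => by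
    rcases zmod_two_cases a with e | e <;> rw [e] <;> simp [zp, hq₀z]
  set p := pol (S.π q) (S.π q₀)
  calc c * q₀ * q = c * (q₀ * q) := mul_assoc _ _ _
    _ = c * (q * (q₀ * zp z p)) := by rw [h3, mul_assoc]
    _ = c * q * c⁻¹ * (c * (q₀ * zp z p)) := by group
    _ = c * q * c⁻¹ * (c * zp z p * q₀) := by rw [← hzq, ← mul_assoc c]
    _ = q * (zp z p * zp z p) * c * q₀ := by rw [h1, h2, hzc]; group
    _ = q * c * q₀ := by rw [← zp_add S.z_sq, (show ∀ t : ZMod 2, t + t = 0 by decide) p]; simp [zp]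
    _ = _ := mul_assoc _ _ _

variable {h : G} (L : Lift S h)
include L

/-- The square of the lift lies in the centre. -/
theorem lift_sq : h * h = 1 ∨ h * h = z := by
  obtain ⟨k, hk, hks⟩ := exists_smul_mem
  obtain ⟨c, hc, hck⟩ := S.ρ_surj k hk
  have hci := S.z_comm_inv hc
  have hh := S.z_comm_mul L.comm L.comm
  have hsq : h * h ∈ Q := (S.ρ_ker _ hh).1 (by rw [S.ρ_mul _ _ L.comm L.comm, L.map, tauP_sq])
  have hlin : Semi false tauP := tauP_mem.2
  have hkc : k * tauP = tauP * k := Equiv.ext fun v => by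
    rw [Equiv.Perm.mul_apply, Equiv.Perm.mul_apply, hks, hks, hlin.smul]; rfl
  have hcx := S.z_comm_mul (S.z_comm_mul hc L.comm) hci
  have hi := S.z_comm_inv L.comm
  set q := h⁻¹ * (c * h * c⁻¹) with hqd
  have hq : q ∈ Q := (S.ρ_ker _ (S.z_comm_mul hi hcx)).1 (by
    rw [S.ρ_mul _ _ hi hcx, S.ρ_mul _ _ (S.z_comm_mul hc L.comm) hci, S.ρ_mul _ _ hc L.comm,
      S.ρ_inv L.comm, S.ρ_inv hc, L.map, hck, hkc]
    group)
  obtain ⟨t, ht⟩ := line_of_comm S hq fun x hx hfix => by
    have h1 := L.flat x hx hfix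
    have hx' := S.norm _ hci x hx
    have hfix' : tauP (S.π (c⁻¹ * x * c⁻¹⁻¹)) = S.π (c⁻¹ * x * c⁻¹⁻¹) := by
      rw [S.ρ_π _ hci x hx, S.ρ_inv hc, hck]
      apply k.injective
      rw [← Equiv.Perm.mul_apply k tauP, hkc, Equiv.Perm.mul_apply,
        show k (k⁻¹ (S.π x)) = S.π x from k.apply_symm_apply _]
      exact hfix
    have h2 := L.flat _ hx' hfix'
    have h4 : c * h * c⁻¹ * x = x * (c * h * c⁻¹) :=
      calc c * h * c⁻¹ * x = c * (h * (c⁻¹ * x * c⁻¹⁻¹)) * c⁻¹ := by group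
        _ = _ := by rw [h2]; group
    calc q * x = h⁻¹ * (c * h * c⁻¹ * x) := by rw [hqd]; group
      _ = h⁻¹ * (x * h) * (h⁻¹ * (c * h * c⁻¹)) := by rw [h4]; group
      _ = x * q := by rw [← h1, hqd]; group
  have hqh : h⁻¹ * q * h⁻¹⁻¹ ∈ Q := S.norm _ hi q hq
  have hπ : S.π (c * (h * h) * c⁻¹) = S.π (h * h) := by
    have e : c * (h * h) * c⁻¹ = h * h * ((h⁻¹ * q * h⁻¹⁻¹) * q) := by rw [hqd]; group
    rw [e, S.π_mul _ hsq _ (mul_mem hqh hq), S.π_mul _ hqh _ hq, S.ρ_π _ hi q hq, S.ρ_inv L.comm,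
      L.map, inv_eq_of_mul_eq_one_right tauP_sq, ht, fix_d5, vv, add_zero]
  rw [S.ρ_π c hc _ hsq, hck, hks] at hπ
  refine (S.π_zero _ hsq).1 (funext fun i => ?_)
  have key : ∀ x : K4, ω₄ * x = x → x = 0 := by decide +kernel
  exact key _ (congrFun hπ i)

/-- No conjugate of the central involution is flat over the transvection. -/
theorem no_flat_conj {g : G} (t : Twin Q z g) (hx : S.ρ (g * z * g⁻¹) = tauP)
    (hfl : ∀ q ∈ Q, tauP (S.π q) = S.π q → q * (g * z * g⁻¹) = g * z * g⁻¹ * q) : False := by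
  classical
  have hxb : Twin.xb S g = tauP := hx
  have hF : Twin.Flat S g := fun q hq hf' => hfl q hq (hxb ▸ hf')
  have hI : Nat.card (Is Q g) ≤ 4 := by
    rw [← t.card_I0 S]
    have : ∀ v : ↥(Twin.I0 S g), ∃ c : K4, (v : Vec) = c • dV 5 := fun v => by
      have := t.flat_I0 S hF v.2
      rw [hxb] at this
      exact range_tau.1 this
    choose f hf' using this
    refine (Nat.card_le_card_of_injective f fun a b e => Subtype.ext (by rw [hf' a, hf' b, e])).trans ?_
    rw [Nat.card_eq_fintype_card]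
    decide +kernel
  have hlow : 64 ≤ Nat.card (Is Q g) * Nat.card (Twin.Es S g) := by
    rw [Twin.card_Es S g]
    exact (fix_ge (t.symm.xb_NS S) (t.symm.xb_sq S)).trans (t.symm.card_Xs_ge S)
  have h4 := Std.four_cosets (A := Twin.Es S g) fun _ he => Twin.Es_NS S he
  set x := g * z * g⁻¹ with hxd
  -- fourth powers
  have hpow : ∀ {e}, e ∈ Twin.Es S g → e * e * (e * e) = 1 := by
    intro e he
    obtain ⟨y, hy, rfl⟩ := (Twin.mem_Es S).1 he
    obtain ⟨hb, hyz⟩ := mem_Ys.1 hy
    have hyy := S.z_comm_mul hyz hyz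
    have e0 : y * y = g * zp z (wt (S.π (g⁻¹ * y * g))) * g⁻¹ := by rw [← S.sq _ hb]; group
    rw [← S.ρ_mul _ _ hyz hyz, ← S.ρ_mul _ _ hyy hyy]
    refine (S.ρ_ker _ (S.z_comm_mul hyy hyy)).2 ?_
    have e1 : y * y * (y * y) = 1 :=
      calc y * y * (y * y) = g * (zp z (wt (S.π (g⁻¹ * y * g))) * zp z (wt (S.π (g⁻¹ * y * g)))) * g⁻¹ := by
            rw [e0]; group
        _ = 1 := by rw [← zp_add S.z_sq, (show ∀ t : ZMod 2, t + t = 0 by decide)]; simp [zp]
    rw [e1]
    exact Q.one_mem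
  -- the linear part lies in the stabiliser of the root
  have hle : Twin.Es S g ⊓ Kl ≤ stabK (dV 5) := by
    rintro e ⟨he, heK⟩
    have hc := t.Es_comm S he
    rw [hxb] at hc
    have hl := semi_of_mem_Kl heK
    obtain ⟨l, hl'⟩ : ∃ l : K4, e (dV 5) = l • dV 5 := by
      refine range_tau.1 ⟨e (eb 0), ?_⟩
      rw [disp, ← Equiv.Perm.mul_apply, ← hc, Equiv.Perm.mul_apply, ← hl.add]
      congr 1
      show disp tauP (eb 0) = _
      rw [disp_tau, e0_d5, one_smul]
    refine ⟨heK, show e (dV 5) = dV 5 from ?_⟩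
    have e4 := congrArg (fun a : Equiv.Perm Vec => a (dV 5)) (hpow he)
    simp only [Equiv.Perm.mul_apply, Equiv.Perm.one_apply, hl', hl.smul] at e4
    simp only [tw, smul_smul] at e4
    have key : ∀ m : K4, m * (m * (m * m)) = 1 → m = 1 := by decide +kernel
    rw [hl', key l (smul_left_injective K4 d5_ne (e4.trans (one_smul K4 _).symm)), one_smul]
  -- liftable elements of the stabiliser
  let C2 := (Subgroup.centralizer ({z} : Set G) ⊓ Subgroup.centralizer ({x} : Set G)).subgroupOf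
    (Subgroup.centralizer ({z} : Set G))
  let Lf := (C2.map S.rhoHom).subgroupOf (stabK (dV 5))
  choose lf hlz hlρ using fun k : ↥(stabK (dV 5)) => S.ρ_surj k k.2.1
  have hxz : x * z = z * x := t.comm
  have hq : ∀ k, x⁻¹ * (lf k * x * (lf k)⁻¹) ∈ Q ∧
      ∃ s : K4, S.π (x⁻¹ * (lf k * x * (lf k)⁻¹)) = s • dV 5 := by
    intro k
    have hc := hlz k
    have hci := S.z_comm_inv hc
    have hcx := S.z_comm_mul (S.z_comm_mul hc hxz) hci
    have hkc : (k : Equiv.Perm Vec) * tauP = tauP * k := stab_comm_tau k.2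
    have hm : x⁻¹ * (lf k * x * (lf k)⁻¹) ∈ Q :=
      (S.ρ_ker _ (S.z_comm_mul (S.z_comm_inv hxz) hcx)).1 (by
        rw [S.ρ_mul _ _ (S.z_comm_inv hxz) hcx, S.ρ_mul _ _ (S.z_comm_mul hc hxz) hci,
          S.ρ_mul _ _ hc hxz, S.ρ_inv hxz, S.ρ_inv hc, hx, hlρ, hkc]
        group)
    refine ⟨hm, line_of_comm S hm fun q hq' hfix => ?_⟩
    have h1 := hfl q hq' hfix
    have hq'' := S.norm _ hci q hq'
    have hfix' : tauP (S.π ((lf k)⁻¹ * q * (lf k)⁻¹⁻¹)) = S.π ((lf k)⁻¹ * q * (lf k)⁻¹⁻¹) := by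
      rw [S.ρ_π _ hci q hq', S.ρ_inv hc, hlρ]
      apply (k : Equiv.Perm Vec).injective
      rw [← Equiv.Perm.mul_apply (k : Equiv.Perm Vec) tauP, hkc, Equiv.Perm.mul_apply,
        show (k : Equiv.Perm Vec) ((k : Equiv.Perm Vec)⁻¹ (S.π q)) = S.π q from
          (k : Equiv.Perm Vec).apply_symm_apply _]
      exact hfix
    have h2 := hfl _ hq'' hfix'
    have h4 : lf k * x * (lf k)⁻¹ * q = q * (lf k * x * (lf k)⁻¹) :=
      calc lf k * x * (lf k)⁻¹ * q = lf k * (x * ((lf k)⁻¹ * q * (lf k)⁻¹⁻¹)) * (lf k)⁻¹ := by group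
        _ = _ := by rw [← h2]; group
    calc x⁻¹ * (lf k * x * (lf k)⁻¹) * q = x⁻¹ * (lf k * x * (lf k)⁻¹ * q) := mul_assoc _ _ _
      _ = x⁻¹ * (q * x) * (x⁻¹ * (lf k * x * (lf k)⁻¹)) := by rw [h4]; group
      _ = _ := by rw [h1]; group
  let T := {q : G // q ∈ Q ∧ ∃ s : K4, S.π q = s • dV 5}
  have hT : Nat.card T ≤ 8 := by
    choose sc hsc using fun q : T => q.2.2
    choose sec hsec hπ using S.π_surj
    refine (Nat.card_le_card_of_injective
      (fun q : T => (sc q, decide ((q : G) = sec (sc q • dV 5)))) fun a b e => ?_).trans ?_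
    · simp only [Prod.mk.injEq, decide_eq_decide] at e
      obtain ⟨e1, e2⟩ := e
      refine Subtype.ext ?_
      rw [← e1] at e2
      rcases S.π_eq (hsec _) a.2.1 (by rw [hπ, hsc a]) with ea | ea
      · rw [ea, (e2.1 ea)]
      · rcases S.π_eq (hsec _) b.2.1 (by rw [hπ, hsc b, ← e1]) with eb' | eb'
        · exact absurd (e2.2 eb') fun e' => S.z_ne (mul_eq_right.1 (ea.symm.trans e'))
        · exact ea.trans eb'.symm
    · rw [Nat.card_prod, Nat.card_eq_fintype_card, Nat.card_eq_fintype_card]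
      decide +kernel
  have hidx : Lf.index ≤ 8 := by
    let f : ↥(stabK (dV 5)) → T := fun k => ⟨_, hq k⟩
    have hf' : ∀ a b, f a = f b → b⁻¹ * a ∈ Lf := by
      intro a b e
      have e' : lf a * x * (lf a)⁻¹ = lf b * x * (lf b)⁻¹ := mul_left_cancel (congrArg Subtype.val e)
      have hbz := S.z_comm_inv (hlz b)
      have hcz := S.z_comm_mul hbz (hlz a)
      show ((b⁻¹ * a : ↥(stabK (dV 5))) : Equiv.Perm Vec) ∈ C2.map S.rhoHom
      refine ⟨⟨(lf b)⁻¹ * lf a, Subgroup.mem_centralizer_singleton_iff.2 hcz⟩,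
        ⟨Subgroup.mem_centralizer_singleton_iff.2 hcz, Subgroup.mem_centralizer_singleton_iff.2 ?_⟩, ?_⟩
      · show (lf b)⁻¹ * lf a * x = x * ((lf b)⁻¹ * lf a)
        calc (lf b)⁻¹ * lf a * x = (lf b)⁻¹ * (lf a * x * (lf a)⁻¹) * lf a := by group
          _ = _ := by rw [e']; group
      · show S.ρ ((lf b)⁻¹ * lf a) = _
        rw [S.ρ_mul _ _ hbz (hlz a), S.ρ_inv (hlz b), hlρ, hlρ]
        rfl
    have hle := Nat.card_le_card_of_injective
      (fun k => (f k, (⟨(Function.invFun f (f k))⁻¹ * k,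
        hf' _ _ (Function.invFun_eq ⟨k, rfl⟩).symm⟩ : ↥Lf)))
      fun a b e => by
        have h1 : f a = f b := congrArg Prod.fst e
        have h2 := congrArg (fun x : T × ↥Lf => (x.2 : ↥(stabK (dV 5)))) e
        dsimp only at h2
        rw [h1] at h2
        exact mul_left_cancel h2
    rw [Nat.card_prod, ← Subgroup.card_mul_index Lf, mul_comm] at hle
    exact (Nat.le_of_mul_le_mul_right hle Nat.card_pos).trans hT
  haveI : IsSimpleGroup ↥(stabK (dV 5)) := isSimple_stab_two
  have htop := simple_small card_stab_two Lf hidx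
  let N := (Twin.Es S g ⊓ Kl).subgroupOf (stabK (dV 5))
  have hN : N.Normal := ⟨fun e he k => by
    obtain ⟨heE, heK⟩ := he
    refine ⟨?_, Kl.mul_mem (Kl.mul_mem k.2.1 heK) (Kl.inv_mem k.2.1)⟩
    have hk : k ∈ Lf := htop ▸ Subgroup.mem_top k
    obtain ⟨c, hc, hck⟩ := hk
    obtain ⟨hc1, hc2⟩ := hc
    replace hc1 := Subgroup.mem_centralizer_singleton_iff.1 hc1
    replace hc2 := Subgroup.mem_centralizer_singleton_iff.1 hc2
    obtain ⟨w, hw, hwe⟩ := (Twin.mem_Es S).1 heE
    obtain ⟨hw1, hw2⟩ := mem_Ys.1 hw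
    refine (Twin.mem_Es S).2 ⟨(c : G) * w * (c : G)⁻¹, mem_Ys.2 ⟨?_, ?_⟩, ?_⟩
    · have hd : g⁻¹ * (c : G) * g * z = z * (g⁻¹ * (c : G) * g) :=
        calc g⁻¹ * (c : G) * g * z = g⁻¹ * ((c : G) * x) * g := by rw [hxd]; group
          _ = _ := by
            rw [show (c : G) * x = x * (c : G) from hc2, hxd]; group
      have := S.norm _ hd _ hw1
      rwa [show g⁻¹ * (c : G) * g * (g⁻¹ * w * g) * (g⁻¹ * (c : G) * g)⁻¹ =
        g⁻¹ * ((c : G) * w * (c : G)⁻¹) * g by group] at this
    · exact S.z_comm_mul (S.z_comm_mul hc1 hw2) (S.z_comm_inv hc1)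
    · show S.ρ _ = (k : Equiv.Perm Vec) * (e : Equiv.Perm Vec) * (k : Equiv.Perm Vec)⁻¹
      erw [S.ρ_mul _ _ (S.z_comm_mul hc1 hw2) (S.z_comm_inv hc1), S.ρ_mul _ _ hc1 hw2, S.ρ_inv hc1, hwe,
        show S.ρ (c : G) = (k : Equiv.Perm Vec) from hck]
      rfl⟩
  have hNc : Nat.card N = Nat.card ↥(Twin.Es S g ⊓ Kl) :=
    Nat.card_congr (Subgroup.subgroupOfEquivOfLe hle).toEquiv
  rcases IsSimpleGroup.eq_bot_or_eq_top_of_normal N hN with e | e
  · rw [e, Subgroup.card_bot] at hNc
    have := Nat.mul_le_mul hI (h4.trans (Nat.mul_le_mul_left 4 hNc.ge))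
    omega
  · haveI : Fact (Nat.Prime 5) := ⟨Nat.prime_five⟩
    obtain ⟨a, ha⟩ := exists_prime_orderOf_dvd_card' (G := ↥(stabK (dV 5))) 5 (by
      rw [card_stab_two]; norm_num)
    have haN : a ∈ N := e ▸ Subgroup.mem_top a
    have ha4 : a ^ 4 = 1 := Subtype.ext (by
      rw [SubgroupClass.coe_pow, OneMemClass.coe_one, show (4 : ℕ) = 2 * 2 from rfl, pow_mul, pow_two,
        pow_two]
      exact hpow (haN.1))
    have := orderOf_dvd_of_pow_eq_one ha4
    rw [ha] at this
    norm_num at this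

omit L in
theorem half_line : ∃ f f' : Vec, tauP f = f ∧ tauP f' = f' ∧ pol f f' = 1 := by
  refine ⟨eb 2, ω₄ • eb 2, ?_, ?_, ?_⟩
  · rw [tau_fix]; decide +kernel
  · rw [tau_fix]; decide +kernel
  · rw [pol_eq]; decide +kernel

/-- A conjugate commuting with the central involution whose orbit under the preimage of the fixed
vectors is no larger than under the lift is the central involution. -/
theorem fixed_conj (hcls : ∀ g : G, g * z * g⁻¹ ∈ Q → g * z * g⁻¹ ≠ z → cls (S.π (g * z * g⁻¹)) = 3)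
    {g : G} (hc : g * z * g⁻¹ * z = z * (g * z * g⁻¹))
    (hor : ∀ x ∈ Q, tauP (S.π x) = S.π x → x * (g * z * g⁻¹) * x⁻¹ = g * z * g⁻¹ ∨
      x * (g * z * g⁻¹) * x⁻¹ = h * (g * z * g⁻¹) * h⁻¹) :
    g * z * g⁻¹ = z := by
  classical
  by_contra hne
  set y := g * z * g⁻¹ with hy
  have hyy : y * y = 1 := by
    calc y * y = g * (z * z) * g⁻¹ := by rw [hy]; group
      _ = 1 := by rw [S.z_sq]; group
  by_cases hyQ : y ∈ Q
  · obtain ⟨t, ht⟩ := line_of_comm S hyQ fun x hx hfix => by
      rcases hor x hx hfix with e | e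
      · exact (mul_inv_eq_iff_eq_mul.1 e).symm
      · have hzy : x * y * x⁻¹ = y ∨ x * y * x⁻¹ = z * y :=
          S.π_eq hyQ (mul_mem (mul_mem hx hyQ) (inv_mem hx))
            (by rw [S.π_mul _ (mul_mem hx hyQ) _ (inv_mem hx), S.π_mul _ hx _ hyQ, S.π_inv hx,
              add_comm (S.π x), add_assoc, vv, add_zero])
        rcases hzy with e' | e'
        · exact (mul_inv_eq_iff_eq_mul.1 e').symm
        · exfalso
          have h1 : h * y * h⁻¹ = z * y := e.symm.trans e'
          have h2 : tauP (S.π y) = S.π y := by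
            rw [← L.map, ← S.ρ_π h L.comm y hyQ, h1, S.π_zmul hyQ]
          rw [L.flat y hyQ h2, mul_inv_cancel_right] at h1
          exact S.z_ne (mul_eq_right.1 h1.symm)
    have h3 := hcls g hyQ hne
    rw [← hy, ht] at h3
    rcases eq_or_ne t 0 with rfl | h0
    · rw [zero_smul] at ht
      rcases (S.π_zero y hyQ).1 ht with e | e
      · refine S.z_ne ?_
        calc z = g⁻¹ * y * g := by rw [hy]; group
          _ = 1 := by rw [e]; group
      · exact hne e
    · rw [cls_smul_d5 h0] at h3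
      omega
  have hρn := S.ρ_NS y hc
  set yb := S.ρ y with hyb
  obtain ⟨θ, hθ⟩ := hρn.1
  have hyb2 : yb * yb = 1 := by rw [hyb, ← S.ρ_mul y y hc hc, hyy, S.ρ_one]
  -- the displacements of the fixed vectors take at most one non-zero value
  have hval : ∀ f f', tauP f = f → tauP f' = f' → disp yb f ≠ 0 → disp yb f' ≠ 0 →
      disp yb f = disp yb f' := by
    have hd : ∀ f, tauP f = f → disp yb f ≠ 0 → ∀ e : G, e = h * y * h⁻¹ * y⁻¹ → disp yb f = S.π e := by
      intro f hf' hnz e he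
      obtain ⟨x, hx, rfl⟩ := S.π_surj f
      have hm := S.norm y hc x⁻¹ (inv_mem hx)
      have hπ : S.π (x * y * x⁻¹ * y⁻¹) = disp yb (S.π x) := by
        rw [show x * y * x⁻¹ * y⁻¹ = x * (y * x⁻¹ * y⁻¹) by group, S.π_mul x hx _ hm,
          S.ρ_π y hc _ (inv_mem hx), S.π_inv hx, add_comm]
        rfl
      rcases hor x hx hf' with e' | e'
      · exfalso
        rw [e', mul_inv_cancel, S.π_one] at hπ
        exact hnz hπ.symm
      · rw [he, ← e', hπ]
    intro f f' hf1 hf2 h1 h2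
    rw [hd f hf1 h1 _ rfl, hd f' hf2 h2 _ rfl]
  have hsm : ∀ (c : K4) {f : Vec}, tauP f = f → tauP (c • f) = c • f := fun c f hf' => by
    rw [tau_fix] at hf' ⊢
    rw [herm_smul_left, hf', mul_zero]
  have hlin : θ = false := by
    cases θ
    · rfl
    exfalso
    have hker : ∀ f, disp yb f = 0 → disp yb (ω₄ • f) = 0 → f = 0 := by
      intro f h1 h2
      rw [disp, hθ.smul, disp_eq.1 h1] at h2
      funext i
      have key : ∀ a : K4, tw true ω₄ * a + ω₄ * a = 0 → a = 0 := by decide +kernel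
      exact key _ (congrFun h2 i)
    have hcard : Nat.card (fixA (a := tauP) tau_NS) ≤ 4 := by
      refine (Nat.card_le_card_of_injective
        (fun f : ↥(fixA (a := tauP) tau_NS) => (decide (disp yb f = 0), decide (disp yb (ω₄ • (f : Vec)) = 0)))
        fun u v e => Subtype.ext ?_).trans ?_
      · simp only [Prod.mk.injEq, decide_eq_decide] at e
        have hh : ∀ a b : Vec, tauP a = a → tauP b = b → (disp yb a = 0 ↔ disp yb b = 0) →
            disp yb (a + b) = 0 := by
          intro a b ha hb hiff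
          show dispH hρn (a + b) = 0
          rw [map_add]
          show disp yb a + disp yb b = 0
          by_cases h0 : disp yb a = 0
          · rw [h0, hiff.1 h0, add_zero]
          · rw [hval a b ha hb h0 (fun e => h0 (hiff.2 e)), vv]
        have h0 := hker ((u : Vec) + v) (hh _ _ u.2 v.2 e.1) (by
          rw [smul_add]; exact hh _ _ (hsm _ u.2) (hsm _ v.2) e.2)
        calc (u : Vec) = (u : Vec) + v + v := by rw [add_assoc, vv, add_zero]
          _ = v := by rw [h0, zero_add]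
      · rw [Nat.card_eq_fintype_card]; decide
    have hU : Nat.card (Set.range (disp tauP)) ≤ 4 := by
      choose f hf' using fun v : Set.range (disp tauP) => range_tau.1 v.2
      refine (Nat.card_le_card_of_injective f fun a b e => Subtype.ext (by rw [hf' a, hf' b, e])).trans ?_
      rw [Nat.card_eq_fintype_card]
      decide +kernel
    have := card_fix_range (a := tauP) tau_NS
    have := Nat.mul_le_mul hcard hU
    omega
  subst hlin
  have hfix : ∀ f, tauP f = f → yb f = f := by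
    intro f hf'
    refine disp_eq.1 ?_
    by_contra hnz
    have h2 : disp yb (ω₄ • f) = ω₄ • disp yb f := by
      rw [disp, disp, hθ.smul, smul_add]; rfl
    have := hval f (ω₄ • f) hf' (hsm _ hf') hnz (by rw [h2]; exact smul_ne_zero (by decide) hnz)
    rw [h2] at this
    refine hnz (funext fun i => ?_)
    have key : ∀ x : K4, x = ω₄ * x → x = 0 := by decide +kernel
    exact key _ (congrFun this i)
  rcases eq_one_or_tau ⟨hρn, hθ⟩ hfix with e | e
  · exact hyQ ((S.ρ_ker y hc).1 e)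
  have hhi := S.z_comm_inv L.comm
  have hq1 : h⁻¹ * y ∈ Q := (S.ρ_ker _ (S.z_comm_mul hhi hc)).1 (by
    rw [S.ρ_mul _ _ hhi hc, S.ρ_inv L.comm, L.map, ← hyb, e, inv_mul_cancel])
  -- it centralises the preimage of the fixed vectors
  have hflat : ∀ x ∈ Q, tauP (S.π x) = S.π x → x * y = y * x := by
    intro x hx hf'
    rcases hor x hx hf' with e1 | e1
    · exact mul_inv_eq_iff_eq_mul.1 e1
    have hm := S.norm y hc x⁻¹ (inv_mem hx)
    have hπ : S.π (x * (y * x⁻¹ * y⁻¹)) = 0 := by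
      rw [S.π_mul x hx _ hm, S.ρ_π y hc _ (inv_mem hx), S.π_inv hx, ← hyb, e, hf', vv]
    rcases (S.π_zero _ (mul_mem hx hm)).1 hπ with e2 | e2
    · calc x * y = x * (y * x⁻¹ * y⁻¹) * y * x := by group
        _ = y * x := by rw [e2, one_mul]
    · exfalso
      have e3 : h * y * h⁻¹ = z * y := by
        rw [← e1]
        calc x * y * x⁻¹ = x * (y * x⁻¹ * y⁻¹) * y := by group
          _ = z * y := by rw [e2]
      have e4 : h * (h⁻¹ * y) * h⁻¹ = z * (h⁻¹ * y) :=
        calc h * (h⁻¹ * y) * h⁻¹ = h⁻¹ * (h * y * h⁻¹) := by group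
          _ = h⁻¹ * z * y := by rw [e3, mul_assoc]
          _ = z * (h⁻¹ * y) := by rw [hhi, mul_assoc]
      have h2 : tauP (S.π (h⁻¹ * y)) = S.π (h⁻¹ * y) := by
        rw [← L.map, ← S.ρ_π h L.comm _ hq1, e4, S.π_zmul hq1]
      rw [L.flat _ hq1 h2, mul_inv_cancel_right] at e4
      exact S.z_ne (mul_eq_right.1 e4.symm)
  have t : Twin Q z g := ⟨hc, hyQ, fun hm => hyQ (S.symm_pair hm)⟩
  exact no_flat_conj S L t (by rw [← hy]; exact e) hflat

omit L in
/-- The subgroup of index two avoiding the transvection. -/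
theorem exists_sign : ∃ N : Subgroup ↥NS, N.index = 2 ∧ (∀ a : ↥NS, (a : Equiv.Perm Vec) ∈ Kl → a ∈ N) ∧
    (⟨tauP, tau_NS⟩ : ↥NS) ∉ N := by
  classical
  have hconj : ∀ {a k : Equiv.Perm Vec}, a ∈ NS → k ∈ Kl → a * k * a⁻¹ ∈ Kl := fun ha hk => Kl_conj ha hk
  have hinv : frP⁻¹ = frP := inv_eq_of_mul_eq_one_right frP_sq
  have hsemi : ∀ {a : Equiv.Perm Vec}, Semi true a → a ∉ Kl := fun {a} ha hk => by
    have key : ∀ x : K4, tw false ω₄ * x = tw true ω₄ * x → x = 0 := by decide +kernel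
    have h0 : a (eb 0) = 0 := funext fun i => key _
      ((congrFun ((semi_of_mem_Kl hk).smul ω₄ (eb 0)) i).symm.trans (congrFun (ha.smul ω₄ (eb 0)) i))
    have e := congrFun (a.injective (h0.trans ha.map_zero.symm)) 0
    rw [eb, Pi.single_eq_same] at e
    exact one_ne_zero e
  let N : Subgroup ↥NS :=
    { carrier := {a | (a : Equiv.Perm Vec) ∈ Kl ∨ (a : Equiv.Perm Vec) * frP ∈ Kl}
      one_mem' := Or.inl Kl.one_mem
      mul_mem' := by
        rintro a b (ha | ha) (hb | hb)
        · exact Or.inl (mul_mem ha hb)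
        · exact Or.inr (by rw [Subgroup.coe_mul, mul_assoc]; exact mul_mem ha hb)
        · refine Or.inr ?_
          have := mul_mem ha (hconj frP_mem hb)
          rwa [show (a : Equiv.Perm Vec) * frP * (frP * b * frP⁻¹) = ↑a * (frP * frP) * ↑b * frP⁻¹ by group,
            frP_sq, mul_one, hinv, ← Subgroup.coe_mul] at this
        · refine Or.inl ?_
          have := mul_mem ha (hconj frP_mem hb)
          rwa [show (a : Equiv.Perm Vec) * frP * (frP * (↑b * frP) * frP⁻¹) = ↑a * (frP * frP) * ↑b by group,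
            frP_sq, mul_one, ← Subgroup.coe_mul] at this
      inv_mem' := by
        rintro a (ha | ha)
        · exact Or.inl (Kl.inv_mem ha)
        · refine Or.inr ?_
          have := hconj frP_mem (Kl.inv_mem ha)
          rwa [show frP * ((a : Equiv.Perm Vec) * frP)⁻¹ * frP⁻¹ = (frP * frP⁻¹) * (↑a)⁻¹ * frP⁻¹ by group,
            mul_inv_cancel, one_mul, hinv] at this }
  have htN : (⟨tauP, tau_NS⟩ : ↥NS) ∉ N := by
    rintro (h1 | h1)
    · exact tauP_notMem h1
    · exact hsemi (a := tauP * frP) (tauP_mem.2.comp semi_frP) h1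
  refine ⟨N, Subgroup.index_eq_two_iff.2 ⟨⟨tauP, tau_NS⟩, fun b => ?_⟩, fun _ ha => Or.inl ha, htN⟩
  have himp : b * ⟨tauP, tau_NS⟩ ∈ N → b ∈ N → False := fun h1 h2 => htN (by
    have := mul_mem (inv_mem h2) h1
    rwa [inv_mul_cancel_left] at this)
  have hor : b * ⟨tauP, tau_NS⟩ ∈ N ∨ b ∈ N := by
    rcases coset b.2 with h1 | h1 | h1 | h1
    · exact Or.inr (Or.inl h1)
    · exact Or.inl (Or.inl h1)
    · exact Or.inr (Or.inr h1)
    · refine Or.inl (Or.inr ?_)
      show (b : Equiv.Perm Vec) * tauP * frP ∈ Kl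
      rwa [mul_assoc, tauP_frP]
  rcases hor with h1 | h1
  · exact Or.inl ⟨h1, fun h2 => himp h1 h2⟩
  · exact Or.inr ⟨h1, fun h2 => himp h2 h1⟩

omit L in
/-- If the centraliser induces all semilinear maps there is a subgroup of index two not containing it. -/
theorem exists_index_two (hfull : ∀ a ∈ NS, ∃ c, c * z = z * c ∧ S.ρ c = a)
    (hcls : ∀ g : G, g * z * g⁻¹ ∈ Q → g * z * g⁻¹ ≠ z → cls (S.π (g * z * g⁻¹)) = 3) :
    ∃ G₀ : Subgroup G, G₀.index = 2 ∧ ¬ Subgroup.centralizer ({z} : Set G) ≤ G₀ := by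
  classical
  obtain ⟨h, L⟩ := exists_lift S hfull
  obtain ⟨N, hN2, hNK, hNt⟩ := exists_sign S
  let H := Subgroup.centralizer ({z} : Set G)
  let rN : ↥H →* ↥NS := S.rhoHom.codRestrict NS fun c =>
    S.ρ_NS c (Subgroup.mem_centralizer_singleton_iff.1 c.2)
  let sgn : ↥NS →* Multiplicative (ZMod 2) := MonoidHom.mk'
    (fun a => if a ∈ N then 1 else Multiplicative.ofAdd 1) fun a b => by
      by_cases ha : a ∈ N <;> by_cases hb : b ∈ N <;>
        simp [Subgroup.mul_mem_iff_of_index_two hN2, ha, hb] <;> decide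
  let χ : ↥H →* Multiplicative (ZMod 2) := sgn.comp rN
  have χQ : ∀ (q : G) (hq : q ∈ Q) (hm : q ∈ H), χ ⟨q, hm⟩ = 1 := fun q hq hm => by
    show (if rN ⟨q, hm⟩ ∈ N then (1 : Multiplicative (ZMod 2)) else _) = 1
    rw [if_pos (hNK _ (by
      show S.ρ q ∈ Kl
      rw [(S.ρ_ker q (S.le q hq)).2 hq]
      exact Kl.one_mem))]
  have hhH : h ∈ H := Subgroup.mem_centralizer_singleton_iff.2 L.comm
  have χh : χ ⟨h, hhH⟩ = Multiplicative.ofAdd 1 := by
    show (if rN ⟨h, hhH⟩ ∈ N then (1 : Multiplicative (ZMod 2)) else _) = _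
    rw [if_neg]
    intro hm
    refine hNt ?_
    have : rN ⟨h, hhH⟩ = ⟨tauP, tau_NS⟩ := Subtype.ext L.map
    rwa [this] at hm
  refine ⟨(MonoidHom.transfer χ).ker, ?_⟩
  suffices hV : MonoidHom.transfer χ h = Multiplicative.ofAdd 1 by
    refine ⟨?_, fun hle => ?_⟩
    · rw [Subgroup.index_ker]
      have hsurj : Function.Surjective (MonoidHom.transfer χ) := fun a => by
        have : a = 1 ∨ a = Multiplicative.ofAdd 1 := by revert a; decide
        rcases this with rfl | rfl
        · exact ⟨1, map_one _⟩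
        · exact ⟨h, hV⟩
      rw [MonoidHom.range_eq_top.2 hsurj, Nat.card_congr Subgroup.topEquiv.toEquiv,
        Nat.card_congr Multiplicative.toAdd, Nat.card_zmod]
    · have := MonoidHom.mem_ker.1 (hle hhH)
      rw [hV] at this
      exact absurd this (by decide)
  -- the terms of the transfer
  let F : G ⧸ H → Multiplicative (ZMod 2) := fun y => χ ⟨y.out⁻¹ * h ^ Function.minimalPeriod (h • ·) y * y.out,
    QuotientGroup.out_conj_pow_minimalPeriod_mem H h y⟩
  have hFw : ∀ w : G, Commute w h → ∀ y, F (w • y) = F y := by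
    intro w hw y
    have hm : Function.minimalPeriod (h • ·) (w • y) = Function.minimalPeriod (h • ·) y := by
      refine Function.minimalPeriod_eq_minimalPeriod_iff.2 fun n => ?_
      simp only [Function.IsPeriodicPt, Function.IsFixedPt, smul_iterate]
      rw [← mul_smul, ← (hw.pow_right n).eq, mul_smul, smul_left_cancel_iff]
    have hk : ((w * y.out)⁻¹ * (w • y).out) ∈ H := by
      rw [← QuotientGroup.eq, QuotientGroup.out_eq', ← smul_eq_mul, MulAction.Quotient.mk_smul_out]
    show χ _ = χ _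
    have e : (w • y).out = w * y.out * ((w * y.out)⁻¹ * (w • y).out) := by group
    have hmem := QuotientGroup.out_conj_pow_minimalPeriod_mem H h y
    set k : ↥H := ⟨_, hk⟩
    calc χ _ = χ (k⁻¹ * ⟨_, hmem⟩ * k) := by
          congr 1
          refine Subtype.ext ?_
          show (w • y).out⁻¹ * h ^ _ * (w • y).out = (k : G)⁻¹ * _ * (k : G)
          rw [hm]
          conv_lhs => rw [e]
          show _ = ((w * y.out)⁻¹ * (w • y).out)⁻¹ *
            (y.out⁻¹ * h ^ Function.minimalPeriod (h • ·) y * y.out) * ((w * y.out)⁻¹ * (w • y).out)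
          have e2 : h ^ Function.minimalPeriod (h • ·) y * w = w * h ^ Function.minimalPeriod (h • ·) y :=
            (hw.pow_right _).eq.symm
          generalize hh' : h ^ Function.minimalPeriod (h • ·) y = p at e2 ⊢
          generalize (w * y.out)⁻¹ * (w • y).out = m
          calc (w * y.out * m)⁻¹ * p * (w * y.out * m) = m⁻¹ * y.out⁻¹ * w⁻¹ * (p * w) * y.out * m := by group
            _ = _ := by rw [e2]; group
      _ = _ := by rw [map_mul, map_mul, map_inv, mul_comm, mul_inv_cancel_left]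
  -- the preimage of the fixed vectors acts on the orbits of the lift
  let X : Subgroup G :=
    { carrier := {x | x ∈ Q ∧ tauP (S.π x) = S.π x}
      one_mem' := ⟨Q.one_mem, by rw [S.π_one]; exact (fixA tau_NS).zero_mem⟩
      mul_mem' := fun {a b} ha hb => ⟨mul_mem ha.1 hb.1, by
        rw [S.π_mul a ha.1 b hb.1]; exact (fixA tau_NS).add_mem ha.2 hb.2⟩
      inv_mem' := fun {a} ha => ⟨inv_mem ha.1, by rw [S.π_inv ha.1]; exact ha.2⟩ }
  have hXh : ∀ x : ↥X, Commute (x : G) h := fun x => (L.flat x x.2.1 x.2.2).symm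
  let Ω := Quotient (MulAction.orbitRel (Subgroup.zpowers h) (G ⧸ H))
  letI : Fintype Ω := Fintype.ofFinite _
  letI : MulAction ↥X Ω :=
    { smul := fun x => Quotient.map' (fun y => (x : G) • y) (by
        rintro a b hab
        obtain ⟨⟨k, hk⟩, rfl⟩ := hab
        refine ⟨⟨k, hk⟩, ?_⟩
        obtain ⟨n, rfl⟩ := Subgroup.mem_zpowers_iff.1 hk
        show h ^ n • (x : G) • b = (x : G) • h ^ n • b
        rw [← mul_smul, ← mul_smul, ((hXh x).zpow_right n).eq])
      one_smul := fun q => Quotient.inductionOn' q fun y => congrArg Quotient.mk'' (one_smul G y)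
      mul_smul := fun a b q => Quotient.inductionOn' q fun y =>
        congrArg Quotient.mk'' (mul_smul (a : G) (b : G) y) }
  have hFO : ∀ (a : Ω) (y : G ⧸ H), Quotient.mk'' y = a → F y = F a.out := by
    intro a y e
    obtain ⟨⟨k, hk⟩, hky⟩ : y ∈ MulAction.orbit (Subgroup.zpowers h) a.out :=
      MulAction.orbitRel_apply.1 (Quotient.exact' (e.trans (Quotient.out_eq' a).symm))
    obtain ⟨n, rfl⟩ := Subgroup.mem_zpowers_iff.1 hk
    rw [← hky]
    exact hFw _ ((Commute.refl h).zpow_left n) _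
  have hinv : ∀ (x : ↥X) (a : Ω), F (x • a).out = F a.out := by
    intro x a
    rw [← hFO (x • a) ((x : G) • a.out) (by
      conv_rhs => rw [← Quotient.out_eq' a]
      rfl), hFw _ (hXh x)]
  have hXp : IsPGroup 2 ↥X :=
    (IsPGroup.of_card S.card_Q).to_le fun _ hx => hx.1
  have hone : Function.minimalPeriod (h • ·) (((1 : G) : G ⧸ H)) = 1 :=
    Function.minimalPeriod_eq_one_iff_isFixedPt.2 (by
      show h • ((1 : G) : G ⧸ H) = ((1 : G) : G ⧸ H)
      rw [MulAction.Quotient.smul_coe, QuotientGroup.eq]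
      simpa using hhH)
  have hF1 : F ((1 : G) : G ⧸ H) = Multiplicative.ofAdd 1 := by
    have hk : (((1 : G) : G ⧸ H)).out ∈ H := by
      have := QuotientGroup.out_eq' (((1 : G) : G ⧸ H))
      rw [eq_comm, QuotientGroup.eq, inv_one, one_mul] at this
      exact this
    rw [← χh]
    set k : ↥H := ⟨_, hk⟩
    calc F _ = χ (k⁻¹ * ⟨h, hhH⟩ * k) := by
          show χ _ = _
          congr 1
          refine Subtype.ext ?_
          show _ * h ^ _ * _ = (k : G)⁻¹ * h * (k : G)
          rw [hone, pow_one]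
      _ = _ := by rw [map_mul, map_mul, map_inv, mul_comm, mul_inv_cancel_left]
  have hfixed : ∀ a : Ω, (∀ x : ↥X, x • a = a) → a = Quotient.mk'' ((1 : G) : G ⧸ H) := by
    intro a ha
    set k := a.out.out with hkd
    have hk : ((k : G ⧸ H)) = a.out := QuotientGroup.out_eq' _
    have hor : ∀ x : ↥X, ∃ n : ℤ, (((x : G) * k : G) : G ⧸ H) = ((h ^ n * k : G) : G ⧸ H) := by
      intro x
      obtain ⟨⟨p, hp⟩, hpe⟩ : (x : G) • a.out ∈ MulAction.orbit (Subgroup.zpowers h) a.out := by
        refine MulAction.orbitRel_apply.1 (Quotient.exact' (Eq.trans ?_ (Quotient.out_eq' a).symm))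
        refine Eq.trans ?_ (ha x)
        conv_rhs => rw [← Quotient.out_eq' a]
        rfl
      obtain ⟨n, rfl⟩ := Subgroup.mem_zpowers_iff.1 hp
      refine ⟨n, ?_⟩
      rw [← hk] at hpe
      exact hpe.symm
    have hconj : ∀ p q : G, ((p : G) : G ⧸ H) = (q : G ⧸ H) → p * z * p⁻¹ = q * z * q⁻¹ := by
      intro p q e
      have := Subgroup.mem_centralizer_singleton_iff.1 (QuotientGroup.eq.1 e)
      calc p * z * p⁻¹ = p * (z * (p⁻¹ * q)) * q⁻¹ := by group
        _ = p * (p⁻¹ * q * z) * q⁻¹ := by rw [this]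
        _ = _ := by group
    obtain ⟨f, f', hf1, hf2, hff⟩ := half_line (S := S)
    obtain ⟨p, hp, rfl⟩ := S.π_surj f
    obtain ⟨q, hq, rfl⟩ := S.π_surj f'
    have hz0 : k⁻¹ * z * k ∈ H := by
      obtain ⟨m, hm⟩ := hor ⟨p, hp, hf1⟩
      obtain ⟨n, hn⟩ := hor ⟨q, hq, hf2⟩
      have e1 : p • (k : G ⧸ H) = h ^ m • (k : G ⧸ H) := hm
      have e2 : q • (k : G ⧸ H) = h ^ n • (k : G ⧸ H) := hn
      have cp : Commute p h := hXh ⟨p, hp, hf1⟩
      have cq : Commute q h := hXh ⟨q, hq, hf2⟩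
      have e3 : (q * p) • (k : G ⧸ H) = (p * q) • (k : G ⧸ H) := by
        rw [mul_smul, mul_smul, e1, e2, ← mul_smul, ← mul_smul, (cq.zpow_right m).eq,
          (cp.zpow_right n).eq, mul_smul, mul_smul, e1, e2, ← mul_smul, ← mul_smul,
          ((Commute.refl h).zpow_zpow m n).eq]
      have e4 := S.comm p hp q hq
      rw [hff] at e4
      simp only [zp, one_ne_zero, if_false] at e4
      rw [e4, mul_smul (p * q) z, smul_left_cancel_iff, MulAction.Quotient.smul_coe,
        QuotientGroup.eq] at e3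
      have := inv_mem e3
      simpa [mul_assoc, inv_eq_of_mul_eq_one_right S.z_sq] using this
    have hcz := Subgroup.mem_centralizer_singleton_iff.1 hz0
    have hcomm : k * z * k⁻¹ * z = z * (k * z * k⁻¹) :=
      calc k * z * k⁻¹ * z = k * (z * (k⁻¹ * z * k)) * k⁻¹ := by group
        _ = k * (k⁻¹ * z * k * z) * k⁻¹ := by rw [hcz]
        _ = _ := by group
    have hy := fixed_conj S L hcls hcomm fun x hx hfix => by
      obtain ⟨n, hn⟩ := hor ⟨x, hx, hfix⟩
      have e : x * (k * z * k⁻¹) * x⁻¹ = h ^ n * (k * z * k⁻¹) * (h ^ n)⁻¹ :=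
        calc x * (k * z * k⁻¹) * x⁻¹ = x * k * z * (x * k)⁻¹ := by group
          _ = h ^ n * k * z * (h ^ n * k)⁻¹ := hconj _ _ hn
          _ = _ := by group
      have hc2 : Commute (h * h) (k * z * k⁻¹) := by
        rcases lift_sq S L with e2 | e2 <;> rw [e2]
        · exact Commute.one_left _
        · exact hcomm.symm
      rcases Int.even_or_odd' n with ⟨j, rfl | rfl⟩
      · left
        rw [e, _root_.zpow_mul, zpow_two, (hc2.zpow_left j).eq, mul_inv_cancel_right]
      · right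
        rw [e, _root_.zpow_add, zpow_one, _root_.zpow_mul, zpow_two, ← ((Commute.refl h).mul_right (Commute.refl h)
          |>.zpow_right j).eq]
        calc h * (h * h) ^ j * (k * z * k⁻¹) * (h * (h * h) ^ j)⁻¹ =
              h * ((h * h) ^ j * (k * z * k⁻¹) * ((h * h) ^ j)⁻¹) * h⁻¹ := by group
          _ = _ := by rw [(hc2.zpow_left j).eq, mul_inv_cancel_right]
    have hkH : k ∈ H := Subgroup.mem_centralizer_singleton_iff.2 (mul_inv_eq_iff_eq_mul.1 hy)
    rw [← Quotient.out_eq' a, ← hk]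
    congr 1
    rw [QuotientGroup.eq, mul_one]
    exact inv_mem hkH
  -- parity
  rw [MonoidHom.transfer_eq_prod_quotient_orbitRel_zpowers_quot]
  show ∏ a : Ω, F a.out = _
  let A : Finset Ω := Finset.univ.filter fun a => F a.out ≠ 1
  have hA : ∀ (x : ↥X) (a : Ω), a ∈ A → x • a ∈ A := fun x a ha => by
    simp only [A, Finset.mem_filter, Finset.mem_univ, true_and] at ha ⊢
    rwa [hinv]
  letI : MulAction ↥X {a // a ∈ A} :=
    { smul := fun x a => ⟨x • a.1, hA x a.1 a.2⟩
      one_smul := fun a => Subtype.ext (one_smul _ a.1)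
      mul_smul := fun x y a => Subtype.ext (mul_smul x y a.1) }
  set o : Ω := Quotient.mk'' ((1 : G) : G ⧸ H) with ho
  have hoA : o ∈ A := by
    simp only [A, Finset.mem_filter, Finset.mem_univ, true_and]
    rw [← hFO o ((1 : G) : G ⧸ H) rfl, hF1]
    decide
  have hofix : ∀ x : ↥X, x • o = o := fun x => by
    show Quotient.mk'' ((x : G) • ((1 : G) : G ⧸ H)) = Quotient.mk'' _
    congr 1
    rw [MulAction.Quotient.smul_coe, QuotientGroup.eq]
    simpa using Subgroup.mem_centralizer_singleton_iff.2 (S.le x x.2.1)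
  have hmod := hXp.card_modEq_card_fixedPoints {a // a ∈ A}
  have h1 : Nat.card (MulAction.fixedPoints ↥X {a // a ∈ A}) = 1 := by
    rw [Nat.card_eq_one_iff_unique]
    exact ⟨⟨fun u v => Subtype.ext (Subtype.ext (by
        rw [hfixed u.1.1 fun x => congrArg Subtype.val (u.2 x),
          hfixed v.1.1 fun x => congrArg Subtype.val (v.2 x)]))⟩,
      ⟨⟨⟨o, hoA⟩, fun x => Subtype.ext (hofix x)⟩⟩⟩
  rw [h1, Nat.card_eq_fintype_card, Fintype.card_coe] at hmod
  have hs : ∀ a ∈ A, F a.out = Multiplicative.ofAdd 1 := fun a ha => by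
    simp only [A, Finset.mem_filter, Finset.mem_univ, true_and] at ha
    have key : ∀ b : Multiplicative (ZMod 2), b ≠ 1 → b = Multiplicative.ofAdd 1 := by decide
    exact key _ ha
  have hprod : ∏ a ∈ A, F a.out = ∏ a : Ω, F a.out :=
    Finset.prod_filter_of_ne fun _ _ h => h
  rw [← hprod, Finset.prod_congr rfl hs, Finset.prod_const,
    ← ofAdd_nsmul, nsmul_one, (ZMod.natCast_eq_natCast_iff _ 1 2).2 hmod, Nat.cast_one]

end Cfsg.Agent.H92.Fi24Std
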