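import Cfsg.Agent.H92.Fi24Std.Std
import Cfsg.Agent.H92.Fi24Std.Radical

/-!
A conjugate of the central involution commuting with it outside the core, the involution outside the
conjugate of the core: the intersection of the two cores and the image of the side of the conjugate.
-/

set_option autoImplicit false
set_option linter.unusedSectionVars false
set_option maxRecDepth 20000

namespace Cfsg.Agent.H92.Fi24Std

open Cfsg Cfsg.Agent.Compute Cfsg.Agent.Unitary Cfsg.Agent.H41.SUSix Cfsg.Agent.H41.LFi Matrix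

open Cfsg.Agent.H92.ExtraForm (zp zp_inj zp_add)

local notation "hf" => hermForm 6 K4 2

attribute [local irreducible] clsC mapsC sift invPerm H95.UFourThree.u43Chain

/-! ### An involution preserving the classes -/

theorem pol_NS {a : Equiv.Perm Vec} (ha : a ∈ NS) (u v : Vec) : pol (a u) (a v) = pol u v := by
  obtain ⟨θ, hθ⟩ := ha.1
  rw [pol, pol, ← hθ.add, wt_NS ha, wt_NS ha, wt_NS ha]

/-- The fixed vectors. -/
def fixA {a : Equiv.Perm Vec} (ha : a ∈ NS) : AddSubgroup Vec where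
  carrier := {v | a v = v}
  zero_mem' := by obtain ⟨θ, hθ⟩ := ha.1; exact hθ.map_zero
  add_mem' := fun {u v} hu hv => by
    obtain ⟨θ, hθ⟩ := ha.1
    show a (u + v) = u + v
    rw [hθ.add, show a u = u from hu, show a v = v from hv]
  neg_mem' := fun {u} hu => by
    show a (-u) = -u
    rw [neg_eq_of_add_eq_zero_left (vv u)]
    exact hu

/-- The displacement as an additive map. -/
def dispH {a : Equiv.Perm Vec} (ha : a ∈ NS) : Vec →+ Vec :=
  AddMonoidHom.mk' (disp a) fun u v => by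
    obtain ⟨θ, hθ⟩ := ha.1
    simp only [disp, hθ.add]
    abel

theorem dispH_ker {a : Equiv.Perm Vec} (ha : a ∈ NS) : (dispH ha).ker = fixA ha := by
  ext v
  exact disp_eq

theorem card_fix_range {a : Equiv.Perm Vec} (ha : a ∈ NS) :
    Nat.card (fixA ha) * Nat.card (Set.range (disp a)) = 4096 := by
  have h := AddSubgroup.card_mul_index (dispH ha).ker
  rw [AddSubgroup.index_ker, dispH_ker, card_vec] at h
  exact h

section Involution

variable {a : Equiv.Perm Vec} (ha : a ∈ NS) (h2 : a * a = 1)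
include ha h2

theorem inv2_apply (v : Vec) : a (a v) = v := by
  rw [← Equiv.Perm.mul_apply, h2, Equiv.Perm.one_apply]

theorem disp_fixed (v : Vec) : a (disp a v) = disp a v := by
  obtain ⟨θ, hθ⟩ := ha.1
  rw [disp, hθ.add, inv2_apply ha h2, add_comm]

theorem range_le_fix : Set.range (disp a) ⊆ (fixA ha : Set Vec) := by
  rintro _ ⟨v, rfl⟩
  exact disp_fixed ha h2 v

theorem range_le_card : Nat.card (Set.range (disp a)) ≤ Nat.card (fixA ha) :=
  Nat.card_mono (Set.toFinite _) (range_le_fix ha h2)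

theorem fix_ge : 64 ≤ Nat.card (fixA ha) := by
  by_contra hcon
  push Not at hcon
  have h := card_fix_range ha
  have := Nat.mul_le_mul (Nat.le_sub_one_of_lt hcon)
    ((range_le_card ha h2).trans (Nat.le_sub_one_of_lt hcon))
  omega

theorem pol_disp (u v : Vec) : pol (disp a u) v = pol u (disp a v) := by
  rw [disp, disp, pol_add_left, pol_add_right]
  congr 1
  conv_lhs => rw [← pol_NS ha, inv2_apply ha h2]

theorem fix_of_pol {f : Vec} (h : ∀ y, pol f (disp a y) = 0) : a f = f := by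
  refine disp_eq.1 ?_
  by_contra hne
  obtain ⟨v, hv⟩ := pol_nondeg hne
  rw [pol_disp ha h2, h] at hv
  exact zero_ne_one hv

theorem pol_of_fix {f : Vec} (h : a f = f) (y : Vec) : pol f (disp a y) = 0 := by
  rw [← pol_disp ha h2, disp_eq.2 h]
  simp [pol, H41.LFi.wt_zero]
  exact (show ∀ t : ZMod 2, t + t = 0 by decide) _

/-- What is orthogonal to the fixed vectors is a displacement. -/
theorem range_of_pol {u : Vec} (h : ∀ f, a f = f → pol u f = 0) : u ∈ Set.range (disp a) := by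
  have hle : (dispH ha).range ≤ H92.F2Forms.perp polHom (fixA ha) := by
    rintro _ ⟨y, rfl⟩ f hf'
    show pol (disp a y) f = 0
    rw [pol_symm]
    exact pol_of_fix ha h2 hf' y
  have hc := H92.F2Forms.card_perp polHom isQuad.nondeg (fixA ha)
  rw [card_vec] at hc
  have h4 := card_fix_range ha
  have e : Nat.card (H92.F2Forms.perp polHom (fixA ha)) = Nat.card (dispH ha).range := by
    have : Nat.card (dispH ha).range = Nat.card (Set.range (disp a)) := rfl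
    refine Nat.eq_of_mul_eq_mul_left (n := Nat.card (fixA ha)) Nat.card_pos ?_
    rw [this, h4, mul_comm]
    exact hc
  have he := AddSubgroup.eq_of_le_of_card_ge hle e.le
  have hm : u ∈ H92.F2Forms.perp polHom (fixA ha) := fun f hf' => h f hf'
  rw [← he] at hm
  exact hm

end Involution

/-! ### The pair -/

variable {G : Type*} [Group G] [Finite G] {z : G} {Q : Subgroup G}

/-- A conjugate of `z` commuting with `z`, outside `Q`, with `z` outside the conjugate of `Q`. -/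
structure Twin (Q : Subgroup G) (z g : G) : Prop where
  comm : g * z * g⁻¹ * z = z * (g * z * g⁻¹)
  hxQ : g * z * g⁻¹ ∉ Q
  hzR : g⁻¹ * z * g ∉ Q

/-- The part of the core centralising the conjugate. -/
def Xs (Q : Subgroup G) (z g : G) : Subgroup G := Q ⊓ Subgroup.centralizer ({g * z * g⁻¹} : Set G)

/-- The intersection of the two cores. -/
def Is (Q : Subgroup G) (g : G) : Subgroup G := Q ⊓ Q.map (MulAut.conj g).toMonoidHom

/-- The part of the conjugate core centralising `z`. -/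
def Ys (Q : Subgroup G) (z g : G) : Subgroup G :=
  Q.map (MulAut.conj g).toMonoidHom ⊓ Subgroup.centralizer ({z} : Set G)

omit [Finite G] in
theorem mem_Xs {g q : G} : q ∈ Xs Q z g ↔ q ∈ Q ∧ q * (g * z * g⁻¹) = g * z * g⁻¹ * q := by
  rw [Xs, Subgroup.mem_inf, Subgroup.mem_centralizer_singleton_iff]

omit [Finite G] in
theorem mem_Is {g a : G} : a ∈ Is Q g ↔ a ∈ Q ∧ g⁻¹ * a * g ∈ Q := by
  rw [Is, Subgroup.mem_inf]
  exact and_congr_right fun _ => by rw [Subgroup.mem_map_equiv]; simp [mul_assoc]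

omit [Finite G] in
theorem mem_Ys {g y : G} : y ∈ Ys Q z g ↔ g⁻¹ * y * g ∈ Q ∧ y * z = z * y := by
  rw [Ys, Subgroup.mem_inf, Subgroup.mem_centralizer_singleton_iff]
  exact and_congr_left fun _ => by rw [Subgroup.mem_map_equiv]; simp [mul_assoc]

variable (S : Std z Q)

namespace Twin

variable {g : G}

theorem symm (t : Twin Q z g) : Twin Q z g⁻¹ := by
  refine ⟨?_, by simpa using t.hzR, by simpa using t.hxQ⟩
  calc g⁻¹ * z * g⁻¹⁻¹ * z = g⁻¹ * (z * (g * z * g⁻¹)) * g := by group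
    _ = g⁻¹ * (g * z * g⁻¹ * z) * g := by rw [t.comm]
    _ = _ := by group

theorem x_sq (_t : Twin Q z g) (S : Std z Q) : g * z * g⁻¹ * (g * z * g⁻¹) = 1 := by
  calc g * z * g⁻¹ * (g * z * g⁻¹) = g * (z * z) * g⁻¹ := by group
    _ = 1 := by rw [S.z_sq]; group

/-- The image of the conjugate. -/
noncomputable def xb (g : G) : Equiv.Perm Vec := S.ρ (g * z * g⁻¹)

theorem xb_NS (t : Twin Q z g) : xb S g ∈ NS := S.ρ_NS _ t.comm

theorem xb_sq (t : Twin Q z g) : xb S g * xb S g = 1 := by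
  rw [xb, ← S.ρ_mul _ _ t.comm t.comm, t.x_sq S, S.ρ_one]

theorem xb_ne (t : Twin Q z g) : xb S g ≠ 1 := fun e => t.hxQ ((S.ρ_ker _ t.comm).1 e)

theorem Q_fix_of_comm (t : Twin Q z g) {q : G} (hq : q ∈ Q)
    (h : q * (g * z * g⁻¹) = g * z * g⁻¹ * q) : xb S g (S.π q) = S.π q := by
  rw [xb, ← S.ρ_π _ t.comm q hq, ← h, mul_inv_cancel_right]

theorem fix_cases (t : Twin Q z g) {q : G} (hq : q ∈ Q) (h : xb S g (S.π q) = S.π q) :
    g * z * g⁻¹ * q * (g * z * g⁻¹)⁻¹ = q ∨ g * z * g⁻¹ * q * (g * z * g⁻¹)⁻¹ = z * q :=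
  S.π_eq hq (S.norm _ t.comm q hq) (by rw [S.ρ_π _ t.comm q hq]; exact h.symm)

/-- The side of the conjugate has the order of the opposite side. -/
theorem card_Ys (g : G) : Nat.card (Ys Q z g) = Nat.card (Xs Q z g⁻¹) := by
  refine Nat.card_congr
    { toFun := fun y => ⟨g⁻¹ * y * g, ?_⟩
      invFun := fun q => ⟨g * q * g⁻¹, ?_⟩
      left_inv := fun y => Subtype.ext (by group)
      right_inv := fun q => Subtype.ext (by group) }
  · obtain ⟨h1, h2⟩ := mem_Ys.1 y.2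
    refine mem_Xs.2 ⟨h1, ?_⟩
    calc g⁻¹ * (y : G) * g * (g⁻¹ * z * g⁻¹⁻¹) = g⁻¹ * ((y : G) * z) * g := by group
      _ = _ := by rw [h2]; group
  · obtain ⟨h1, h2⟩ := mem_Xs.1 q.2
    refine mem_Ys.2 ⟨by simpa [mul_assoc] using h1, ?_⟩
    calc g * (q : G) * g⁻¹ * z = g * ((q : G) * (g⁻¹ * z * g⁻¹⁻¹)) * g⁻¹ := by group
      _ = _ := by rw [h2]; group

theorem card_Is_inv (g : G) : Nat.card (Is Q g⁻¹) = Nat.card (Is Q g) := by
  refine Nat.card_congr
    { toFun := fun a => ⟨g * a * g⁻¹, ?_⟩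
      invFun := fun a => ⟨g⁻¹ * a * g, ?_⟩
      left_inv := fun a => Subtype.ext (by group)
      right_inv := fun a => Subtype.ext (by group) }
  · obtain ⟨h1, h2⟩ := mem_Is.1 a.2
    exact mem_Is.2 ⟨by simpa using h2, by simpa [mul_assoc] using h1⟩
  · obtain ⟨h1, h2⟩ := mem_Is.1 a.2
    exact mem_Is.2 ⟨h2, by simpa [mul_assoc] using h1⟩

theorem Is_le (g : G) : Is Q g ≤ Q := inf_le_left

theorem Is_sq (t : Twin Q z g) (S : Std z Q) {a : G} (ha : a ∈ Is Q g) : a * a = 1 := by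
  obtain ⟨h1, h2⟩ := mem_Is.1 ha
  rcases zmod_two_cases (wt (S.π a)) with e | e
  · rw [S.sq a h1, e]; simp [zp]
  exfalso
  have e1 : a * a = z := by rw [S.sq a h1, e]; simp [zp]
  have e2 : g⁻¹ * z * g = zp z (wt (S.π (g⁻¹ * a * g))) :=
    calc g⁻¹ * z * g = g⁻¹ * a * g * (g⁻¹ * a * g) := by rw [← e1]; group
      _ = _ := S.sq _ h2
  refine t.hzR ?_
  rw [e2]
  rcases zmod_two_cases (wt (S.π (g⁻¹ * a * g))) with e' | e' <;> rw [e']
  · simpa [zp] using Q.one_mem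
  · simpa [zp] using S.hzQ

theorem Is_inj (t : Twin Q z g) (S : Std z Q) {a b : G} (ha : a ∈ Is Q g) (hb : b ∈ Is Q g)
    (h : S.π a = S.π b) : b = a := by
  refine (S.π_eq (mem_Is.1 ha).1 (mem_Is.1 hb).1 h).resolve_right fun e => t.hzR ?_
  have hm := (mem_Is.1 (mul_mem hb (inv_mem ha))).2
  rwa [e, mul_inv_cancel_right] at hm

theorem Is_central (t : Twin Q z g) (S : Std z Q) {q a : G} (hq : q ∈ Xs Q z g) (ha : a ∈ Is Q g) :
    q * a = a * q := by
  obtain ⟨hqQ, hqx⟩ := mem_Xs.1 hq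
  obtain ⟨haQ, haR⟩ := mem_Is.1 ha
  rcases zmod_two_cases (pol (S.π a) (S.π q)) with e | e
  · exact ((S.comm_iff haQ hqQ).2 e).symm
  exfalso
  have hc := S.comm a haQ q hqQ
  rw [e] at hc
  have hc' : q * a * q⁻¹ = a * z := by
    rw [hc, mul_inv_eq_iff_eq_mul]
    simp only [zp, one_ne_zero, if_false]
    rw [mul_assoc, mul_assoc, S.le q hqQ]
  -- the conjugate core is invariant
  have hq' : g⁻¹ * q * g * z = z * (g⁻¹ * q * g) := by
    calc g⁻¹ * q * g * z = g⁻¹ * (q * (g * z * g⁻¹)) * g := by group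
      _ = _ := by rw [hqx]; group
  have hm := S.norm _ hq' _ haR
  refine t.hzR ?_
  have e2 : g⁻¹ * z * g = (g⁻¹ * a * g)⁻¹ * (g⁻¹ * q * g * (g⁻¹ * a * g) * (g⁻¹ * q * g)⁻¹) :=
    calc g⁻¹ * z * g = g⁻¹ * (a⁻¹ * (q * a * q⁻¹)) * g := by rw [hc']; group
      _ = _ := by group
  rw [e2]
  exact mul_mem (inv_mem haR) hm

theorem Ys_central (t : Twin Q z g) (S : Std z Q) {y a : G} (hy : y ∈ Ys Q z g) (ha : a ∈ Is Q g) :
    y * a = a * y := by
  obtain ⟨h1, h2⟩ := mem_Ys.1 hy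
  obtain ⟨a1, a2⟩ := mem_Is.1 ha
  have h := t.symm.Is_central S (q := g⁻¹ * y * g) (a := g⁻¹ * a * g)
    (mem_Xs.2 ⟨h1, by
      calc g⁻¹ * y * g * (g⁻¹ * z * g⁻¹⁻¹) = g⁻¹ * (y * z) * g := by group
        _ = _ := by rw [h2]; group⟩)
    (mem_Is.2 ⟨a2, by simpa [mul_assoc] using a1⟩)
  calc y * a = g * ((g⁻¹ * y * g) * (g⁻¹ * a * g)) * g⁻¹ := by group
    _ = g * ((g⁻¹ * a * g) * (g⁻¹ * y * g)) * g⁻¹ := by rw [h]
    _ = _ := by group

theorem Ys_comm (t : Twin Q z g) (S : Std z Q) {y : G} (hy : y ∈ Ys Q z g) :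
    y * (g * z * g⁻¹) = g * z * g⁻¹ * y := by
  have h := S.le _ (mem_Ys.1 hy).1
  calc y * (g * z * g⁻¹) = g * (g⁻¹ * y * g * z) * g⁻¹ := by group
    _ = _ := by rw [h]; group

theorem x_mem_Ys (t : Twin Q z g) (S : Std z Q) : g * z * g⁻¹ ∈ Ys Q z g :=
  mem_Ys.2 ⟨by simpa [mul_assoc] using S.hzQ, t.comm⟩

/-- The image of the intersection. -/
noncomputable def I0 (g : G) : AddSubgroup Vec := S.piImage (Is Q g) (Is_le g)

theorem card_I0 (t : Twin Q z g) : Nat.card (I0 S g) = Nat.card (Is Q g) :=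
  (Nat.card_congr (Equiv.ofBijective
    (fun a : ↥(Is Q g) => (⟨S.π a, a, a.2, rfl⟩ : ↥(I0 S g)))
    ⟨fun a b e => Subtype.ext (t.Is_inj S a.2 b.2 (congrArg Subtype.val e)).symm,
      fun ⟨_, a, ha, rfl⟩ => ⟨⟨a, ha⟩, rfl⟩⟩)).symm

theorem I0_fix (t : Twin Q z g) {v : Vec} (hv : v ∈ I0 S g) : xb S g v = v := by
  obtain ⟨a, ha, rfl⟩ := hv
  exact t.Q_fix_of_comm S (mem_Is.1 ha).1 ((t.Ys_central S (t.x_mem_Ys S) ha).symm)

/-- The image of the side of the conjugate. -/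
noncomputable def Es (g : G) : Subgroup (Equiv.Perm Vec) :=
  ((Ys Q z g).subgroupOf (Subgroup.centralizer ({z} : Set G))).map S.rhoHom

theorem mem_Es {e : Equiv.Perm Vec} : e ∈ Es S g ↔ ∃ y ∈ Ys Q z g, S.ρ y = e := by
  constructor
  · rintro ⟨y, hy, rfl⟩
    exact ⟨y, hy, rfl⟩
  · rintro ⟨y, hy, rfl⟩
    exact ⟨⟨y, hy.2⟩, hy, rfl⟩

theorem Es_NS {e : Equiv.Perm Vec} (he : e ∈ Es S g) : e ∈ NS := by
  obtain ⟨y, hy, rfl⟩ := (mem_Es S).1 he
  exact S.ρ_NS y (mem_Ys.1 hy).2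

theorem Es_comm (t : Twin Q z g) {e : Equiv.Perm Vec} (he : e ∈ Es S g) :
    e * xb S g = xb S g * e := by
  obtain ⟨y, hy, rfl⟩ := (mem_Es S).1 he
  have hyz := (mem_Ys.1 hy).2
  rw [xb, ← S.ρ_mul _ _ hyz t.comm, ← S.ρ_mul _ _ t.comm hyz, t.Ys_comm S hy]

theorem card_Es (g : G) :
    Nat.card (Is Q g) * Nat.card (Es S g) = Nat.card (Xs Q z g⁻¹) := by
  rw [← card_Ys g]
  have hYC : Ys Q z g ≤ Subgroup.centralizer ({z} : Set G) := inf_le_right
  set Y' := (Ys Q z g).subgroupOf (Subgroup.centralizer ({z} : Set G)) with hY'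
  have hc := Subgroup.card_mul_index (S.rhoHom.comp Y'.subtype).ker
  rw [Subgroup.index_ker, MonoidHom.range_comp, Subgroup.range_subtype] at hc
  have hk : Nat.card ↥(S.rhoHom.comp Y'.subtype).ker = Nat.card (Is Q g) := by
    refine Nat.card_congr
      { toFun := fun y => ⟨((y.1 : ↥(Subgroup.centralizer ({z} : Set G))) : G), ?_⟩
        invFun := fun a => ⟨⟨⟨a, ?_⟩, ?_⟩, ?_⟩
        left_inv := fun y => rfl
        right_inv := fun a => rfl }
    · have hm : ((y.1 : ↥(Subgroup.centralizer ({z} : Set G))) : G) ∈ Ys Q z g := y.1.2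
      exact mem_Is.2 ⟨(S.ρ_ker _ (mem_Ys.1 hm).2).1 (MonoidHom.mem_ker.1 y.2), (mem_Ys.1 hm).1⟩
    · exact Subgroup.mem_centralizer_singleton_iff.2 (S.le _ (mem_Is.1 a.2).1)
    · show (a : G) ∈ Ys Q z g
      exact mem_Ys.2 ⟨(mem_Is.1 a.2).2, S.le _ (mem_Is.1 a.2).1⟩
    · exact MonoidHom.mem_ker.2 ((S.ρ_ker (a : G) (S.le _ (mem_Is.1 a.2).1)).2 (mem_Is.1 a.2).1)
  rw [hk, Nat.card_congr (Subgroup.subgroupOfEquivOfLe hYC).toEquiv] at hc
  exact hc

theorem Es_I0 (t : Twin Q z g) {e : Equiv.Perm Vec} (he : e ∈ Es S g) {v : Vec}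
    (hv : v ∈ I0 S g) : e v = v := by
  obtain ⟨y, hy, rfl⟩ := (mem_Es S).1 he
  obtain ⟨a, ha, rfl⟩ := hv
  rw [← S.ρ_π y (mem_Ys.1 hy).2 a (mem_Is.1 ha).1, t.Ys_central S hy ha, mul_inv_cancel_right]

theorem Es_moves (t : Twin Q z g) {e : Equiv.Perm Vec} (he : e ∈ Es S g) {q : G}
    (hq : q ∈ Xs Q z g) : disp e (S.π q) ∈ I0 S g := by
  obtain ⟨y, hy, rfl⟩ := (mem_Es S).1 he
  obtain ⟨hy1, hy2⟩ := mem_Ys.1 hy
  obtain ⟨hq1, hq2⟩ := mem_Xs.1 hq
  have hm := S.norm y hy2 q hq1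
  refine ⟨y * q * y⁻¹ * q⁻¹, mem_Is.2 ⟨mul_mem hm (inv_mem hq1), ?_⟩, ?_⟩
  · have hq' : g⁻¹ * q * g * z = z * (g⁻¹ * q * g) := by
      calc g⁻¹ * q * g * z = g⁻¹ * (q * (g * z * g⁻¹)) * g := by group
        _ = _ := by rw [hq2]; group
    have h := mul_mem hy1 (S.norm _ hq' _ (inv_mem hy1))
    have e : g⁻¹ * (y * q * y⁻¹ * q⁻¹) * g =
        g⁻¹ * y * g * (g⁻¹ * q * g * (g⁻¹ * y * g)⁻¹ * (g⁻¹ * q * g)⁻¹) := by group
    rw [e]
    exact h
  · rw [S.π_mul _ hm _ (inv_mem hq1), S.π_inv hq1, S.ρ_π y hy2 q hq1]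
    rfl

/-- The preimage of the fixed vectors. -/
def Pre (t : Twin Q z g) (S : Std z Q) : Subgroup G where
  carrier := {q | q ∈ Q ∧ xb S g (S.π q) = S.π q}
  one_mem' := ⟨Q.one_mem, by rw [S.π_one]; exact (fixA (t.xb_NS S)).zero_mem⟩
  mul_mem' := fun {a b} ha hb => ⟨mul_mem ha.1 hb.1, by
    rw [S.π_mul a ha.1 b hb.1]; exact (fixA (t.xb_NS S)).add_mem ha.2 hb.2⟩
  inv_mem' := fun {a} ha => ⟨inv_mem ha.1, by rw [S.π_inv ha.1]; exact ha.2⟩

theorem card_Pre (t : Twin Q z g) :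
    Nat.card (t.Pre S) = 2 * Nat.card (fixA (t.xb_NS S)) := by
  have hz : z ∈ t.Pre S := ⟨S.hzQ, by rw [S.π_z]; exact (fixA (t.xb_NS S)).zero_mem⟩
  rw [S.card_piImage (t.Pre S) (fun _ h => h.1) hz]
  congr 1
  refine congrArg (fun W : AddSubgroup Vec => Nat.card W) (AddSubgroup.ext fun v => ?_)
  constructor
  · rintro ⟨q, hq, rfl⟩
    exact hq.2
  · intro hv
    obtain ⟨q, hq, rfl⟩ := S.π_surj v
    exact ⟨q, ⟨hq, hv⟩, rfl⟩

theorem Xs_le_Pre (t : Twin Q z g) : Xs Q z g ≤ t.Pre S := fun _ hq =>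
  ⟨(mem_Xs.1 hq).1, t.Q_fix_of_comm S (mem_Xs.1 hq).1 (mem_Xs.1 hq).2⟩

/-- All core elements over fixed vectors centralise the conjugate. -/
def Flat (S : Std z Q) (g : G) : Prop :=
  ∀ q ∈ Q, xb S g (S.π q) = S.π q → q * (g * z * g⁻¹) = g * z * g⁻¹ * q

theorem card_Xs_flat (t : Twin Q z g) (h : Flat S g) :
    Nat.card (Xs Q z g) = 2 * Nat.card (fixA (t.xb_NS S)) := by
  rw [← t.card_Pre S]
  refine congrArg (fun W : Subgroup G => Nat.card W) (le_antisymm (t.Xs_le_Pre S) ?_)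
  exact fun q hq => mem_Xs.2 ⟨hq.1, h q hq.1 hq.2⟩

theorem exists_shift (t : Twin Q z g) (h : ¬ Flat S g) :
    ∃ s ∈ Q, xb S g (S.π s) = S.π s ∧ s * (g * z * g⁻¹) * s⁻¹ = g * z * g⁻¹ * z := by
  rw [Flat] at h
  push Not at h
  obtain ⟨s, hs, hfix, hne⟩ := h
  refine ⟨s, hs, hfix, ?_⟩
  rcases t.fix_cases S hs hfix with e | e
  · exact absurd (mul_inv_eq_iff_eq_mul.1 e).symm hne
  · have hsz : s * z = z * s := S.le s hs
    have hxs : g * z * g⁻¹ * s = z * s * (g * z * g⁻¹) := mul_inv_eq_iff_eq_mul.1 e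
    rw [mul_inv_eq_iff_eq_mul]
    calc s * (g * z * g⁻¹) = z * z * s * (g * z * g⁻¹) := by rw [S.z_sq, one_mul]
      _ = z * (g * z * g⁻¹ * s) := by rw [hxs]; group
      _ = g * z * g⁻¹ * z * s := by rw [← mul_assoc, ← t.comm]

theorem shift_mul (t : Twin Q z g) {s q : G} (hs : s ∈ Q)
    (hsx : s * (g * z * g⁻¹) * s⁻¹ = g * z * g⁻¹ * z)
    (hq : q ∈ t.Pre S) (hqn : q ∉ Xs Q z g) : s * q ∈ Xs Q z g := by
  refine mem_Xs.2 ⟨mul_mem hs hq.1, ?_⟩
  rcases t.fix_cases S hq.1 hq.2 with e | e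
  · exact absurd (mem_Xs.2 ⟨hq.1, (mul_inv_eq_iff_eq_mul.1 e).symm⟩) hqn
  · have hxq : g * z * g⁻¹ * q = z * q * (g * z * g⁻¹) := mul_inv_eq_iff_eq_mul.1 e
    have hsx' : s * (g * z * g⁻¹) = g * z * g⁻¹ * z * s := mul_inv_eq_iff_eq_mul.1 hsx
    calc s * q * (g * z * g⁻¹) = s * (z * z) * q * (g * z * g⁻¹) := by rw [S.z_sq, mul_one]
      _ = s * z * (z * q * (g * z * g⁻¹)) := by group
      _ = s * z * (g * z * g⁻¹ * q) := by rw [hxq]
      _ = s * (z * (g * z * g⁻¹)) * q := by group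
      _ = s * (g * z * g⁻¹ * z) * q := by rw [t.comm]
      _ = s * (g * z * g⁻¹) * z * q := by group
      _ = g * z * g⁻¹ * z * (s * z) * q := by rw [hsx']; group
      _ = g * z * g⁻¹ * (z * z) * s * q := by rw [S.le s hs]; group
      _ = g * z * g⁻¹ * (s * q) := by rw [S.z_sq, mul_one, mul_assoc]

theorem card_Xs_ge (t : Twin Q z g) :
    Nat.card (fixA (t.xb_NS S)) ≤ Nat.card (Xs Q z g) := by
  classical
  by_cases h : Flat S g
  · rw [t.card_Xs_flat S h]; omega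
  obtain ⟨s, hs, -, hsx⟩ := t.exists_shift S h
  have hle := Nat.card_le_card_of_injective
    (fun q : ↥(t.Pre S) => if hq : (q : G) ∈ Xs Q z g then ((true, ⟨q, hq⟩) : Bool × ↥(Xs Q z g))
      else (false, ⟨s * q, t.shift_mul S hs hsx q.2 hq⟩))
    (fun a b e => by
      dsimp only at e
      split_ifs at e <;> simp at e <;> exact Subtype.ext (by simpa using e))
  rw [t.card_Pre S, Nat.card_prod, Nat.card_eq_fintype_card (α := Bool), Fintype.card_bool] at hle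
  omega

theorem Is_perp (t : Twin Q z g) {v : Vec} (hv : v ∈ I0 S g) {q : G} (hq : q ∈ Xs Q z g) :
    pol v (S.π q) = 0 := by
  obtain ⟨a, ha, rfl⟩ := hv
  rw [← S.comm_iff (mem_Is.1 ha).1 (mem_Xs.1 hq).1]
  exact (t.Is_central S hq ha).symm

theorem flat_I0 (t : Twin Q z g) (h : Flat S g) {v : Vec} (hv : v ∈ I0 S g) :
    v ∈ Set.range (disp (xb S g)) := by
  refine range_of_pol (t.xb_NS S) (t.xb_sq S) fun f hf' => ?_
  obtain ⟨q, hq, rfl⟩ := S.π_surj f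
  exact t.Is_perp S hv (mem_Xs.2 ⟨hq, h q hq hf'⟩)

theorem disp_commutator (t : Twin Q z g) {r : G} (hr : r ∈ Q) :
    (g * z * g⁻¹)⁻¹ * (r * (g * z * g⁻¹) * r⁻¹) ∈ Q ∧
    S.π ((g * z * g⁻¹)⁻¹ * (r * (g * z * g⁻¹) * r⁻¹)) = disp (xb S g) (S.π r) := by
  have hxz : (g * z * g⁻¹)⁻¹ * z = z * (g * z * g⁻¹)⁻¹ := S.z_comm_inv t.comm
  have hm := S.norm _ hxz r hr
  have e : (g * z * g⁻¹)⁻¹ * (r * (g * z * g⁻¹) * r⁻¹) =
      (g * z * g⁻¹)⁻¹ * r * ((g * z * g⁻¹)⁻¹)⁻¹ * r⁻¹ := by group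
  rw [e]
  refine ⟨mul_mem hm (inv_mem hr), ?_⟩
  rw [S.π_mul _ hm _ (inv_mem hr), S.π_inv hr, S.ρ_π _ hxz r hr, inv_eq_of_mul_eq_one_right (t.x_sq S)]
  rfl

end Twin

end Cfsg.Agent.H92.Fi24Std
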